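import Groth.Agent.Intersect.Snapper
import Groth.Agent.Devissage.Power
import Groth.Agent.Devissage.Filt
import Groth.Agent.NegTwist.Main
import Groth.Agent.TMul.RelAmple

/-!
Two coherent modules isomorphic on an open, without sections supported outside it, have a common
submodule with cokernels supported outside that open.
-/

set_option autoImplicit false
set_option backward.isDefEq.respectTransparency false
set_option linter.style.haveILetI false
set_option linter.unusedSectionVars false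

universe u

open CategoryTheory CategoryTheory.Limits AlgebraicGeometry TopologicalSpace Opposite
open Groth.Agent.CohFinite
open Groth.Agent.QC (res resO res_res res_self app_res)
open Groth.Agent.WeakAssLib (mgerm stalkHom stalkHom_germ mgerm_res ext_germ stalkHom_injective)
open Groth.Agent.Devissage (unitE pb pbFst pbSnd)

noncomputable section

namespace Groth.Agent.Intersect

variable {Y : Scheme.{u}}

theorem stalk_surjective_unitE (U : Y.Opens) (M : Y.Modules) {x : Y} (hx : x ∈ U) :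
    Function.Surjective (stalkHom (unitE U M) x) := by
  intro c
  obtain ⟨W, hxW, t, rfl⟩ :=
    ((Scheme.Modules.pushforward U.ι).obj (M.restrict U.ι)).presheaf.exists_germ_eq (x := x) c
  let W' : Y.Opens := U ⊓ W
  have hW : W' ≤ W := inf_le_right
  have hxW' : x ∈ W' := ⟨hx, hxW⟩
  have hle : W' ≤ U.ι ''ᵁ U.ι ⁻¹ᵁ W := (Devissage.image_preimage_ι U W).ge
  let t' : Γ(M, U.ι ''ᵁ U.ι ⁻¹ᵁ W) := t
  let a : Γ(M, W') := res M hle t'
  refine ⟨mgerm M hxW' a, ?_⟩
  refine (stalkHom_germ (unitE U M) hxW' a).trans ?_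
  have e : (unitE U M).app W' a = res ((Scheme.Modules.pushforward U.ι).obj (M.restrict U.ι)) hW t := by
    show res M (U.ι.image_preimage_le W') a = res M (U.ι.image_mono (U.ι.preimage_mono hW)) t'
    rw [res_res]
  rw [e]
  exact mgerm_res _ hW hxW' t

variable [IsNoetherian Y]

theorem exists_comparison_off {G₁ G₂ : Y.Modules} (h₁ : Coh.IsCoh G₁) (h₂ : Coh.IsCoh G₂) (U : Y.Opens)
    (e : G₁.restrict U.ι ≅ G₂.restrict U.ι) [Mono (unitE U G₁)] [Mono (unitE U G₂)] :
    ∃ (P : Y.Modules) (a : P ⟶ G₁) (b : P ⟶ G₂), Mono a ∧ Mono b ∧ Coh.IsCoh P ∧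
      CohB1.support (cokernel a) ⊆ (U : Set Y)ᶜ ∩ CohB1.support G₁ ∧
      CohB1.support (cokernel b) ⊆ (U : Set Y)ᶜ ∩ CohB1.support G₂ := by
  let u := unitE U G₁ ≫ ((Scheme.Modules.pushforward U.ι).mapIso e).hom
  let v := unitE U G₂
  haveI : Mono u := mono_comp _ _
  haveI : Mono v := ‹_›
  have ha : Mono (pbFst u v) := Devissage.mono_pbFst u v
  have hb : Mono (pbSnd u v) := Devissage.mono_pbSnd u v
  have hq : Coh.IsQCoh (pb u v) := Devissage.isQCoh_pb h₁.1 h₂.1 (Devissage.isQCoh_pushE h₂.1 U) u v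
  have hsub : ∀ {N M : Y.Modules} (f : N ⟶ M) [Mono f],
      CohB1.support (cokernel f) ⊆ CohB1.support M := fun f _ x hx =>
    (ClSubLib.support_shortExact _ (Devissage.cokSeq_shortExact f)).symm ▸ Or.inr hx
  refine ⟨pb u v, pbFst u v, pbSnd u v, ha, hb, Groth.Agent.QC.isCoh_of_mono (pbFst u v) h₁ hq, fun x hx => ⟨?_, hsub _ hx⟩,
    fun x hx => ⟨?_, hsub _ hx⟩⟩ <;> intro hxU <;>
    refine Devissage.notMem_support_of_surjective _ (Devissage.cokSeq_shortExact _) x (fun m => ?_) hx
  · obtain ⟨n, hn⟩ := stalk_surjective_unitE U G₂ hxU (stalkHom u x m)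
    obtain ⟨z, hz, -⟩ := Devissage.exists_pb_stalk u v x m n hn.symm
    exact ⟨z, hz⟩
  · obtain ⟨n, hn⟩ := stalk_surjective_unitE U G₁ hxU
      (stalkHom ((Scheme.Modules.pushforward U.ι).mapIso e).inv x (stalkHom v x m))
    obtain ⟨z, -, hz⟩ := Devissage.exists_pb_stalk u v x n m (by
      rw [Devissage.stalkHom_comp, hn, ← Devissage.stalkHom_comp, Iso.inv_hom_id, Devissage.stalkHom_id])
    exact ⟨z, hz⟩

/-- A piece twisted by an invertible module has no sections supported away from the generic point. -/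
theorem mono_unitE_A_tensor (ξ : Y) {L : Y.Modules} (hL : PicF.IsInvertible L) (U : Y.Opens) (hξ : ξ ∈ U) :
    Mono (unitE U (CohB1.tensorMod (Devissage.A ξ) L)) := by
  obtain ⟨L', hL', ⟨e⟩⟩ := W7Hull.exists_tensor_inverse hL
  let G := CohB1.tensorMod (Devissage.A ξ) L
  let K := kernel (unitE U G)
  let i : K ⟶ G := kernel.ι _
  have hK : CohB1.support K ⊆ (U : Set Y)ᶜ := Devissage.support_kernel_unitE U G
  have hi : Mono (tmap i L') :=
    (shortExact_tmap hL' (Devissage.cokSeq_shortExact i)).mono_f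
  let j : CohB1.tensorMod K L' ⟶ Devissage.A ξ := tmap i L' ≫ (TMul.assocIso _ _ _ ≪≫
    PicGrp.tensorModIso (Iso.refl _) e ≪≫ TMul.commIso _ _ ≪≫ TMul.leftUnitIso _).hom
  haveI : Mono j := mono_comp _ _
  have hns : ξ ∉ CohB1.support (CohB1.tensorMod K L') := fun h =>
    support_tensor_subset U.isOpen.isClosed_compl hK L' h hξ
  have h0 : IsZero (CohB1.tensorMod K L') := by
    refine (IsZero.iff_id_eq_zero _).2 ((cancel_mono j).1 (Scheme.Modules.hom_ext _ _ fun W => ?_))
    ext t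
    have : (j.app W) t = 0 := Devissage.A_sep ξ _ fun hξW => by
      rw [← stalkHom_germ, Devissage.germ_eq_zero_of_notMem hξW t hns, map_zero]
    simpa using this
  have h1 : IsZero (CohB1.tensorMod (CohB1.tensorMod K L') L) :=
    Devissage.isZero_of_support (Set.subset_empty_iff.mp
      (support_tensor_subset isClosed_empty (Devissage.support_of_isZero h0).le L))
  have h2 : IsZero K := h1.of_iso (TMul.assocIso _ _ _ ≪≫ PicGrp.tensorModIso (Iso.refl _) (TMul.commIso _ _ ≪≫ e) ≪≫
    TMul.commIso _ _ ≪≫ TMul.leftUnitIso _).symm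
  exact Preadditive.mono_of_kernel_zero (h2.eq_of_src _ _)

theorem mono_unitE_A (ξ : Y) (U : Y.Opens) (hξ : ξ ∈ U) : Mono (unitE U (Devissage.A ξ)) := by
  refine (Groth.Agent.QC.mono_iff_app_injective _).2 fun W => (injective_iff_map_eq_zero _).2 fun t ht => ?_
  exact Devissage.A_sep ξ t fun hξW => (Devissage.unitE_eq_zero_iff U _ t).1 ht ξ hξW hξ

variable {X : Scheme.{u}} (g : Y ⟶ X)

/-- A pulled back line bundle is trivial over the preimage of a trivialising open. -/
theorem exists_twist_restrict_iso (G : Y.Modules) {L : X.Modules} (hL : PicF.IsInvertible L) (x : X) :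
    ∃ V : X.Opens, x ∈ V ∧
      Nonempty ((CohB1.tensorMod G ((Scheme.Modules.pullback g).obj L)).restrict (g ⁻¹ᵁ V).ι ≅
        G.restrict (g ⁻¹ᵁ V).ι) := by
  obtain ⟨V, hxV, ⟨e⟩⟩ := CurveRR.isFinLocFreeOfRank_one hL x
  obtain ⟨e'⟩ := ModDesc.exists_free_pullback g e
  obtain ⟨r⟩ := TMul.nonempty_restrictTensorIso (g ⁻¹ᵁ V).ι G ((Scheme.Modules.pullback g).obj L)
  exact ⟨V, hxV, ⟨r.symm ≪≫ PicGrp.tensorModIso (Iso.refl _)
    (e' ≪≫ coproductUniqueIso (fun _ : Fin 1 => Coh.structureModule ((g ⁻¹ᵁ V : Y.Opens) : Scheme.{u}))) ≪≫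
    TMul.commIso _ _ ≪≫ TMul.leftUnitIso _⟩⟩

end Groth.Agent.Intersect
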