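import Groth.Agent.Intersect.Snapper
import Groth.Agent.Devissage.Support
import Groth.Agent.CohFinite.RPushCoh
import Groth.Agent.W7Gen.Affine
import Groth.Agent.ClSubLib.AnnIdeal
import Groth.Agent.DerPush.Basic
import Groth.Agent.S7552

/-!
Direct images of coherent modules along proper morphisms: coherence, support, and exactness at
points over which the support is finite.
-/

set_option autoImplicit false
set_option backward.isDefEq.respectTransparency false
set_option linter.style.haveILetI false
set_option linter.unusedSectionVars false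

universe u

open CategoryTheory CategoryTheory.Limits AlgebraicGeometry TopologicalSpace Opposite
open Groth.Agent.CohFinite
open Groth.Agent.QC (res resO res_res res_self app_res)
open Groth.Agent.WeakAssLib (mgerm stalkHom stalkHom_germ mgerm_res ext_germ)

noncomputable section

namespace Groth.Agent.Intersect

variable {X Y : Scheme.{u}} (g : Y ⟶ X)

/-- The direct image of a coherent module along a proper morphism is coherent. -/
theorem isCoh_push' [IsLocallyNoetherian X] [IsProper g] {F : Y.Modules} (hF : Coh.IsCoh F) :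
    Coh.IsCoh ((Scheme.Modules.pushforward g).obj F) :=
  CohFinite.isCoh_of_iso (asIso ((Scheme.Modules.pushforward g).toRightDerivedZero.app F)).symm
    (CohFinite.isCoh_rpush g F hF 0)

/-- The support of a direct image is contained in the image of the support. -/
theorem support_push_subset {F : Y.Modules} {T : Set Y} (hT : IsClosed (g '' T))
    (hFT : CohB1.support F ⊆ T) : CohB1.support ((Scheme.Modules.pushforward g).obj F) ⊆ g '' T := by
  intro w hw
  by_contra hwT
  refine hw (subsingleton_of_forall_eq 0 fun m => ?_)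
  obtain ⟨W, hwW, t, rfl⟩ := ((Scheme.Modules.pushforward g).obj F).presheaf.exists_germ_eq (x := w) m
  let W' : X.Opens := W ⊓ ⟨(g '' T)ᶜ, hT.isOpen_compl⟩
  have hle : W' ≤ W := inf_le_left
  have hw' : w ∈ W' := ⟨hwW, hwT⟩
  have h0 : res ((Scheme.Modules.pushforward g).obj F) hle t = 0 := by
    refine ext_germ F (U := g ⁻¹ᵁ W') _ fun y hy => ?_
    exact Devissage.germ_eq_zero_of_notMem hy _ fun hyF => hy.2 ⟨y, hFT hyF, rfl⟩
  refine (mgerm_res _ hle hw' t).symm.trans ?_
  rw [h0, map_zero]

/-- Direct images of surjections are surjective at points over which the kernel has finite support. -/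
theorem stalk_surjective_push [IsProper g] {S : ShortComplex Y.Modules} (hS : S.ShortExact)
    (h₁ : Coh.IsCoh S.X₁) (w : X) (hw : (g ⁻¹' {w} ∩ CohB1.support S.X₁).Finite) :
    Function.Surjective (stalkHom ((Scheme.Modules.pushforward g).map S.g) w) := by
  let J := ClSubLib.annIdeal S.X₁ h₁.1 h₁.2
  have hk : ClSub.KilledByIdeal J.subschemeι.ker S.X₁ := by
    rw [Scheme.IdealSheafData.ker_subschemeι]; exact ClSubLib.killedBy_annIdeal S.X₁ h₁.1 h₁.2
  obtain ⟨G, hG, ⟨e⟩⟩ := ClSubLib.exists_pushforward_iso J.subschemeι S.X₁ h₁ hk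
  haveI := hG.1
  let h : J.subscheme ⟶ X := J.subschemeι ≫ g
  have hfib : ((h : J.subscheme ⟶ X) ⁻¹' {w}).Finite := by
    refine Set.Finite.of_finite_image (f := J.subschemeι) (hw.subset ?_)
      J.subschemeι.isClosedEmbedding.injective.injOn
    rintro _ ⟨z, hz, rfl⟩
    exact ⟨hz, (ClSubLib.range_annIdeal S.X₁ h₁.1 h₁.2).le ⟨z, rfl⟩⟩
  obtain ⟨V, hwV, hfin⟩ := exists_isFinite_morphismRestrict_of_finite_preimage_singleton h w hfib
  intro m
  obtain ⟨W, hwW, t, rfl⟩ := ((Scheme.Modules.pushforward g).obj S.X₃).presheaf.exists_germ_eq (x := w) m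
  obtain ⟨V', hV', hwV', hle⟩ := exists_isAffineOpen_mem_and_subset (X := X) (U := W ⊓ V) (show w ∈ W ⊓ V from ⟨hwW, hwV⟩)
  have hleW : V' ≤ W := fun x hx => (hle hx).1
  have hleV : V' ≤ V := fun x hx => (hle hx).2
  have haff : IsAffineOpen (J.subschemeι ⁻¹ᵁ (g ⁻¹ᵁ V')) := by
    have h1 : IsAffineOpen (V.ι ⁻¹ᵁ V') := hV'.preimage_of_isOpenImmersion V.ι (by
      rw [Scheme.Opens.opensRange_ι]; exact hleV)
    have h2 := (h1.preimage (h ∣_ V)).image_of_isOpenImmersion (h ⁻¹ᵁ V).ι
    convert h2 using 1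
    show (J.subschemeι ≫ g) ⁻¹ᵁ V' = _
    rw [← Scheme.Hom.comp_preimage (h ∣_ V), morphismRestrict_ι, Scheme.Hom.comp_preimage (h ⁻¹ᵁ V).ι h,
      Scheme.Hom.image_preimage_eq_opensRange_inf, Scheme.Opens.opensRange_ι]
    exact (inf_eq_right.mpr fun x hx => hleV hx).symm
  have hacy : W7Gen.AcyAt S.X₁ (g ⁻¹ᵁ V') :=
    W7Gen.AcyAt.congr e fun q => CohQC.hu_push_vanish J.subschemeι G (g ⁻¹ᵁ V') haff q
  obtain ⟨a, ha⟩ := W7Gen.app_surjective_of_acyAt hS hacy
    (res ((Scheme.Modules.pushforward g).obj S.X₃) hleW t)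
  let a' : Γ((Scheme.Modules.pushforward g).obj S.X₂, V') := a
  refine ⟨mgerm ((Scheme.Modules.pushforward g).obj S.X₂) hwV' a', ?_⟩
  refine (stalkHom_germ ((Scheme.Modules.pushforward g).map S.g) hwV' a').trans ?_
  refine (congrArg (mgerm ((Scheme.Modules.pushforward g).obj S.X₃) hwV') ha).trans ?_
  exact mgerm_res _ hleW hwV' t

/-- Images under proper maps do not raise dimension. -/
theorem dim_image_le [IsProper g] {T : Set Y} (hT : IsClosed T) :
    topologicalKrullDim (g '' T : Set X) ≤ topologicalKrullDim T := by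
  have hgT : IsClosed (g '' T) := g.isClosedMap T hT
  haveI : QuasiSober (g '' T : Set X) := hgT.isClosedEmbedding_subtypeVal.quasiSober
  let f : T → (g '' T : Set X) := fun y => ⟨g y.1, y.1, y.2, rfl⟩
  have hc : Continuous f := Continuous.subtype_mk (g.continuous.comp continuous_subtype_val) _
  have hs : Function.Surjective f := fun ⟨_, y, hy, e⟩ => ⟨⟨y, hy⟩, Subtype.ext e⟩
  refine Groth.Agent.S7552.result f hc hs (Or.inl (IsClosedMap.specializingMap ?_))
  intro C hC
  refine isClosed_induced_iff.mpr ⟨g '' (Subtype.val '' C), g.isClosedMap _ (hT.isClosedEmbedding_subtypeVal.isClosedMap C hC), ?_⟩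
  ext ⟨x, hx⟩
  simp only [Set.mem_preimage, Set.mem_image, f, Subtype.ext_iff]
  constructor
  · rintro ⟨y, ⟨z, hz, rfl⟩, e⟩
    exact ⟨z, hz, e⟩
  · rintro ⟨z, hz, e⟩
    exact ⟨z.1, ⟨z, hz, rfl⟩, e⟩

/-- The image of the closure of a point is the closure of its image. -/
theorem image_closure [IsProper g] (ξ : Y) : g '' closure {ξ} = closure {g ξ} := by
  refine Set.Subset.antisymm ?_ ?_
  · exact (image_closure_subset_closure_image g.continuous).trans (by rw [Set.image_singleton])
  · exact closure_minimal (Set.singleton_subset_iff.mpr ⟨ξ, subset_closure rfl, rfl⟩)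
      (g.isClosedMap _ isClosed_closure)

end Groth.Agent.Intersect
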