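import Groth.Agent.Intersect.Apps
import Groth.Agent.Intersect.Push
import Groth.Agent.Intersect.IsoOff
import Groth.Agent.W7Hull.AmpleSurj

/-!
Intersection numbers and direct images along proper morphisms.
-/

set_option autoImplicit false
set_option backward.isDefEq.respectTransparency false
set_option linter.style.haveILetI false
set_option linter.unusedSectionVars false

universe u

open CategoryTheory CategoryTheory.Limits AlgebraicGeometry TopologicalSpace Opposite
open Groth.Agent.CohFinite
open Groth.Agent.WeakAssLib (stalkHom)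
open Groth.Agent.Devissage (unitE)

noncomputable section

namespace Groth.Agent.Intersect

variable {X Y : Scheme.{u}}

theorem lt_succ_of_le' {x : WithBot ℕ∞} {n : ℕ} (h : x ≤ (n : WithBot ℕ∞)) :
    x < ((n + 1 : ℕ) : WithBot ℕ∞) :=
  lt_of_le_of_lt h (by
    rw [show ((n + 1 : ℕ) : WithBot ℕ∞) = (((n + 1 : ℕ) : ℕ∞) : WithBot ℕ∞) from rfl,
      show ((n : ℕ) : WithBot ℕ∞) = ((n : ℕ∞) : WithBot ℕ∞) from rfl, WithBot.coe_lt_coe]
    exact_mod_cast Nat.lt_succ_self n)

theorem le_of_lt_succ' : ∀ {x : WithBot ℕ∞} {n : ℕ}, x < ((n + 1 : ℕ) : WithBot ℕ∞) → x ≤ (n : WithBot ℕ∞) := by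
  intro x n h
  induction x using WithBot.recBotCoe with
  | bot => exact bot_le
  | coe a =>
    rw [show ((n + 1 : ℕ) : WithBot ℕ∞) = (((n + 1 : ℕ) : ℕ∞) : WithBot ℕ∞) from rfl, WithBot.coe_lt_coe] at h
    rw [show ((n : ℕ) : WithBot ℕ∞) = ((n : ℕ∞) : WithBot ℕ∞) from rfl, WithBot.coe_le_coe]
    exact Order.le_of_lt_add_one (by simpa using h)

theorem dim_mono {A B : Set X} (h : A ⊆ B) : topologicalKrullDim A ≤ topologicalKrullDim B :=
  (Topology.IsEmbedding.inclusion h).isInducing.topologicalKrullDim_le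

/-- A closed subset of a point closure missing the point has smaller dimension. -/
theorem dim_proper_lt {ξ : X} {n : ℕ} (h : topologicalKrullDim (closure {ξ} : Set X) < ((n + 1 : ℕ) : WithBot ℕ∞))
    {S : Set X} (hS : IsClosed S) (hsub : S ⊆ closure {ξ}) (hξ : ξ ∉ S) :
    topologicalKrullDim S < (n : WithBot ℕ∞) := by
  haveI : IrreducibleSpace (closure {ξ} : Set X) :=
    isIrreducible_iff_irreducibleSpace.mp isIrreducible_singleton.closure
  refine lt_of_le_of_lt ?_ (FreeJ.dim_lt_of_proper h {z : (closure {ξ} : Set X) | z.1 ∈ S}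
    (hS.preimage continuous_subtype_val) (fun he => hξ (he.ge (Set.mem_univ ⟨ξ, subset_closure rfl⟩))))
  exact Topology.IsInducing.topologicalKrullDim_le
    (f := fun z : S => (⟨⟨z.1, hsub z.2⟩, z.2⟩ : {z : (closure {ξ} : Set X) | z.1 ∈ S}))
    (Topology.IsInducing.subtypeVal.of_comp_iff.mp (Topology.IsInducing.subtypeVal.of_comp_iff.mp Topology.IsInducing.subtypeVal))

/-- Over a point whose closure has the maximal dimension the fibre is finite. -/
theorem finite_fibre [IsNoetherian Y] (g : Y ⟶ X) [IsProper g] {B : Set Y} (hB : IsClosed B) {n : ℕ}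
    (hd : topologicalKrullDim B ≤ n) {w : X} (hw : topologicalKrullDim (closure {w} : Set X) = (n : WithBot ℕ∞)) :
    (g ⁻¹' {w} ∩ B).Finite := by
  refine (finite_top hB hd).subset fun y ⟨hy, hyB⟩ => ⟨hyB, le_antisymm ((dim_closure_le hB hyB).trans hd) ?_⟩
  rw [← hw, ← show g y = w from hy, ← image_closure g y]
  exact dim_image_le g isClosed_closure

variable (k : Type u) [Field k] [X.Over (Spec (CommRingCat.of k))] [IsProper (X ↘ Spec (CommRingCat.of k))]
  [Y.Over (Spec (CommRingCat.of k))] [IsProper (Y ↘ Spec (CommRingCat.of k))]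
  (g : Y ⟶ X) [IsProper g]

/-- Degree bound by the dimension of the image. -/
theorem χt_mem_image {r : ℕ} {L : Fin r → X.Modules} (hL : ∀ i, PicF.IsInvertible (L i)) :
    ∀ (D : ℕ) (F : Y.Modules), Coh.IsCoh F →
      topologicalKrullDim (g '' CohB1.support F : Set X) < (D : WithBot ℕ∞) →
      χt k F (fun i => (Scheme.Modules.pullback g).obj (L i)) ∈ PS r D := by
  haveI := CurveRR.isNoetherian_of_proper k Y
  haveI := CurveRR.isNoetherian_of_proper k X
  have hL' : ∀ i, PicF.IsInvertible ((Scheme.Modules.pullback g).obj (L i)) := fun i =>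
    PicLoc.isInvertible_pullback g (hL i)
  intro D
  induction D with
  | zero =>
    intro F hF hd
    rw [χt_empty k hL' hF]
    · exact zero_mem _
    intro x hx
    haveI : Nonempty (g '' CohB1.support F : Set X) := ⟨⟨g x, x, hx, rfl⟩⟩
    haveI : Nonempty (IrreducibleCloseds (g '' CohB1.support F : Set X)) :=
      ⟨⟨_, (isIrreducible_singleton (x := (⟨g x, x, hx, rfl⟩ : (g '' CohB1.support F : Set X)))).closure, isClosed_closure⟩⟩
    exact absurd hd (not_lt.2 Order.krullDim_nonneg)
  | succ D ih =>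
    intro F hF hd
    let B : Closeds Y := ⟨CohB1.support F, Groth.Agent.QC.isClosed_support hF.2⟩
    let L' : Fin r → Y.Modules := fun i => (Scheme.Modules.pullback g).obj (L i)
    refine Devissage.twothree (fun F => χt k F L' ∈ PS r (D + 1)) (fun M hM => ?_) B (fun S hS h₁ h₂ h₃ _ => ?_)
      (fun ξ hξ => Or.inr ⟨Devissage.A ξ, Devissage.isCoh_A ξ, Devissage.support_A_subset ξ,
        (Devissage.piece_A ξ).mem, (CurveRR.Multi.simpleAt_A ξ).1, ?_⟩) F hF le_rfl
    · rw [χt_empty k hL' (CohFinite.isCoh_of_iso ((isZero_cokernel_of_epi (𝟙 (Coh.structureModule Y))).iso hM)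
        (Groth.Agent.QC.isCoh_cokernel RefStalk.isCoh_structureModule.1 RefStalk.isCoh_structureModule _))]
      · exact zero_mem _
      exact fun x hx => hx (ModuleCat.subsingleton_of_isZero ((DerSch.stalkFunctor Y x).map_isZero hM))
    · have h := χt_add k hL' hS h₁ h₂ h₃
      exact ⟨fun a b => by have := sub_mem b a; rwa [h, add_sub_cancel_left] at this,
        fun a b => h ▸ add_mem a b, fun a b => by have := sub_mem a b; rwa [h, add_sub_cancel_right] at this⟩
    refine mem_of_shift fun i => ?_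
    have hsubB : closure ({g ξ} : Set X) ⊆ g '' CohB1.support F := by
      rw [← image_closure g ξ]
      exact Set.image_mono (closure_minimal (Set.singleton_subset_iff.mpr hξ) B.isClosed)
    have hdim := lt_of_le_of_lt (dim_mono hsubB) hd
    obtain ⟨V, hV, ⟨e⟩⟩ := exists_twist_restrict_iso g (Devissage.A ξ) (hL i) (g ξ)
    have hA := Devissage.isCoh_A ξ
    have hG : Coh.IsCoh (CohB1.tensorMod (Devissage.A ξ) (L' i)) := isCoh_twist k hA (hL' i)
    haveI := mono_unitE_A_tensor ξ (hL' i) (g ⁻¹ᵁ V) hV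
    haveI := mono_unitE_A ξ (g ⁻¹ᵁ V) hV
    obtain ⟨P', a, b, ha, hb, hP', hca, hcb⟩ := exists_comparison_off hG hA (g ⁻¹ᵁ V) e
    have hsmall : ∀ Q : Y.Modules, Coh.IsCoh Q →
        CohB1.support Q ⊆ ((g ⁻¹ᵁ V : Y.Opens) : Set Y)ᶜ ∩ closure {ξ} → χt k Q L' ∈ PS r D := fun Q hQ hs => by
      refine ih Q hQ (dim_proper_lt hdim (g.isClosedMap _ (Groth.Agent.QC.isClosed_support hQ.2)) ?_ ?_)
      · rw [← image_closure g ξ]; exact Set.image_mono (hs.trans Set.inter_subset_right)
      · rintro ⟨y, hy, e'⟩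
        refine (hs hy).1 ?_
        show g y ∈ V
        rw [e']; exact hV
    have hcA := Groth.Agent.QC.isCoh_cokernel hP'.1 hA b
    have hcH := Groth.Agent.QC.isCoh_cokernel hP'.1 hG a
    have h1 := χt_add k hL' (Devissage.cokSeq_shortExact a) hP' hG hcH
    have h2 := χt_add k hL' (Devissage.cokSeq_shortExact b) hP' hA hcA
    change χt k (CohB1.tensorMod (Devissage.A ξ) (L' i)) L' = χt k P' L' + χt k (cokernel a) L' at h1
    change χt k (Devissage.A ξ) L' = χt k P' L' + χt k (cokernel b) L' at h2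
    have key : (fun n => χt k (Devissage.A ξ) L' (n + Pi.single i 1) - χt k (Devissage.A ξ) L' n) =
        χt k (cokernel a) L' - χt k (cokernel b) L' := by
      funext n
      obtain ⟨w⟩ := nonempty_N_add L' n i
      have : χt k (Devissage.A ξ) L' (n + Pi.single i 1) = χt k (CohB1.tensorMod (Devissage.A ξ) (L' i)) L' n := by
        rw [χt, χt, CurveRR.euler_eq_of_iso (PicGrp.tensorModIso (Iso.refl _) w ≪≫ (TMul.assocIso _ _ _).symm)]
      rw [this, congrFun h1 n, congrFun h2 n]
      simp only [Pi.add_apply, Pi.sub_apply]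
      ring
    rw [key]
    refine sub_mem (hsmall _ hcH (hca.trans (Set.inter_subset_inter_right _
      (support_tensor_subset isClosed_closure (Devissage.support_A_subset ξ) _))))
      (hsmall _ hcA (hcb.trans (Set.inter_subset_inter_right _ (Devissage.support_A_subset ξ))))

include k in
/-- Direct images are additive for intersection numbers. -/
theorem alt_push_add {r : ℕ} {M : Fin r → X.Modules} (hM : ∀ i, PicF.IsInvertible (M i))
    {S : ShortComplex Y.Modules} (hS : S.ShortExact) (h₁ : Coh.IsCoh S.X₁) (h₂ : Coh.IsCoh S.X₂)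
    (h₃ : Coh.IsCoh S.X₃) (hd : topologicalKrullDim (g '' CohB1.support S.X₃ : Set X) ≤ r)
    (hfib : ∀ w ∈ g '' CohB1.support S.X₃, topologicalKrullDim (closure {w} : Set X) = (r : WithBot ℕ∞) →
      (g ⁻¹' {w} ∩ CohB1.support S.X₁).Finite) :
    alt (χt k ((Scheme.Modules.pushforward g).obj S.X₂) M) =
      alt (χt k ((Scheme.Modules.pushforward g).obj S.X₁) M) +
        alt (χt k ((Scheme.Modules.pushforward g).obj S.X₃) M) := by
  haveI := CurveRR.isNoetherian_of_proper k X
  let F := Scheme.Modules.pushforward g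
  haveI : PreservesLimitsOfSize.{0, 0} F := (Scheme.Modules.pullbackPushforwardAdjunction g).rightAdjoint_preservesLimits
  have hz : F.map S.f ≫ F.map S.g = 0 := by rw [← F.map_comp, S.zero, F.map_zero]
  haveI := hS.mono_f
  haveI : Mono (F.map S.f) := inferInstance
  have hex : (S.map F).Exact := hS.exact.map_of_mono_of_preservesKernel F inferInstance inferInstance
  let c := cokernel.desc (F.map S.f) (F.map S.g) hz
  haveI : Mono c := hex.mono_cokernelDesc
  have hp₁ := isCoh_push' g h₁
  have hp₂ := isCoh_push' g h₂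
  have hp₃ := isCoh_push' g h₃
  have hC := Groth.Agent.QC.isCoh_cokernel hp₁.1 hp₂ (F.map S.f)
  have hQ := Groth.Agent.QC.isCoh_cokernel hC.1 hp₃ c
  have e1 := χt_add k hM (Devissage.cokSeq_shortExact (F.map S.f)) hp₁ hp₂ hC
  have e2 := χt_add k hM (Devissage.cokSeq_shortExact c) hC hp₃ hQ
  change χt k (F.obj S.X₂) M = χt k (F.obj S.X₁) M + χt k (cokernel (F.map S.f)) M at e1
  change χt k (F.obj S.X₃) M = χt k (cokernel (F.map S.f)) M + χt k (cokernel c) M at e2
  have hsupp : CohB1.support (cokernel c) ⊆ g '' CohB1.support S.X₃ := fun x hx =>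
    support_push_subset g (g.isClosedMap _ (Groth.Agent.QC.isClosed_support h₃.2)) le_rfl
      ((ClSubLib.support_shortExact _ (Devissage.cokSeq_shortExact c)).symm ▸ Or.inr hx)
  have hdQ : topologicalKrullDim (CohB1.support (cokernel c)) ≤ r := (dim_mono hsupp).trans hd
  have h0 : alt (χt k (cokernel c) M) = 0 := by
    refine (alt_comp k _ hQ hdQ hM ∅ fun w => ⟨fun h => absurd h (Finset.notMem_empty w), fun hw => ?_⟩).trans
      Finset.sum_empty
    refine absurd hw.1 (Devissage.notMem_support_of_surjective _ (Devissage.cokSeq_shortExact c) w fun m => ?_)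
    obtain ⟨n, hn⟩ := stalk_surjective_push g hS h₁ w (hfib w (hsupp hw.1) hw.2) m
    refine ⟨stalkHom (cokernel.π (F.map S.f)) w n, ?_⟩
    rw [← Devissage.stalkHom_comp, cokernel.π_desc]
    exact hn
  rw [e1, e2, alt_add, alt_add, h0, add_zero]

/-- Sections of the direct image, linearly. -/
theorem finrank_sec_push (hg : g ≫ (X ↘ Spec (CommRingCat.of k)) = Y ↘ Spec (CommRingCat.of k)) (F : Y.Modules) :
    CurveRR.h k ((Scheme.Modules.pushforward g).obj F) 0 = CurveRR.h k F 0 := by
  letI := CurveRR.secMod k F ⊤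
  letI := CurveRR.secMod k ((Scheme.Modules.pushforward g).obj F) ⊤
  rw [← CurveRR.finrank_sec, ← CurveRR.finrank_sec]
  let e : Γ((Scheme.Modules.pushforward g).obj F, ⊤) →ₗ[k] Γ(F, ⊤) :=
    { toFun := fun s => s
      map_add' := fun _ _ => rfl
      map_smul' := fun a s => by
        show (g.app ⊤ (CurveRR.cst k X ⊤ a) • (show Γ(F, g ⁻¹ᵁ ⊤) from s) : Γ(F, g ⁻¹ᵁ ⊤)) =
          (show Γ(Y, g ⁻¹ᵁ ⊤) from CurveRR.cst k Y ⊤ a) • (show Γ(F, g ⁻¹ᵁ ⊤) from s)
        congr 1
        simp only [CurveRR.cst, RingHom.comp_apply, Groth.Agent.QC.resO_self, Coh.toGlobal, ← hg]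
        rfl }
  exact (LinearEquiv.ofBijective e Function.bijective_id).finrank_eq

theorem euler_push_zero (hg : g ≫ (X ↘ Spec (CommRingCat.of k)) = Y ↘ Spec (CommRingCat.of k))
    {F : Y.Modules} (hF : Coh.IsCoh F) (hd : topologicalKrullDim (CohB1.support F) ≤ 0) :
    Curv2.euler k Y F = Curv2.euler k X ((Scheme.Modules.pushforward g).obj F) := by
  haveI := CurveRR.isNoetherian_of_proper k Y
  haveI := CurveRR.isNoetherian_of_proper k X
  have hS := Groth.Agent.QC.isClosed_support hF.2
  have hS' : IsClosed (g '' CohB1.support F) := g.isClosedMap _ hS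
  have hd' := (dim_image_le g hS).trans hd
  have hv : ∀ i, 1 ≤ i → Subsingleton (Coh.HH Y F i) := fun i hi =>
    SuppZero.subsingleton_hh_of_supported hS hd F (fun x hxS hx' => hxS hx') i hi
  have hv' : ∀ i, 1 ≤ i → Subsingleton (Coh.HH X ((Scheme.Modules.pushforward g).obj F) i) := fun i hi =>
    SuppZero.subsingleton_hh_of_supported hS' hd' _ (fun x hxS hx' => hxS (support_push_subset g hS' le_rfl hx')) i hi
  rw [CurveRR.euler_eq_h0 hv, CurveRR.euler_eq_h0 hv', finrank_sec_push k g hg]

/-- Intersection numbers of pulled back modules are those of the direct image. -/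
theorem alt_push (hg : g ≫ (X ↘ Spec (CommRingCat.of k)) = Y ↘ Spec (CommRingCat.of k)) :
    ∀ (r : ℕ) (M : Fin r → X.Modules), (∀ i, PicF.IsInvertible (M i)) → ∀ F : Y.Modules, Coh.IsCoh F →
      topologicalKrullDim (CohB1.support F) ≤ r →
      alt (χt k F (fun i => (Scheme.Modules.pullback g).obj (M i))) =
        alt (χt k ((Scheme.Modules.pushforward g).obj F) M) := by
  haveI := CurveRR.isNoetherian_of_proper k Y
  haveI := CurveRR.isNoetherian_of_proper k X
  intro r
  induction r with
  | zero =>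
    intro M hM F hF hd
    rw [alt_zero, alt_zero, euler_push_zero k g hg hF (by simpa using hd)]
  | succ r ih =>
    intro M hM F hF hd
    let A₀ := M 0
    let M' : Fin r → X.Modules := Fin.tail M
    let A₀' := (Scheme.Modules.pullback g).obj A₀
    let N' : Fin r → Y.Modules := fun i => (Scheme.Modules.pullback g).obj (M' i)
    let MY : Fin (r + 1) → Y.Modules := fun i => (Scheme.Modules.pullback g).obj (M i)
    have eY : MY = Fin.cons A₀' N' := funext fun i => by cases i using Fin.cases <;> rfl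
    have eX : M = Fin.cons A₀ M' := (Fin.cons_self_tail M).symm
    have hA : PicF.IsInvertible A₀ := hM 0
    have hA' : PicF.IsInvertible A₀' := PicLoc.isInvertible_pullback g hA
    have hM' : ∀ i, PicF.IsInvertible (M' i) := fun i => hM i.succ
    have hN' : ∀ i, PicF.IsInvertible (N' i) := fun i => PicLoc.isInvertible_pullback g (hM' i)
    have hMY : ∀ i, PicF.IsInvertible (MY i) := fun i => PicLoc.isInvertible_pullback g (hM i)
    let B : Closeds Y := ⟨CohB1.support F, Groth.Agent.QC.isClosed_support hF.2⟩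
    refine Devissage.twothree
      (fun G => alt (χt k G MY) = alt (χt k ((Scheme.Modules.pushforward g).obj G) M))
      (fun G hG => ?_) B (fun S hS h₁ h₂ h₃ hSB => ?_)
      (fun ξ hξ => Or.inr ⟨Devissage.A ξ, Devissage.isCoh_A ξ, Devissage.support_A_subset ξ,
        (Devissage.piece_A ξ).mem, (CurveRR.Multi.simpleAt_A ξ).1, ?_⟩) F hF le_rfl
    · have hsupp : CohB1.support G ⊆ ∅ := fun x hx =>
        hx (ModuleCat.subsingleton_of_isZero ((DerSch.stalkFunctor Y x).map_isZero hG))
      have hGc := CohFinite.isCoh_of_iso ((isZero_cokernel_of_epi (𝟙 (Coh.structureModule Y))).iso hG)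
        (Groth.Agent.QC.isCoh_cokernel RefStalk.isCoh_structureModule.1 RefStalk.isCoh_structureModule _)
      have hsupp' : CohB1.support ((Scheme.Modules.pushforward g).obj G) ⊆ ∅ :=
        (support_push_subset g (T := ∅) (by simp) hsupp).trans (by simp)
      rw [χt_empty k hMY hGc hsupp, χt_empty k hM (isCoh_push' g hGc) hsupp']

    · have hsub : CohB1.support S.X₁ ⊆ (B : Set Y) ∧ CohB1.support S.X₃ ⊆ (B : Set Y) :=
        ⟨fun x hx => hSB ((ClSubLib.support_shortExact _ hS).symm ▸ Or.inl hx),
          fun x hx => hSB ((ClSubLib.support_shortExact _ hS).symm ▸ Or.inr hx)⟩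
      have hadd := alt_push_add k g hM hS h₁ h₂ h₃
        (((dim_image_le g (Groth.Agent.QC.isClosed_support h₃.2)).trans (dim_mono hsub.2)).trans hd)
        (fun w _ hw => (finite_fibre g B.isClosed hd hw).subset (Set.inter_subset_inter_right _ hsub.1))
      have h := congrArg alt (χt_add k hMY hS h₁ h₂ h₃)
      rw [alt_add] at h
      exact ⟨fun a b => by linarith, fun a b => by linarith, fun a b => by linarith⟩
    have hA₁ := Devissage.isCoh_A ξ
    have hdξ : topologicalKrullDim (closure {ξ} : Set Y) ≤ ((r + 1 : ℕ) : WithBot ℕ∞) :=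
      (dim_closure_le B.isClosed hξ).trans hd
    have himg : g '' CohB1.support (Devissage.A ξ) ⊆ closure {g ξ} := by
      rw [← image_closure g ξ]; exact Set.image_mono (Devissage.support_A_subset ξ)
    by_cases hη : topologicalKrullDim (closure {g ξ} : Set X) < ((r + 1 : ℕ) : WithBot ℕ∞)
    · have h0 : alt (χt k (Devissage.A ξ) MY) = 0 :=
        alt_eq_zero le_rfl (χt_mem_image k g hM (r + 1) _ hA₁ (lt_of_le_of_lt (dim_mono himg) hη))
      rw [h0, alt_eq_zero_of_dim k (isCoh_push' g hA₁) hM]
      refine lt_of_le_of_lt (dim_mono ?_) hη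
      exact (support_push_subset g (g.isClosedMap _ isClosed_closure) (Devissage.support_A_subset ξ)).trans
        (image_closure g ξ).le
    obtain ⟨V, hV, ⟨e⟩⟩ := exists_twist_restrict_iso g (Devissage.A ξ) hA (g ξ)
    have hG := isCoh_twist k hA₁ hA'
    haveI := mono_unitE_A_tensor ξ hA' (g ⁻¹ᵁ V) hV
    haveI := mono_unitE_A ξ (g ⁻¹ᵁ V) hV
    obtain ⟨P', a, b, ha, hb, hP', hca, hcb⟩ := exists_comparison_off hG hA₁ (g ⁻¹ᵁ V) e
    have hsG : CohB1.support (CohB1.tensorMod (Devissage.A ξ) A₀') ⊆ closure {ξ} :=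
      support_tensor_subset isClosed_closure (Devissage.support_A_subset ξ) _
    have hPs : CohB1.support P' ⊆ closure {ξ} := (Devissage.support_subset_of_mono b).trans (Devissage.support_A_subset ξ)
    have hsm : ∀ Q : Y.Modules, Coh.IsCoh Q →
        CohB1.support Q ⊆ ((g ⁻¹ᵁ V : Y.Opens) : Set Y)ᶜ ∩ closure {ξ} →
        topologicalKrullDim (CohB1.support Q) ≤ r := fun Q hQ hs =>
      le_of_lt_succ' (dim_proper_lt (lt_succ_of_le' hdξ) (Groth.Agent.QC.isClosed_support hQ.2)
        (hs.trans Set.inter_subset_right) (fun h => (hs h).1 hV))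
    have hfib : ∀ w : X, topologicalKrullDim (closure {w} : Set X) = (r : WithBot ℕ∞) →
        (g ⁻¹' {w} ∩ CohB1.support P').Finite := fun w hw => by
      let T : Set Y := closure {ξ} ∩ g ⁻¹' closure {w}
      have hT : IsClosed T := isClosed_closure.inter (isClosed_closure.preimage g.continuous)
      have hξT : ξ ∉ T := fun h => hη (lt_of_le_of_lt ((dim_mono (closure_minimal
        (Set.singleton_subset_iff.mpr (show g ξ ∈ closure {w} from h.2)) isClosed_closure)).trans hw.le) (lt_succ_of_le' le_rfl))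
      refine (finite_fibre g hT (le_of_lt_succ' (dim_proper_lt (lt_succ_of_le' hdξ) hT
        Set.inter_subset_left hξT)) hw).subset fun y hy => ⟨hy.1, hPs hy.2, ?_⟩
      show g y ∈ closure {w}
      rw [show g y = w from hy.1]
      exact subset_closure rfl
    have hQa := Groth.Agent.QC.isCoh_cokernel hP'.1 hG a
    have hQb := Groth.Agent.QC.isCoh_cokernel hP'.1 hA₁ b
    have hsa := hca.trans (Set.inter_subset_inter_right _ hsG)
    have hsb := hcb.trans (Set.inter_subset_inter_right _ (Devissage.support_A_subset ξ))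
    have y1 := congrArg alt (χt_add k hN' (Devissage.cokSeq_shortExact a) hP' hG hQa)
    have y2 := congrArg alt (χt_add k hN' (Devissage.cokSeq_shortExact b) hP' hA₁ hQb)
    rw [alt_add] at y1 y2
    have x1 := alt_push_add k g hM' (Devissage.cokSeq_shortExact a) hP' hG hQa
      ((dim_image_le g (Groth.Agent.QC.isClosed_support hQa.2)).trans (hsm _ hQa hsa)) (fun w _ => hfib w)
    have x2 := alt_push_add k g hM' (Devissage.cokSeq_shortExact b) hP' hA₁ hQb
      ((dim_image_le g (Groth.Agent.QC.isClosed_support hQb.2)).trans (hsm _ hQb hsb)) (fun w _ => hfib w)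
    have ia := ih M' hM' _ hQa (hsm _ hQa hsa)
    have ib := ih M' hM' _ hQb (hsm _ hQb hsb)
    haveI := W7Hull.isIso_projMap_of_invertible g (Devissage.A ξ) hA
    have ep : χt k (CohB1.tensorMod ((Scheme.Modules.pushforward g).obj (Devissage.A ξ)) A₀) M' =
        χt k ((Scheme.Modules.pushforward g).obj (CohB1.tensorMod (Devissage.A ξ) A₀')) M' :=
      χt_iso k (asIso (CohFinite.projMap g (Devissage.A ξ) A₀)) M'
    rw [eY, eX, alt_cons, alt_cons, ep]
    change alt (χt k (CohB1.tensorMod (Devissage.A ξ) A₀') N') = alt (χt k P' N') + alt (χt k (cokernel a) N') at y1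
    change alt (χt k (Devissage.A ξ) N') = alt (χt k P' N') + alt (χt k (cokernel b) N') at y2
    change alt (χt k ((Scheme.Modules.pushforward g).obj (CohB1.tensorMod (Devissage.A ξ) A₀')) M') =
      alt (χt k ((Scheme.Modules.pushforward g).obj P') M') +
        alt (χt k ((Scheme.Modules.pushforward g).obj (cokernel a)) M') at x1
    change alt (χt k ((Scheme.Modules.pushforward g).obj (Devissage.A ξ)) M') =
      alt (χt k ((Scheme.Modules.pushforward g).obj P') M') +
        alt (χt k ((Scheme.Modules.pushforward g).obj (cokernel b)) M') at x2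
    linarith

end Groth.Agent.Intersect
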