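import Groth.Agent.Intersect.Apps2
import Groth.Agent.Intersect.PushDeg
import Groth.Prelude.Def_Pic13

/-!
Symmetry, linearity and numerical invariance of intersection numbers.
-/

set_option autoImplicit false
set_option backward.isDefEq.respectTransparency false
set_option linter.style.haveILetI false
set_option linter.unusedSectionVars false

universe u

open CategoryTheory CategoryTheory.Limits AlgebraicGeometry TopologicalSpace Opposite
open Groth.Agent.CohFinite

noncomputable section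

namespace Groth.Agent.Intersect

variable {X : Scheme.{u}} {r : ℕ}

/-- Additive functions vanishing on the pieces vanish. -/
theorem eq_zero_of_pieces [IsNoetherian X] (f : X.Modules → ℚ) (B : Closeds X)
    (h0 : ∀ M : X.Modules, IsZero M → f M = 0)
    (hadd : ∀ S : ShortComplex X.Modules, S.ShortExact → Coh.IsCoh S.X₁ → Coh.IsCoh S.X₂ → Coh.IsCoh S.X₃ →
      CohB1.support S.X₂ ⊆ (B : Set X) → f S.X₂ = f S.X₁ + f S.X₃)
    (hA : ∀ ξ ∈ B, f (Devissage.A ξ) = 0) {F : X.Modules} (hF : Coh.IsCoh F)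
    (hFB : CohB1.support F ⊆ (B : Set X)) : f F = 0 := by
  refine Devissage.twothree (fun G => f G = 0) h0 B (fun S hS h₁ h₂ h₃ hSB => ?_)
    (fun ξ hξ => Or.inr ⟨Devissage.A ξ, Devissage.isCoh_A ξ, Devissage.support_A_subset ξ,
      (Devissage.piece_A ξ).mem, (CurveRR.Multi.simpleAt_A ξ).1, hA ξ hξ⟩) F hF hFB
  have h := hadd S hS h₁ h₂ h₃ hSB
  exact ⟨fun a b => by linarith, fun a b => by linarith, fun a b => by linarith⟩

variable (k : Type u) [Field k] [X.Over (Spec (CommRingCat.of k))] [IsProper (X ↘ Spec (CommRingCat.of k))]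

theorem alt_isZero {M : Fin r → X.Modules} (hM : ∀ i, PicF.IsInvertible (M i)) {F : X.Modules} (h : IsZero F) :
    alt (χt k F M) = 0 := by
  haveI := CurveRR.isNoetherian_of_proper k X
  rw [χt_empty k hM (CohFinite.isCoh_of_iso ((isZero_cokernel_of_epi (𝟙 (Coh.structureModule X))).iso h)
    (Groth.Agent.QC.isCoh_cokernel RefStalk.isCoh_structureModule.1 RefStalk.isCoh_structureModule _))
    fun x hx => hx (ModuleCat.subsingleton_of_isZero ((DerSch.stalkFunctor X x).map_isZero h))]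
  simp [alt]

/-- Two linear combinations agreeing on pieces agree. -/
theorem alt_eq_of_pieces {M M' : Fin r → X.Modules} (hM : ∀ i, PicF.IsInvertible (M i))
    (hM' : ∀ i, PicF.IsInvertible (M' i)) (c : ℚ) {F : X.Modules} (hF : Coh.IsCoh F) {n : ℕ}
    (hd : topologicalKrullDim (CohB1.support F) ≤ n)
    (hA : ∀ ξ : X, topologicalKrullDim (closure {ξ} : Set X) ≤ n →
      alt (χt k (Devissage.A ξ) M) = c * alt (χt k (Devissage.A ξ) M')) :
    alt (χt k F M) = c * alt (χt k F M') := by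
  haveI := CurveRR.isNoetherian_of_proper k X
  have hB := Groth.Agent.QC.isClosed_support hF.2
  refine sub_eq_zero.mp (eq_zero_of_pieces (fun G => alt (χt k G M) - c * alt (χt k G M'))
    ⟨CohB1.support F, hB⟩ (fun G hG => by rw [alt_isZero k hM hG, alt_isZero k hM' hG]; ring)
    (fun S hS h₁ h₂ h₃ _ => ?_) (fun ξ hξ => sub_eq_zero.mpr (hA ξ ((dim_closure_le hB hξ).trans hd))) hF le_rfl)
  rw [χt_add k hM hS h₁ h₂ h₃, χt_add k hM' hS h₁ h₂ h₃, alt_add, alt_add]
  ring

/-- One entry reduces a piece to smaller sheaves. -/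
theorem alt_piece (ξ : X) (hξ : topologicalKrullDim (closure {ξ} : Set X) ≤ ((r + 1 : ℕ) : WithBot ℕ∞))
    {A : X.Modules} (hA : PicF.IsInvertible A) :
    ∃ Qa Qb : X.Modules, Coh.IsCoh Qa ∧ Coh.IsCoh Qb ∧ topologicalKrullDim (CohB1.support Qa) ≤ r ∧
      topologicalKrullDim (CohB1.support Qb) ≤ r ∧ ∀ M : Fin r → X.Modules, (∀ i, PicF.IsInvertible (M i)) →
        alt (χt k (Devissage.A ξ) (Fin.cons A M)) = alt (χt k Qb M) - alt (χt k Qa M) := by
  haveI := CurveRR.isNoetherian_of_proper k X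
  obtain ⟨e⟩ := nonempty_H_iso ξ A
  have hA₁ := Devissage.isCoh_A ξ
  have hH : Coh.IsCoh (H ξ A) := CohFinite.isCoh_of_iso e.symm (isCoh_twist k hA₁ hA)
  obtain ⟨P', a, b, ha, hb, hP', hca, hcb⟩ := exists_comparison ξ hA hH
  have hQa := Groth.Agent.QC.isCoh_cokernel hP'.1 hH a
  have hQb := Groth.Agent.QC.isCoh_cokernel hP'.1 hA₁ b
  have hd : ∀ Q : X.Modules, Coh.IsCoh Q → Devissage.IsSmall ξ Q → topologicalKrullDim (CohB1.support Q) ≤ r :=
    fun Q hQ hs => le_of_lt_succ' (dim_proper_lt (lt_succ_of_le' hξ) (Groth.Agent.QC.isClosed_support hQ.2) hs.1 hs.2)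
  refine ⟨_, _, hQa, hQb, hd _ hQa hca, hd _ hQb hcb, fun M hM => ?_⟩
  have h1 := congrArg alt (χt_add k hM (Devissage.cokSeq_shortExact a) hP' hH hQa)
  have h2 := congrArg alt (χt_add k hM (Devissage.cokSeq_shortExact b) hP' hA₁ hQb)
  rw [alt_add] at h1 h2
  change alt (χt k (H ξ A) M) = alt (χt k P' M) + alt (χt k (cokernel a) M) at h1
  change alt (χt k (Devissage.A ξ) M) = alt (χt k P' M) + alt (χt k (cokernel b) M) at h2
  rw [alt_cons, ← χt_iso k e M, h1, h2]
  ring

/-- Change of the tail, given equality in smaller dimension. -/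
theorem alt_cons_congr {A : X.Modules} (hA : PicF.IsInvertible A) {M M' : Fin r → X.Modules}
    (hM : ∀ i, PicF.IsInvertible (M i)) (hM' : ∀ i, PicF.IsInvertible (M' i)) (c : ℚ)
    (ih : ∀ G : X.Modules, Coh.IsCoh G → topologicalKrullDim (CohB1.support G) ≤ r →
      alt (χt k G M) = c * alt (χt k G M'))
    {F : X.Modules} (hF : Coh.IsCoh F) (hd : topologicalKrullDim (CohB1.support F) ≤ ((r + 1 : ℕ) : WithBot ℕ∞)) :
    alt (χt k F (Fin.cons A M)) = c * alt (χt k F (Fin.cons A M')) := by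
  refine alt_eq_of_pieces k (isInvertible_cons hA hM) (isInvertible_cons hA hM') c hF hd fun ξ hξ => ?_
  obtain ⟨Qa, Qb, hQa, hQb, da, db, h⟩ := alt_piece k ξ hξ hA
  rw [h M hM, h M' hM', ih Qa hQa da, ih Qb hQb db]
  ring

theorem alt_swap (F A B : X.Modules) (M : Fin r → X.Modules) :
    alt (χt k F (Fin.cons A (Fin.cons B M))) = alt (χt k F (Fin.cons B (Fin.cons A M))) := by
  rw [alt_cons, alt_cons k F B M, alt_cons k _ B M, alt_cons k F B, alt_cons k F A M, alt_cons k _ A M,
    χt_iso k (TMul.assocIso F A B ≪≫ PicGrp.tensorModIso (Iso.refl F) (TMul.commIso A B) ≪≫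
      (TMul.assocIso F B A).symm) M]
  ring

theorem alt_cons_unit (F : X.Modules) (M : Fin r → X.Modules) :
    alt (χt k F (Fin.cons (Coh.structureModule X) M)) = 0 := by
  rw [alt_cons, χt_iso k (TMul.commIso F (Coh.structureModule X) ≪≫ TMul.leftUnitIso F) M, sub_self]

theorem alt_cons_iso (F : X.Modules) {A A' : X.Modules} (e : A ≅ A') (M : Fin r → X.Modules) :
    alt (χt k F (Fin.cons A M)) = alt (χt k F (Fin.cons A' M)) := by
  rw [alt_cons, alt_cons, χt_iso k (PicGrp.tensorModIso (Iso.refl F) e) M]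

/-- Multiples in one entry. -/
theorem alt_cons_pow {F L : X.Modules} (hF : Coh.IsCoh F) (hL : PicF.IsInvertible L) {M : Fin r → X.Modules}
    (hM : ∀ i, PicF.IsInvertible (M i))
    (hd : topologicalKrullDim (CohB1.support F) ≤ ((r + 1 : ℕ) : WithBot ℕ∞)) :
    ∀ n : ℕ, alt (χt k F (Fin.cons (CohB1.tensorPow L n) M)) = (n : ℚ) * alt (χt k F (Fin.cons L M))
  | 0 => by
    rw [show CohB1.tensorPow L 0 = Coh.structureModule X from rfl, alt_cons_unit]
    simp
  | n + 1 => by
    rw [show CohB1.tensorPow L (n + 1) = CohB1.tensorMod (CohB1.tensorPow L n) L from rfl,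
      alt_additive k hF (TMul.isInvertible_tensorPow hL n) hL hM (lt_succ_of_le' hd), alt_cons_pow hF hL hM hd n]
    push_cast
    ring

/-- Inverse modules change the sign. -/
theorem alt_inverse : ∀ (r : ℕ) (L M : Fin r → X.Modules), (∀ i, PicF.IsInvertible (L i)) →
    (∀ i, PicF.IsInvertible (M i)) → (∀ i, Nonempty (CohB1.tensorMod (L i) (M i) ≅ Coh.structureModule X)) →
    ∀ F : X.Modules, Coh.IsCoh F → topologicalKrullDim (CohB1.support F) ≤ r →
      alt (χt k F M) = (-1 : ℚ) ^ r * alt (χt k F L) := by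
  intro r
  induction r with
  | zero => intro L M _ _ _ F _ _; rw [alt_zero, alt_zero]; simp
  | succ r ih =>
    intro L M hL hM hLM F hF hd
    have hL' : ∀ i, PicF.IsInvertible (Fin.tail L i) := fun i => hL i.succ
    have hM' : ∀ i, PicF.IsInvertible (Fin.tail M i) := fun i => hM i.succ
    obtain ⟨e⟩ := hLM 0
    have h0 := alt_additive k hF (hL 0) (hM 0) hM' (lt_succ_of_le' hd)
    rw [alt_cons_iso k F e, alt_cons_unit] at h0
    have h1 := alt_cons_congr k (hL 0) hM' hL' ((-1 : ℚ) ^ r)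
      (ih (Fin.tail L) (Fin.tail M) hL' hM' fun i => hLM i.succ) hF hd
    rw [Fin.cons_self_tail] at h0 h1
    rw [pow_succ]
    linarith

/-- Numerical equivalence, tested on integral curves. -/
def NumEq (A A' : X.Modules) : Prop :=
  ∀ ξ : X, topologicalKrullDim (closure {ξ} : Set X) = ((1 : ℕ) : WithBot ℕ∞) →
    Curv2.euler k X (CohB1.tensorMod (Devissage.A ξ) A) = Curv2.euler k X (CohB1.tensorMod (Devissage.A ξ) A')

/-- Intersection numbers depend only on numerical classes. -/
theorem alt_numeric : ∀ (r : ℕ) (M M' : Fin r → X.Modules), (∀ i, PicF.IsInvertible (M i)) →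
    (∀ i, PicF.IsInvertible (M' i)) → (∀ i, NumEq k (M i) (M' i)) →
    ∀ F : X.Modules, Coh.IsCoh F → topologicalKrullDim (CohB1.support F) ≤ r →
      alt (χt k F M) = alt (χt k F M') := by
  haveI := CurveRR.isNoetherian_of_proper k X
  intro r
  induction r with
  | zero => intro M M' _ _ _ F _ _; rw [alt_zero, alt_zero]
  | succ r ih =>
    intro M M' hM hM' hn F hF hd
    have hT : ∀ i, PicF.IsInvertible (Fin.tail M i) := fun i => hM i.succ
    have hT' : ∀ i, PicF.IsInvertible (Fin.tail M' i) := fun i => hM' i.succ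
    have h1 := alt_cons_congr k (hM 0) hT hT' 1
      (fun G hG hGd => by rw [one_mul]; exact ih _ _ hT hT' (fun i => hn i.succ) G hG hGd) hF hd
    rw [Fin.cons_self_tail, one_mul] at h1
    rw [h1]
    conv_rhs => rw [← Fin.cons_self_tail M']
    match r, M, M', hM, hM', hn, hT', hd, ih with
    | 0, M, M', hM, hM', hn, hT', hd, _ =>
      refine (alt_eq_of_pieces k (isInvertible_cons (hM 0) hT') (isInvertible_cons (hM' 0) hT') 1 hF hd
        fun ξ hξ => ?_).trans (one_mul _)
      rw [one_mul]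
      by_cases h : topologicalKrullDim (closure {ξ} : Set X) = ((1 : ℕ) : WithBot ℕ∞)
      · rw [alt_cons, alt_cons, alt_zero, alt_zero, alt_zero, hn 0 ξ h]
      · have hlt := lt_of_le_of_lt (dim_mono (Devissage.support_A_subset ξ)) (lt_of_le_of_ne hξ h)
        rw [alt_eq_zero_of_dim k (Devissage.isCoh_A ξ) (isInvertible_cons (hM 0) hT') hlt,
          alt_eq_zero_of_dim k (Devissage.isCoh_A ξ) (isInvertible_cons (hM' 0) hT') hlt]
    | r + 1, M, M', hM, hM', hn, hT', hd, ih =>
      have hT'' : ∀ i, PicF.IsInvertible (Fin.tail (Fin.tail M') i) := fun i => hT' i.succ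
      rw [← Fin.cons_self_tail (Fin.tail M'), alt_swap, alt_swap k F (M' 0)]
      refine (alt_cons_congr k (hT' 0) (isInvertible_cons (hM 0) hT'') (isInvertible_cons (hM' 0) hT'') 1
        (fun G hG hGd => ?_) hF hd).trans (one_mul _)
      rw [one_mul]
      refine ih _ _ (isInvertible_cons (hM 0) hT'') (isInvertible_cons (hM' 0) hT'') (fun i => ?_) G hG hGd
      refine Fin.cases ?_ (fun j => ?_) i
      · simpa using hn 0
      · simp only [Fin.cons_succ]; exact fun ξ _ => rfl

/-- The Euler characteristic of a twisted piece is that of the restriction. -/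
theorem euler_A_tensor (ξ : X) {A : X.Modules} (hA : PicF.IsInvertible A) :
    letI : ((Scheme.IdealSheafData.vanishingIdeal (Devissage.Zc ξ)).subscheme).Over (Spec (CommRingCat.of k)) :=
      ⟨Devissage.Zi ξ ≫ (X ↘ Spec (CommRingCat.of k))⟩
    Curv2.euler k X (CohB1.tensorMod (Devissage.A ξ) A) =
      Curv2.euler k (Scheme.IdealSheafData.vanishingIdeal (Devissage.Zc ξ)).subscheme
        ((Scheme.Modules.pullback (Devissage.Zi ξ)).obj A) := by
  haveI := CurveRR.isNoetherian_of_proper k X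
  obtain ⟨e⟩ := nonempty_H_iso ξ A
  rw [CurveRR.euler_eq_of_iso e.symm]
  exact CurveRR.Multi.euler_push k (Devissage.Zi ξ) _
    (TMul.isQCoh_of_isInvertible (PicLoc.isInvertible_pullback (Devissage.Zi ξ) hA))

theorem numEq_of_curveDeg {A A' : X.Modules} (hA : PicF.IsInvertible A) (hA' : PicF.IsInvertible A')
    (h : ∀ (Y : Scheme.{u}) (ι : Y ⟶ X) [IsClosedImmersion ι], IsIntegral Y → topologicalKrullDim Y = 1 →
      Pic13.curveDeg k (ι ≫ (X ↘ Spec (CommRingCat.of k))) ((Scheme.Modules.pullback ι).obj A) =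
        Pic13.curveDeg k (ι ≫ (X ↘ Spec (CommRingCat.of k))) ((Scheme.Modules.pullback ι).obj A')) :
    NumEq k A A' := by
  intro ξ hξ
  haveI := CurveRR.isNoetherian_of_proper k X
  let Y := (Scheme.IdealSheafData.vanishingIdeal (Devissage.Zc ξ)).subscheme
  letI : Y.Over (Spec (CommRingCat.of k)) := ⟨Devissage.Zi ξ ≫ (X ↘ Spec (CommRingCat.of k))⟩
  haveI : IsProper (Y ↘ Spec (CommRingCat.of k)) := inferInstanceAs (IsProper (Devissage.Zi ξ ≫ _))
  have hY : topologicalKrullDim Y = ((1 : ℕ) : WithBot ℕ∞) := by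
    rw [← hξ, ← Devissage.range_Zi ξ]
    exact IsHomeomorph.topologicalKrullDim_eq _
      (Devissage.Zi ξ).isClosedEmbedding.isEmbedding.toHomeomorph.isHomeomorph
  have h1 : FGA.eulerCharLE k Y ((Scheme.Modules.pullback (Devissage.Zi ξ)).obj A) 1 - FGA.eulerCharLE k Y (Coh.structureModule Y) 1 =
      FGA.eulerCharLE k Y ((Scheme.Modules.pullback (Devissage.Zi ξ)).obj A') 1 - FGA.eulerCharLE k Y (Coh.structureModule Y) 1 :=
    h Y (Devissage.Zi ξ) (Devissage.Zi_isIntegral ξ) (by rw [hY]; rfl)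
  rw [eulerCharLE_eq k 1 hY.le, eulerCharLE_eq k 1 hY.le, eulerCharLE_eq k 1 hY.le] at h1
  rw [euler_A_tensor k ξ hA, euler_A_tensor k ξ hA']
  linarith

end Groth.Agent.Intersect
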