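import Groth.Agent.Intersect.Pos
import Groth.Agent.CohFinite.AmpleH1
import Groth.Agent.CohFinite.Ample
import Groth.Agent.RefStalk.Refl

/-!
Asymptotic Riemann-Roch for ample modules.
-/

set_option autoImplicit false
set_option backward.isDefEq.respectTransparency false
set_option linter.style.haveILetI false
set_option linter.unusedSectionVars false

universe u

open CategoryTheory CategoryTheory.Limits AlgebraicGeometry TopologicalSpace
open scoped Nat

noncomputable section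

namespace Groth.Agent.Intersect

theorem choose_bound (i m D : ℕ) (hi : i + 1 ≤ D + 1) :
    ((m + i - 1).choose i : ℚ) ≤ ((D : ℚ) + 1) ^ D * ((m : ℚ) + 1) ^ i := by
  have h1 : (m + i - 1).choose i ≤ ((D + 1) * (m + 1)) ^ i :=
    (Nat.choose_le_pow _ _).trans (Nat.pow_le_pow_left (by nlinarith [Nat.sub_le (m + i) 1]) _)
  have h2 : ((D : ℚ) + 1) ^ i ≤ ((D : ℚ) + 1) ^ D :=
    pow_le_pow_right₀ (le_add_of_nonneg_left (by positivity)) (by omega)
  calc ((m + i - 1).choose i : ℚ) ≤ (((D + 1) * (m + 1)) ^ i : ℕ) := by exact_mod_cast h1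
    _ = ((D : ℚ) + 1) ^ i * ((m : ℚ) + 1) ^ i := by push_cast; rw [mul_pow]
    _ ≤ _ := mul_le_mul_of_nonneg_right h2 (by positivity)

theorem asc_sub_pow (d : ℕ) : ∃ C : ℚ, 0 ≤ C ∧ ∀ m : ℕ,
    |(m.ascFactorial d : ℚ) - (m : ℚ) ^ d| ≤ C * ((m : ℚ) + 1) ^ (d - 1) := by
  induction d with
  | zero => exact ⟨0, le_rfl, fun m => by simp⟩
  | succ d ih =>
    obtain ⟨C, hC, h⟩ := ih
    refine ⟨C * (d + 1) + d, by positivity, fun m => ?_⟩
    have hm : (0 : ℚ) ≤ m := Nat.cast_nonneg m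
    have e : (m.ascFactorial (d + 1) : ℚ) - (m : ℚ) ^ (d + 1) =
        ((m : ℚ) + d) * ((m.ascFactorial d : ℚ) - (m : ℚ) ^ d) + d * (m : ℚ) ^ d := by
      rw [Nat.ascFactorial_succ]; push_cast; ring
    rw [e, add_tsub_cancel_right]
    have h2 : |(d : ℚ) * (m : ℚ) ^ d| ≤ d * ((m : ℚ) + 1) ^ d := by
      rw [abs_of_nonneg (by positivity)]
      gcongr; linarith
    have h1 : |((m : ℚ) + d) * ((m.ascFactorial d : ℚ) - (m : ℚ) ^ d)| ≤ C * (d + 1) * ((m : ℚ) + 1) ^ d := by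
      rw [abs_mul, abs_of_nonneg (by positivity : (0 : ℚ) ≤ (m : ℚ) + d)]
      rcases Nat.eq_zero_or_pos d with rfl | hd
      · simp only [Nat.ascFactorial_zero, Nat.cast_one, pow_zero, sub_self, abs_zero, mul_zero]
        positivity
      have hp : ((m : ℚ) + 1) ^ d = ((m : ℚ) + 1) ^ (d - 1) * ((m : ℚ) + 1) := by
        rw [← pow_succ, Nat.sub_add_cancel hd]
      calc ((m : ℚ) + d) * |(m.ascFactorial d : ℚ) - (m : ℚ) ^ d|
          ≤ (((d : ℚ) + 1) * ((m : ℚ) + 1)) * (C * ((m : ℚ) + 1) ^ (d - 1)) :=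
            mul_le_mul (by nlinarith [(Nat.cast_nonneg d : (0 : ℚ) ≤ d)]) (h m) (abs_nonneg _) (by positivity)
        _ = _ := by rw [hp]; ring
    calc _ ≤ _ := (abs_add_le _ _).trans (add_le_add h1 h2)
      _ = _ := by ring

variable {X : Scheme.{u}} (k : Type u) [Field k] [X.Over (Spec (CommRingCat.of k))] [IsProper (X ↘ Spec (CommRingCat.of k))]

theorem binSum_sub_top (M : X.Modules) (F : X.Modules) (d : ℕ) : ∃ C : ℚ, 0 ≤ C ∧ ∀ m : ℕ,
    |binSum k M d m F - alt (χt k F fun _ : Fin d => M) / (d ! : ℚ) * (m : ℚ) ^ d| ≤ C * ((m : ℚ) + 1) ^ (d - 1) := by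
  obtain ⟨Cd, hCd, hd⟩ := asc_sub_pow d
  let a : ℕ → ℚ := fun i => alt (χt k F fun _ : Fin i => M)
  have hf : (0 : ℚ) < d ! := by exact_mod_cast Nat.factorial_pos d
  refine ⟨(∑ i ∈ Finset.range d, ((d : ℚ) + 1) ^ d * |a i|) + |a d| / (d ! : ℚ) * Cd, by positivity, fun m => ?_⟩
  have hm : (1 : ℚ) ≤ (m : ℚ) + 1 := le_add_of_nonneg_left (Nat.cast_nonneg m)
  have e : ((m + d - 1).choose d : ℚ) = (m.ascFactorial d : ℚ) / (d ! : ℚ) := by
    rw [Nat.ascFactorial_eq_factorial_mul_choose', Nat.cast_mul, mul_div_cancel_left₀ _ hf.ne']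
  have e2 : binSum k M d m F - a d / (d ! : ℚ) * (m : ℚ) ^ d =
      (∑ i ∈ Finset.range d, ((m + i - 1).choose i : ℚ) * a i) +
        a d / (d ! : ℚ) * ((m.ascFactorial d : ℚ) - (m : ℚ) ^ d) := by
    rw [binSum, Finset.sum_range_succ, e]; ring
  change |binSum k M d m F - a d / (d ! : ℚ) * (m : ℚ) ^ d| ≤ _
  rw [e2, add_mul, Finset.sum_mul]
  refine (abs_add_le _ _).trans (add_le_add ((Finset.abs_sum_le_sum_abs _ _).trans (Finset.sum_le_sum fun i hi => ?_)) ?_)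
  · have hi' := Finset.mem_range.mp hi
    rw [abs_mul, abs_of_nonneg (Nat.cast_nonneg _ : (0 : ℚ) ≤ ((m + i - 1).choose i : ℚ))]
    calc ((m + i - 1).choose i : ℚ) * |a i| ≤ ((d : ℚ) + 1) ^ d * ((m : ℚ) + 1) ^ i * |a i| :=
          mul_le_mul_of_nonneg_right (choose_bound i m d (by omega)) (abs_nonneg _)
      _ ≤ ((d : ℚ) + 1) ^ d * ((m : ℚ) + 1) ^ (d - 1) * |a i| := by gcongr; omega
      _ = _ := by ring
  · rw [abs_mul, abs_div, abs_of_pos hf, mul_assoc]
    gcongr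
    exact hd m

theorem support_structure : CohB1.support (Coh.structureModule X) = Set.univ :=
  Set.eq_univ_of_forall fun x h => by
    haveI : Subsingleton ((Coh.structureModule X).presheaf.stalk x) := h
    obtain ⟨E, -⟩ := RefStalk.exists_structStalk (X := X) x
    exact not_subsingleton (X.presheaf.stalk x) E.toEquiv.subsingleton

theorem dim_support_structure : topologicalKrullDim (CohB1.support (Coh.structureModule X)) = topologicalKrullDim X := by
  rw [support_structure]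
  exact (Homeomorph.Set.univ X).isHomeomorph.topologicalKrullDim_eq

/-- Leading term of `h⁰` of powers of an ample module. -/
theorem exists_h0_bound {L : X.Modules} (hL : CohB1.IsAmple L) (d : ℕ) {F : X.Modules} (hF : Coh.IsCoh F)
    (hd : topologicalKrullDim (CohB1.support F) ≤ d) :
    ∃ C : ℚ, ∀ n : ℕ, |(Module.finrank k (Coh.HH X (CohB1.tensorMod (CohB1.tensorPow L n) F) 0) : ℚ) -
      (-1 : ℚ) ^ d * alt (χt k F fun _ : Fin d => L) / (d ! : ℚ) * (n : ℚ) ^ d| ≤ C * ((n : ℚ) + 1) ^ (d - 1) := by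
  obtain ⟨M, hM, ⟨e⟩⟩ := W7Hull.exists_tensor_inverse hL.1
  obtain ⟨C, hC, h⟩ := binSum_sub_top k M F d
  have hinv := alt_inverse k d (fun _ => L) (fun _ => M) (fun _ => hL.1) (fun _ => hM) (fun _ => ⟨e⟩) F hF hd
  obtain ⟨n₀, hn₀⟩ := CohFinite.vanish_ample (X ↘ Spec (CommRingCat.of k)) hL hF
  let g : ℕ → ℚ := fun n => |(Module.finrank k (Coh.HH X (CohB1.tensorMod (CohB1.tensorPow L n) F) 0) : ℚ) -
      (-1 : ℚ) ^ d * alt (χt k F fun _ : Fin d => L) / (d ! : ℚ) * (n : ℚ) ^ d|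
  refine ⟨C + ∑ n ∈ Finset.range n₀, g n, fun n => ?_⟩
  have hone : (1 : ℚ) ≤ ((n : ℚ) + 1) ^ (d - 1) := one_le_pow₀ (le_add_of_nonneg_left (Nat.cast_nonneg n))
  have hS : 0 ≤ ∑ n ∈ Finset.range n₀, g n := Finset.sum_nonneg fun _ _ => abs_nonneg _
  rcases lt_or_ge n n₀ with hn | hn
  · calc g n ≤ ∑ j ∈ Finset.range n₀, g j :=
          Finset.single_le_sum (fun _ _ => abs_nonneg _) (Finset.mem_range.mpr hn)
      _ ≤ (C + ∑ j ∈ Finset.range n₀, g j) * ((n : ℚ) + 1) ^ (d - 1) :=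
          le_trans (le_add_of_nonneg_left hC) (le_mul_of_one_le_right (add_nonneg hC hS) hone)
  · have hv : ∀ i, 1 ≤ i → Subsingleton (Coh.HH X (CohB1.tensorMod (CohB1.tensorPow L n) F) i) := fun i hi =>
      by
      obtain ⟨q, rfl⟩ : ∃ q, i = q + 1 := ⟨i - 1, by omega⟩
      haveI := hn₀ n hn q
      exact (CohFinite.hhEquiv k (TMul.commIso _ _) _).toEquiv.subsingleton
    have he := euler_pow_eq_binSum k hL.1 hM e d n F hF (lt_succ_of_le' hd)
    rw [CurveRR.euler_eq_h0 hv] at he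
    refine le_trans (le_of_eq ?_) ((h n).trans (mul_le_mul_of_nonneg_right (le_add_of_nonneg_right hS) (by positivity)))
    rw [← he, hinv, Int.cast_natCast]

end Groth.Agent.Intersect
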