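import Groth.Agent.Intersect.Apps2
import Groth.Agent.Intersect.PushDeg
import Groth.Agent.KFlat.SchemeStalk
import Groth.Agent.RefDiv.Lat
import Groth.Agent.S8914
import Groth.Agent.CartierDim.Basic
import Groth.Agent.BlowUpLib.Basic

/-!
Intersecting with an effective Cartier divisor.
-/

set_option autoImplicit false
set_option backward.isDefEq.respectTransparency false
set_option linter.style.haveILetI false
set_option linter.unusedSectionVars false

universe u

open CategoryTheory CategoryTheory.Limits AlgebraicGeometry TopologicalSpace Opposite MonoidalCategory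
open Groth.Agent.CohFinite
open Groth.Agent.WeakAssLib (mgerm stalkHom)
open scoped TensorProduct

noncomputable section

namespace Groth.Agent.Intersect

variable {X : Scheme.{u}} {r : ℕ}

/-- Alternating sums split along the last variable. -/
theorem alt_last (g : (Fin (r + 1) → ℕ) → ℚ) :
    alt g = alt (fun n => g (Fin.snoc n 0)) - alt (fun n => g (Fin.snoc n 1)) := by
  simp only [alt]
  rw [← (Fin.snocEquiv fun _ : Fin (r + 1) => Fin 2).sum_comp, Fintype.sum_prod_type, Fin.sum_univ_two,
    sub_eq_add_neg, ← Finset.sum_neg_distrib]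
  have hc : ∀ (a : Fin 2) (b : Fin r → Fin 2),
      (fun i : Fin (r + 1) => (((Fin.snocEquiv fun _ : Fin (r + 1) => Fin 2) (a, b)) i : ℕ)) =
        Fin.snoc (fun i => (b i : ℕ)) (a : ℕ) := fun a b => by
    funext i
    refine Fin.lastCases ?_ (fun j => ?_) i <;> simp [Fin.snocEquiv]
  congr 1 <;> refine Finset.sum_congr rfl fun b _ => ?_
  · rw [hc]; simp [Fin.sum_univ_castSucc, Fin.snocEquiv]
  · rw [hc]; simp [Fin.sum_univ_castSucc, Fin.snocEquiv, pow_add]

theorem N_snoc (A : X.Modules) (M : Fin r → X.Modules) (n : Fin r → ℕ) (j : ℕ) :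
    N (Fin.snoc M A) (Fin.snoc n j) = CohB1.tensorMod (N M n) (CohB1.tensorPow A j) := by
  change CohB1.tensorMod (Curv2.tensorPows (Coh.structureModule X) r
    (fun i => (Fin.snoc M A : Fin (r + 1) → X.Modules) i.castSucc)
    (fun i => (Fin.snoc n j : Fin (r + 1) → ℕ) i.castSucc))
    (CohB1.tensorPow ((Fin.snoc M A : Fin (r + 1) → X.Modules) (Fin.last r))
      ((Fin.snoc n j : Fin (r + 1) → ℕ) (Fin.last r))) = _
  simp [Fin.snoc_castSucc, Fin.snoc_last]

theorem isInvertible_ideal {D : X.IdealSheafData} (hD : BlowUp.IsEffCartierIdeal D) :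
    PicF.IsInvertible (ClSub.idealMod D) :=
  (Groth.Agent.S8914.result D).2 hD

theorem isIso_stalk_idealModι (D : X.IdealSheafData) {x : X} (hx : x ∉ D.support) :
    IsIso ((DerSch.stalkFunctor X x).map (ClSub.idealModι D)) := by
  rw [ConcreteCategory.isIso_iff_bijective]
  refine ⟨Groth.Agent.WeakAssLib.stalkHom_injective (ClSub.idealModι D) x, fun m => ?_⟩
  refine Groth.Agent.WeakAssLib.stalk_exact _ (CurveRR.ideal_shortExact D) x m ?_
  exact @Subsingleton.elim _ (not_not.1 fun h => hx (CurveRR.support_quotMod D h)) _ _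

/-- Tensoring the ideal of an effective Cartier divisor avoiding the associated points stays injective. -/
theorem mono_tensor_ideal [IsNoetherian X] {F : X.Modules} (hF : Coh.IsCoh F) {D : X.IdealSheafData}
    (hI : PicF.IsInvertible (ClSub.idealMod D)) (hass : ∀ x ∈ D.support, ¬ Curv2.IsAssPoint F x) :
    Mono (((KFlat.schB X).obj F).map (ClSub.idealModι D)) := by
  let I := ClSub.idealMod D
  let T := (KFlat.schB X).obj F
  let φ : T.obj I ⟶ T.obj (Coh.structureModule X) := T.map (ClSub.idealModι D)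
  let K := kernel φ
  have hTI : Coh.IsQCoh (T.obj I) := (CurveRR.isCoh_tensor' hF (CurveRR.isCoh_of_inv hI)).1
  have hTO : Coh.IsQCoh (T.obj (Coh.structureModule X)) :=
    (CurveRR.isCoh_tensor' hF RefStalk.isCoh_structureModule).1
  have hK : Coh.IsQCoh K := Groth.Agent.QC.isQCoh_kernel hTI hTO φ
  have hsub : ∀ x : X, x ∉ D.support → Subsingleton (K.presheaf.stalk x) := fun x hx => by
    haveI := isIso_stalk_idealModι D hx
    haveI : IsIso ((KFlat.stTensorIso F I x).hom ≫ (DerSch.stalkFunctor X x).map (((KFlat.schB X).map (𝟙 F)).app I ≫ φ)) := by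
      rw [← KFlat.stTensorIso_natural (𝟙 F) (ClSub.idealModι D) x]
      infer_instance
    haveI h1 := IsIso.of_isIso_comp_left (KFlat.stTensorIso F I x).hom
      ((DerSch.stalkFunctor X x).map (((KFlat.schB X).map (𝟙 F)).app I ≫ φ))
    rw [CategoryTheory.Functor.map_id, NatTrans.id_app, Category.id_comp] at h1
    have hinj : Function.Injective (stalkHom φ x) := (ConcreteCategory.bijective_of_isIso ((DerSch.stalkFunctor X x).map φ)).1
    refine subsingleton_of_forall_eq 0 fun m => Groth.Agent.WeakAssLib.stalkHom_injective (kernel.ι φ) x ?_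
    rw [map_zero]
    refine hinj ?_
    rw [map_zero]
    show stalkHom φ x (stalkHom (kernel.ι φ) x m) = 0
    rw [← Devissage.stalkHom_comp, kernel.condition, Devissage.stalkHom_zero]
  suffices hKz : IsZero K from Preadditive.mono_of_kernel_zero (hKz.eq_of_src _ _)
  refine Devissage.isZero_of_support (Set.eq_empty_of_forall_notMem fun x hx => hx ?_)
  refine subsingleton_of_forall_eq 0 fun m => ?_
  by_contra hm
  obtain ⟨W, hxW, s, rfl⟩ := K.presheaf.exists_germ_eq (x := x) m
  obtain ⟨y, hy, -, hwa, hne⟩ := Groth.Agent.WeakAssLib.exists_weakAss hK hxW s hm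
  have hassK : Curv2.IsAssPoint K y := (Groth.Agent.WeakAssLib.isAssPoint_iff K y).2 hwa
  have hyD : y ∈ D.support := by
    by_contra h
    haveI := hsub y h
    exact hne (Subsingleton.elim _ _)
  refine hass y hyD ?_
  have h1 : Curv2.IsAssPoint (T.obj I) y :=
    IsAssociatedPrime.map_of_injective ((DerSch.stalkFunctor X y).map (kernel.ι φ)).hom hassK
      (Groth.Agent.WeakAssLib.stalkHom_injective (kernel.ι φ) y)
  obtain ⟨U, e, hyU, he⟩ := TMul.exists_isGen hI y
  let v : X.presheaf.stalk y ≃ₗ[X.presheaf.stalk y] I.presheaf.stalk y :=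
    LinearEquiv.ofBijective (LinearMap.toSpanSingleton _ _ (mgerm I hyU e)) (RefDiv.bijective_germ_of_isGen he hyU)
  let w : (F.presheaf.stalk y) ⊗[X.presheaf.stalk y] (I.presheaf.stalk y) ≃ₗ[X.presheaf.stalk y] F.presheaf.stalk y :=
    (TensorProduct.congr (LinearEquiv.refl _ _) v.symm).trans (TensorProduct.rid _ _)
  let u : (T.obj I).presheaf.stalk y ≃ₗ[X.presheaf.stalk y] F.presheaf.stalk y :=
    (KFlat.stTensorIso F I y).symm.toLinearEquiv.trans w
  exact IsAssociatedPrime.map_of_injective u.toLinearMap h1 u.injective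

variable (k : Type u) [Field k] [X.Over (Spec (CommRingCat.of k))] [IsProper (X ↘ Spec (CommRingCat.of k))]

theorem alt_snoc (F A : X.Modules) (M : Fin r → X.Modules) :
    alt (χt k F (Fin.snoc M A)) = alt (χt k F M) - alt (χt k (CohB1.tensorMod F A) M) := by
  rw [alt_last]
  congr 2 <;> funext n
  · rw [χt, χt, N_snoc]
    exact congrArg (fun z : ℤ => (z : ℚ))
      (CurveRR.euler_eq_of_iso (PicGrp.tensorModIso (Iso.refl F) (TMul.commIso _ _ ≪≫ TMul.leftUnitIso (N M n))))
  · rw [χt, χt, N_snoc]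
    exact congrArg (fun z : ℤ => (z : ℚ))
      (CurveRR.euler_eq_of_iso (PicGrp.tensorModIso (Iso.refl F) (PicGrp.tensorModIso (Iso.refl (N M n))
        (TMul.leftUnitIso A) ≪≫ TMul.commIso _ _) ≪≫ (TMul.assocIso _ _ _).symm))

include k in
/-- The restriction sequence. -/
theorem alt_restrict {F : X.Modules} (hF : Coh.IsCoh F) {D : X.IdealSheafData}
    (hI : PicF.IsInvertible (ClSub.idealMod D)) (hass : ∀ x ∈ D.support, ¬ Curv2.IsAssPoint F x)
    {M : Fin r → X.Modules} (hM : ∀ i, PicF.IsInvertible (M i)) :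
    alt (χt k F M) = alt (χt k (CohB1.tensorMod F (ClSub.idealMod D)) M) +
      alt (χt k (CohB1.tensorMod F (ClSub.quotMod D)) M) := by
  haveI := CurveRR.isNoetherian_of_proper k X
  let T := (KFlat.schB X).obj F
  haveI : PreservesFiniteColimits T := KFlat.preservesFiniteColimits_left X.sheaf F
  have hS := CurveRR.ideal_shortExact D
  have h := (T.preservesFiniteColimits_tfae.out 3 0 rfl rfl).1 inferInstance _ hS
  haveI := mono_tensor_ideal hF hI hass
  have hT : (ShortComplex.mk (T.map (ClSub.idealModι D)) (T.map (ClSub.toSubscheme D))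
      (by rw [← T.map_comp, show ClSub.idealModι D ≫ ClSub.toSubscheme D = 0 from kernel.condition _, T.map_zero])).ShortExact :=
    { exact := h.1, mono_f := ‹_›, epi_g := h.2 }
  have hq := CurveRR.isCoh_idealMod D
  have e := congrArg alt (χt_add k hM hT (CurveRR.isCoh_tensor' hF hq.1)
    (CurveRR.isCoh_tensor' hF RefStalk.isCoh_structureModule) (CurveRR.isCoh_tensor' hF hq.2))
  rw [alt_add] at e
  refine Eq.trans ?_ e
  exact congrArg alt (χt_iso k (TMul.commIso F _ ≪≫ TMul.leftUnitIso F).symm M)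

theorem intNum_snoc_ideal (d : ℕ) (hd : topologicalKrullDim X ≤ d) {F : X.Modules} (hF : Coh.IsCoh F)
    {D : X.IdealSheafData} (hD : BlowUp.IsEffCartierIdeal D) (hass : ∀ x ∈ D.support, ¬ Curv2.IsAssPoint F x)
    {M : Fin r → X.Modules} (hM : ∀ i, PicF.IsInvertible (M i)) :
    FGA.intNum k X d (Fin.snoc M (ClSub.idealMod D)) F =
      FGA.intNum k X d M (CohB1.tensorMod F (ClSub.quotMod D)) := by
  have h : (FGA.intNum k X d (Fin.snoc M (ClSub.idealMod D)) F : ℚ) =
      (FGA.intNum k X d M (CohB1.tensorMod F (ClSub.quotMod D)) : ℚ) := by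
    rw [intNum_eq_alt k d hd, intNum_eq_alt k d hd, alt_snoc,
      alt_restrict k hF (isInvertible_ideal hD) hass hM]
    ring
  exact_mod_cast h

include k in
theorem dim_support_lt {D : X.IdealSheafData} (hD : BlowUp.IsEffCartierIdeal D) {e : ℕ}
    (hX : topologicalKrullDim X ≤ ((e + 1 : ℕ) : WithBot ℕ∞)) : topologicalKrullDim (D.support : Set X) ≤ e := by
  by_cases hne : (D.support : Set X).Nonempty
  · obtain ⟨x, hx⟩ := hne
    rw [← D.range_subschemeι] at hx
    obtain ⟨z, hz⟩ := hx
    refine le_of_lt_succ' (lt_of_lt_of_le ?_ hX)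
    have hfin : topologicalKrullDim ((⊤ : X.Opens) : Set X) ≠ ⊤ := ne_top_of_le_ne_top
      (by rintro ⟨⟩) ((topologicalKrullDim_subspace_le X _).trans hX)
    refine lt_of_le_of_lt ?_ (lt_of_lt_of_le (CartierDim.krullDim_lt hD ⊤ ⟨z, trivial⟩ hfin) (topologicalKrullDim_subspace_le X _))
    have hmem : ∀ y : (D.support : Set X), ∃ w : D.subscheme, D.subschemeι w = y.1 := fun y => by
      have := D.range_subschemeι.ge y.2
      exact this
    choose w hw using hmem
    refine Topology.IsInducing.topologicalKrullDim_le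
      (f := fun y => (⟨w y, trivial⟩ : ((D.subschemeι ⁻¹ᵁ ⊤ : D.subscheme.Opens) : Set D.subscheme))) ?_
    have hc : (fun v : ((D.subschemeι ⁻¹ᵁ ⊤ : D.subscheme.Opens) : Set D.subscheme) => D.subschemeι v.1) ∘
        (fun y => (⟨w y, trivial⟩ : ((D.subschemeι ⁻¹ᵁ ⊤ : D.subscheme.Opens) : Set D.subscheme))) = Subtype.val :=
      funext hw
    have hg := D.subschemeι.isClosedEmbedding.isEmbedding.isInducing.comp
      (Topology.IsInducing.subtypeVal (t := ((D.subschemeι ⁻¹ᵁ ⊤ : D.subscheme.Opens) : Set D.subscheme)))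
    refine hg.of_comp_iff.mp ?_
    show Topology.IsInducing _
    rw [show ((D.subschemeι : _ → _) ∘ Subtype.val) ∘ _ = Subtype.val from hc]
    exact Topology.IsInducing.subtypeVal
  · rw [Set.not_nonempty_iff_eq_empty.mp hne]
    simp only [topologicalKrullDim, Order.krullDim, iSup_le_iff]
    exact fun p => by obtain ⟨⟨x, hx⟩, -⟩ := p.head.isIrreducible.nonempty; exact hx.elim

/-- `(L₀ ⋯ · X) = (⋯ · D)` when `L₀ = O(D)`. -/
theorem alt_cons_inverse {A : X.Modules} (hA : PicF.IsInvertible A) {D : X.IdealSheafData}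
    (hD : BlowUp.IsEffCartierIdeal D) (hAD : ClSub.IsInverseOf A (ClSub.idealMod D)) {e : ℕ}
    (hX : topologicalKrullDim X ≤ ((e + 1 : ℕ) : WithBot ℕ∞)) {M : Fin e → X.Modules}
    (hM : ∀ i, PicF.IsInvertible (M i)) :
    alt (χt k (Coh.structureModule X) (Fin.cons A M)) = - alt (χt k (ClSub.quotMod D) M) := by
  haveI := CurveRR.isNoetherian_of_proper k X
  obtain ⟨i⟩ := hAD
  have hq := CurveRR.isCoh_idealMod D
  have hS := shortExact_tmap hA (CurveRR.ideal_shortExact D)
  have h := congrArg alt (χt_add k hM hS (isCoh_twist k hq.1 hA) (isCoh_twist k RefStalk.isCoh_structureModule hA) (isCoh_twist k hq.2 hA))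
  rw [alt_add] at h
  change alt (χt k (CohB1.tensorMod (Coh.structureModule X) A) M) =
    alt (χt k (CohB1.tensorMod (ClSub.idealMod D) A) M) + alt (χt k (CohB1.tensorMod (ClSub.quotMod D) A) M) at h
  rw [χt_iso k (TMul.commIso (ClSub.idealMod D) A ≪≫ i) M] at h
  have h0 : alt (χt k (ClSub.quotMod D) (Fin.cons A M)) = 0 :=
    alt_eq_zero_of_dim k hq.2 (isInvertible_cons hA hM)
      (lt_succ_of_le' ((dim_mono (CurveRR.support_quotMod D)).trans (dim_support_lt k hD hX)))
  rw [alt_cons] at h0 ⊢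
  linarith

end Groth.Agent.Intersect
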