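import Groth.Agent.Intersect.Misc
import Groth.Agent.Intersect.Cartier
import Groth.Agent.Intersect.Asymp
import Groth.Agent.S1684
import Groth.Agent.S2821
import Groth.Agent.SmLocalST.SmoothField
import Groth.Agent.WeakAssLib.Regular
import Groth.Agent.TMul.Pullback
import Groth.Agent.DerPerf.Local
import Groth.Agent.CurveRR.Tensor

/-!
Curves on surfaces: intersection with a curve is the degree of the restriction.
-/

set_option autoImplicit false
set_option backward.isDefEq.respectTransparency false
set_option linter.style.haveILetI false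
set_option linter.unusedSectionVars false

universe u

open CategoryTheory CategoryTheory.Limits AlgebraicGeometry TopologicalSpace
open Groth.Agent.WeakAssLib (mgerm)

noncomputable section

namespace Groth.Agent.Intersect

variable {X : Scheme.{u}}

/-- The structure sheaf has no associated point on an effective Cartier divisor. -/
theorem notAss_of_effCartier {D : X.IdealSheafData} (hD : BlowUp.IsEffCartierIdeal D) :
    ∀ x ∈ D.support, ¬ Curv2.IsAssPoint (Coh.structureModule X) x := by
  rintro x hx ⟨_, m, hm⟩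
  obtain ⟨W, hxW, g, hg, hge⟩ := hD x
  letI := X.presheaf.algebra_section_stalk ⟨x, hxW⟩
  haveI := W.2.isLocalization_stalk ⟨x, hxW⟩
  have hnz : (X.presheaf.germ W.1 x hxW).hom g ∈ nonZeroDivisors (X.presheaf.stalk x) :=
    IsLocalization.map_nonZeroDivisors_le (W.2.primeIdealOf ⟨x, hxW⟩).asIdeal.primeCompl (X.presheaf.stalk x) ⟨g, hg, rfl⟩
  have hnu : (X.presheaf.germ W.1 x hxW).hom g ∈ IsLocalRing.maximalIdeal (X.presheaf.stalk x) := fun hu =>
    (BlowUpLib.mem_basicOpen_of_notMem_support hge hxW).2 ((X.mem_basicOpen g x hxW).2 hu) hx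
  let one : (Coh.structureModule X).presheaf.stalk x := mgerm (Coh.structureModule X) (U := ⊤) (x := x) trivial (1 : Γ(X, ⊤))
  obtain ⟨b, rfl⟩ := (RefDiv.bijective_germ_of_isGen (TMul.isGen_one (⊤ : X.Opens)) (y := x) trivial).2 m
  have hb : (X.presheaf.germ W.1 x hxW).hom g * b = 0 := by
    rw [hm] at hnu
    obtain ⟨n, hn⟩ := hnu
    have hn' : ((X.presheaf.germ W.1 x hxW).hom g ^ n * b) • one = (0 : X.presheaf.stalk x) • one := by
      rw [mul_smul, zero_smul]
      simpa [Submodule.mem_colon_singleton] using hn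
    have h0 := (RefDiv.bijective_germ_of_isGen (TMul.isGen_one (⊤ : X.Opens)) (y := x) trivial).1 hn'
    rw [(mem_nonZeroDivisors_iff.1 (pow_mem hnz n)).1 b h0, mul_zero]
  have hb0 : b = 0 := (mem_nonZeroDivisors_iff.1 hnz).1 b hb
  have htop : IsLocalRing.maximalIdeal (X.presheaf.stalk x) = ⊤ := by
    rw [hm, hb0, Ideal.eq_top_iff_one]
    refine Ideal.le_radical ?_
    rw [Submodule.mem_colon_singleton]
    simp
  exact (IsLocalRing.maximalIdeal.isMaximal _).ne_top htop

variable (k : Type u) [Field k] [X.Over (Spec (CommRingCat.of k))] [IsProper (X ↘ Spec (CommRingCat.of k))]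

include k in
theorem ringKrullDim_stalk_curve [IsIntegral X] (hdim : topologicalKrullDim X = 2) {ξ : X}
    (hξ : topologicalKrullDim (closure {ξ} : Set X) = ((1 : ℕ) : WithBot ℕ∞)) :
    ringKrullDim (X.presheaf.stalk ξ) = 1 := by
  haveI := CurveRR.isNoetherian_of_proper k X
  rw [ringKrullDim_stalk_eq_coheight]
  have hne : ξ ≠ genericPoint X := fun h => by
    rw [h, genericPoint_closure] at hξ
    rw [← (Homeomorph.Set.univ X).isHomeomorph.topologicalKrullDim_eq] at hdim
    rw [hdim] at hξ
    exact absurd hξ (by decide)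
  obtain ⟨c, hm, hc⟩ := exists_chain_closed isClosed_closure hξ.ge
  refine congrArg WithBot.some (le_antisymm (not_lt.1 fun h => ?_) (Order.one_le_iff_pos.mpr ((Order.coheight_pos).2 fun hmax => ?_)))
  · obtain ⟨p, hp, hl⟩ := Order.exists_series_of_le_coheight ξ (n := 2)
      ((ENat.add_one_le_iff (by simp)).2 h |>.trans' (by norm_num))
    have key : ∀ i j, i < j → p j ⤳ p i ∧ p i ≠ p j := fun i j hij => ⟨(p.strictMono hij).le, (p.strictMono hij).ne⟩
    have h3 : ((3 : ℕ) : WithBot ℕ∞) ≤ topologicalKrullDim X := by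
      refine le_dim_of_chain (n := 3) (Fin.cons (c 0) (fun i : Fin 3 => p ⟨i.1, by omega⟩)) fun i j hij => ?_
      have hc01 := hc 0 (Fin.last 1) (by decide)
      have hξc : ξ ⤳ c (Fin.last 1) := specializes_iff_mem_closure.mpr (hm _)
      have h0 : ∀ i : Fin 3, p ⟨i.1, by omega⟩ ⤳ c 0 ∧ c 0 ≠ p ⟨i.1, by omega⟩ := fun i => by
        have hge : p ⟨i.1, by omega⟩ ⤳ ξ := by
          rcases Nat.eq_zero_or_pos i.1 with h0 | h0
          · exact specializes_of_eq (by rw [← hp]; exact congrArg p (Fin.ext h0))
          · exact hp ▸ (key ⟨0, by omega⟩ ⟨i.1, by omega⟩ h0).1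
        refine ⟨hge.trans (hξc.trans hc01.1), fun e => hc01.2 ?_⟩
        exact (hc01.1.antisymm ((show c 0 ⤳ ξ from e ▸ hge).trans hξc)).eq.symm
      induction i using Fin.cases with
      | zero =>
        induction j using Fin.cases with
        | zero => exact absurd hij (lt_irrefl _)
        | succ j => simpa using h0 j
      | succ i =>
        induction j using Fin.cases with
        | zero => exact absurd hij (by simp)
        | succ j =>
          simp only [Fin.cons_succ]
          exact key _ _ (Fin.mk_lt_mk.2 (Fin.succ_lt_succ_iff.mp hij))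
    rw [hdim] at h3
    exact absurd h3 (by decide)
  · exact hne ((genericPoint_specializes ξ).antisymm (hmax (genericPoint_specializes ξ))).eq.symm

include k in
theorem isEffCartier_curve [IsIntegral X] [Smooth (X ↘ Spec (CommRingCat.of k))] (hdim : topologicalKrullDim X = 2)
    {C : Scheme.{u}} (i : C ⟶ X) [IsClosedImmersion i] [IsIntegral C] (hC : topologicalKrullDim C = 1) :
    BlowUp.IsEffCartierIdeal i.ker := by
  haveI := CurveRR.isNoetherian_of_proper k X
  haveI : IsIso i.toImage := inferInstance
  haveI : Nonempty i.ker.subscheme := ⟨i.toImage (genericPoint C)⟩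
  haveI : IsIntegral i.ker.subscheme := isIntegral_of_isOpenImmersion (inv i.toImage)
  refine Groth.Agent.S1684.result X i.ker (ringKrullDim_stalk_curve k hdim ?_) fun x _ => ?_
  · have hr : Set.range i.ker.subschemeι = Set.range i := by
      rw [Scheme.IdealSheafData.range_subschemeι, Scheme.Hom.support_ker]
      exact i.isClosedEmbedding.isClosed_range.closure_eq
    have h1 : closure ({i.ker.subschemeι (genericPoint i.ker.subscheme)} : Set X) = Set.range i := by
      rw [← hr, ← image_closure i.ker.subschemeι, genericPoint_closure]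
      exact Set.image_univ
    rw [h1, ← i.isClosedEmbedding.isEmbedding.toHomeomorph.isHomeomorph.topologicalKrullDim_eq, hC]
    rfl
  · haveI := SmLocalST.isRegularLocalRing_stalk_of_smooth_field (X ↘ Spec (CommRingCat.of k)) x
    exact Groth.Agent.S2821.result _

/-- Twists of the structure sheaf of a closed subscheme have the Euler characteristics of the subscheme. -/
theorem euler_quot_twist {C : Scheme.{u}} (i : C ⟶ X) [IsClosedImmersion i] {A : X.Modules} (hA : PicF.IsInvertible A) :
    letI : C.Over (Spec (CommRingCat.of k)) := ⟨i ≫ (X ↘ Spec (CommRingCat.of k))⟩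
    Curv2.euler k X (CohB1.tensorMod (ClSub.quotMod i.ker) A) =
      Curv2.euler k C ((Scheme.Modules.pullback i).obj A) := by
  letI : C.Over (Spec (CommRingCat.of k)) := ⟨i ≫ (X ↘ Spec (CommRingCat.of k))⟩
  haveI : IsIso i.toImage := inferInstance
  haveI := CurveRR.unitToPush_isIso i.toImage
  have hfac : i.toImage ≫ i.imageι = i := i.toImage_imageι
  let e : ClSub.quotMod i.ker ≅ (Scheme.Modules.pushforward i).obj (Coh.structureModule C) :=
    (Scheme.Modules.pushforward i.ker.subschemeι).mapIso (asIso (ClSub.unitToPush i.toImage)) ≪≫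
      ((Scheme.Modules.pushforwardComp i.toImage i.imageι).app _) ≪≫
      (Scheme.Modules.pushforwardCongr hfac).app _
  rw [CurveRR.euler_eq_of_iso (PicGrp.tensorModIso e (Iso.refl A) ≪≫ KFlat.projFormulaIso i (Coh.structureModule C) A ≪≫
    (Scheme.Modules.pushforward i).mapIso (TMul.leftUnitIso _))]
  exact CurveRR.Multi.euler_push k i _ (TMul.isQCoh_of_isInvertible (PicLoc.isInvertible_pullback i hA))

/-- Intersecting with an effective Cartier divisor: degree of the restriction of the inverse. -/
theorem intNum_curve {C : Scheme.{u}} (i : C ⟶ X) [IsClosedImmersion i] (hC : topologicalKrullDim C ≤ (1 : ℕ))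
    (hX : topologicalKrullDim X ≤ (2 : ℕ)) (hi : BlowUp.IsEffCartierIdeal i.ker)
    {L L' : X.Modules} (hL : PicF.IsInvertible L) (hLL' : Nonempty (CohB1.tensorMod L L' ≅ Coh.structureModule X)) :
    letI : C.Over (Spec (CommRingCat.of k)) := ⟨i ≫ (X ↘ Spec (CommRingCat.of k))⟩
    FGA.intNum k X 2 ![ClSub.idealMod i.ker, L'] (Coh.structureModule X) =
      Curv2.deg k C ((Scheme.Modules.pullback i).obj L) 1 := by
  letI : C.Over (Spec (CommRingCat.of k)) := ⟨i ≫ (X ↘ Spec (CommRingCat.of k))⟩
  haveI : IsProper (C ↘ Spec (CommRingCat.of k)) := inferInstanceAs (IsProper (i ≫ _))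
  haveI := CurveRR.isNoetherian_of_proper k X
  haveI := CurveRR.isNoetherian_of_proper k C
  have hL' := isInvertible_inverse hL hLL'
  have hO : Coh.IsCoh (Coh.structureModule X) := RefStalk.isCoh_structureModule
  have hOC : Coh.IsCoh (Coh.structureModule C) := RefStalk.isCoh_structureModule
  have hv : ∀ j : Fin 1, PicF.IsInvertible ((![L'] : Fin 1 → X.Modules) j) := fun j => by fin_cases j; exact hL'
  have hq : ∀ A : X.Modules, PicF.IsInvertible A →
      (Curv2.euler k X (CohB1.tensorMod (CohB1.tensorMod (Coh.structureModule X) (ClSub.quotMod i.ker)) A) : ℚ) =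
        (Curv2.euler k C ((Scheme.Modules.pullback i).obj A) : ℚ) := fun A hA => by
    rw [CurveRR.euler_eq_of_iso (PicGrp.tensorModIso (TMul.leftUnitIso _) (Iso.refl A)), euler_quot_twist k i hA]
  have h : (FGA.intNum k X 2 ![ClSub.idealMod i.ker, L'] (Coh.structureModule X) : ℚ) =
      (Curv2.deg k C ((Scheme.Modules.pullback i).obj L) 1 : ℚ) := by
    rw [intNum_eq_alt k 2 hX, show (![ClSub.idealMod i.ker, L'] : Fin 2 → X.Modules) =
        Fin.cons (ClSub.idealMod i.ker) (Fin.cons L' ![]) from rfl, alt_swap,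
      show (Fin.cons L' (Fin.cons (ClSub.idealMod i.ker) ![]) : Fin 2 → X.Modules) =
        Fin.snoc ![L'] (ClSub.idealMod i.ker) from funext fun j => by fin_cases j <;> rfl,
      ← intNum_eq_alt k 2 hX, intNum_snoc_ideal k 2 hX hO hi (notAss_of_effCartier hi) hv, intNum_eq_alt k 2 hX,
      show (![L'] : Fin 1 → X.Modules) = Fin.cons L' ![] from rfl, alt_cons, alt_zero, alt_zero]
    have h0 : (Curv2.euler k X (CohB1.tensorMod (Coh.structureModule X) (ClSub.quotMod i.ker)) : ℚ) =
        (Curv2.euler k C (Coh.structureModule C) : ℚ) := by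
      rw [CurveRR.euler_eq_of_iso (TMul.leftUnitIso (CohB1.tensorMod (Coh.structureModule X) (ClSub.quotMod i.ker))).symm,
        CurveRR.euler_eq_of_iso (TMul.commIso (Coh.structureModule X) (CohB1.tensorMod (Coh.structureModule X) (ClSub.quotMod i.ker))),
        hq _ TMul.isInvertible_structureModule]
      exact congrArg (fun z : ℤ => (z : ℚ)) (CurveRR.euler_eq_of_iso (DerPerf.pullUnitIso i))
    rw [h0, hq L' hL']
    obtain ⟨e⟩ := hLL'
    obtain ⟨t⟩ := TMul.nonempty_pullTensorIso i L L'
    have hd := alt_inverse k 1 ![(Scheme.Modules.pullback i).obj L] ![(Scheme.Modules.pullback i).obj L']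
      (fun j => by fin_cases j; exact PicLoc.isInvertible_pullback i hL)
      (fun j => by fin_cases j; exact PicLoc.isInvertible_pullback i hL')
      (fun j => by fin_cases j; exact ⟨t ≪≫ (Scheme.Modules.pullback i).mapIso e ≪≫ DerPerf.pullUnitIso i⟩)
      _ hOC (dim_support_structure.trans_le hC)
    rw [show (![(Scheme.Modules.pullback i).obj L'] : Fin 1 → C.Modules) = Fin.cons _ ![] from rfl,
      show (![(Scheme.Modules.pullback i).obj L] : Fin 1 → C.Modules) = Fin.cons _ ![] from rfl,
      alt_cons, alt_cons, alt_zero, alt_zero, alt_zero,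
      CurveRR.euler_eq_of_iso (TMul.leftUnitIso ((Scheme.Modules.pullback i).obj L)),
      CurveRR.euler_eq_of_iso (TMul.leftUnitIso ((Scheme.Modules.pullback i).obj L'))] at hd
    rw [Curv2.deg]
    push_cast
    linarith
  exact_mod_cast h

end Groth.Agent.Intersect
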