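import Groth.Agent.Intersect.Apps

/-!
Packaged statements about components.
-/

set_option autoImplicit false
set_option backward.isDefEq.respectTransparency false
set_option linter.style.haveILetI false
set_option linter.unusedSectionVars false

universe u

open CategoryTheory CategoryTheory.Limits AlgebraicGeometry TopologicalSpace Opposite
open Groth.Agent.CohFinite
open Groth.Agent.CurveRR.Multi (lenAt)

noncomputable section

namespace Groth.Agent.Intersect

variable {X : Scheme.{u}} {r : ℕ} (k : Type u) [Field k] [X.Over (Spec (CommRingCat.of k))]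
  [IsProper (X ↘ Spec (CommRingCat.of k))]

theorem exists_totalDegree_le {F : X.Modules} (hF : Coh.IsCoh F) {d : ℕ}
    (hd : topologicalKrullDim (CohB1.support F) ≤ d) {L : Fin r → X.Modules} (hL : ∀ i, PicF.IsInvertible (L i)) :
    ∃ P : MvPolynomial (Fin r) ℚ, P.totalDegree ≤ d ∧ ∀ n : Fin r → ℕ,
      χt k F L n = MvPolynomial.eval (fun i => (n i : ℚ)) P := by
  obtain ⟨P, hP, h⟩ := exists_mvPolynomial (PS_of_le k hF hL hd)
  exact ⟨P, Finset.sup_le fun m hm => Nat.lt_succ_iff.mp (hP m hm), h⟩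

include k in
theorem exists_top_finset {F : X.Modules} (hF : Coh.IsCoh F) {d : ℕ}
    (hd : topologicalKrullDim (CohB1.support F) ≤ d) :
    ∃ T : Finset X, ∀ ξ, ξ ∈ T ↔ ξ ∈ top (CohB1.support F) d := by
  haveI := CurveRR.isNoetherian_of_proper k X
  exact ⟨(finite_top (Groth.Agent.QC.isClosed_support hF.2) hd).toFinset, fun ξ => Set.Finite.mem_toFinset _⟩

theorem finsum_top {F : X.Modules} {d : ℕ} (T : Finset X) (hT : ∀ ξ, ξ ∈ T ↔ ξ ∈ top (CohB1.support F) d)
    (f : X → ℚ) :
    (∑ᶠ ξ : X, (if topologicalKrullDim (closure ({ξ} : Set X)) = (d : WithBot ℕ∞) then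
      ((Module.length (X.presheaf.stalk ξ) (F.presheaf.stalk ξ)).toNat : ℚ) * f ξ else 0)) =
    ∑ ξ ∈ T, (lenAt F ξ : ℚ) * f ξ := by
  rw [finsum_eq_sum_of_support_subset _ (s := T) fun ξ hξ => ?_]
  · refine Finset.sum_congr rfl fun ξ hξ => ?_
    rw [if_pos ((hT ξ).1 hξ).2]
    simp [lenAt]
  · rw [Function.mem_support] at hξ
    split_ifs at hξ with hd
    · refine (hT ξ).2 ⟨?_, hd⟩
      by_contra hmem
      refine hξ ?_
      have := CurveRR.Multi.lenAt_eq_zero hmem
      simp only [lenAt] at this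
      rw [show (Module.length (X.presheaf.stalk ξ) (F.presheaf.stalk ξ)).toNat = 0 by exact_mod_cast this]
      simp
    · exact absurd rfl hξ

theorem euler_sub_components {F : X.Modules} (hF : Coh.IsCoh F) {d : ℕ}
    (hd : topologicalKrullDim (CohB1.support F) = d) {L : Fin r → X.Modules} (hL : ∀ i, PicF.IsInvertible (L i)) :
    ∃ P : MvPolynomial (Fin r) ℚ, (∀ m ∈ P.support, (m.sum fun _ e => e) < d) ∧
      ∀ n : Fin r → ℕ,
        (Curv2.euler k X (Curv2.tensorPows F r L n) : ℚ) -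
          ∑ᶠ ξ : X, (if topologicalKrullDim (closure ({ξ} : Set X)) = (d : WithBot ℕ∞) then
            ((Module.length (X.presheaf.stalk ξ) (F.presheaf.stalk ξ)).toNat : ℚ) *
              (@Curv2.euler k _
                (Scheme.IdealSheafData.vanishingIdeal (⟨closure ({ξ} : Set X), isClosed_closure⟩ : TopologicalSpace.Closeds X)).subscheme
                ⟨(Scheme.IdealSheafData.vanishingIdeal (⟨closure ({ξ} : Set X), isClosed_closure⟩ : TopologicalSpace.Closeds X)).subschemeι ≫ (X ↘ (Spec (CommRingCat.of k)))⟩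
                (Curv2.tensorPows
                  (Coh.structureModule (Scheme.IdealSheafData.vanishingIdeal (⟨closure ({ξ} : Set X), isClosed_closure⟩ : TopologicalSpace.Closeds X)).subscheme)
                  r (fun i => (Scheme.Modules.pullback
                    (Scheme.IdealSheafData.vanishingIdeal (⟨closure ({ξ} : Set X), isClosed_closure⟩ : TopologicalSpace.Closeds X)).subschemeι).obj (L i)) n) : ℚ)
            else 0)
          = MvPolynomial.eval (fun i => (n i : ℚ)) P := by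
  haveI := CurveRR.isNoetherian_of_proper k X
  obtain ⟨T, hT⟩ := exists_top_finset k hF hd.le
  obtain ⟨P, hP, h⟩ := exists_mvPolynomial
    (comp_formula k hL (Groth.Agent.QC.isClosed_support hF.2) hd.le hF le_rfl T hT)
  refine ⟨P, hP, fun n => ?_⟩
  rw [← h n, finsum_top T hT, Pi.sub_apply, Finset.sum_apply]
  congr 1
  · obtain ⟨e⟩ := nonempty_tensorPows_iso F L n
    rw [CurveRR.euler_eq_of_iso e]
    rfl
  · exact Finset.sum_congr rfl fun ξ _ => by
      rw [Pi.smul_apply, smul_eq_mul, ← euler_closure k ξ hL n]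

theorem coeff_components (D : X.IdealSheafData) {d : ℕ} (hD : topologicalKrullDim (D.support : Set X) = d)
    {L : Fin d → X.Modules} (hL : ∀ i, PicF.IsInvertible (L i)) (P : MvPolynomial (Fin d) ℚ)
    (hP : ∀ n : Fin d → ℕ, (Curv2.euler k X (Curv2.tensorPows (ClSub.quotMod D) d L n) : ℚ) = MvPolynomial.eval (fun i => (n i : ℚ)) P)
    (Q : X → MvPolynomial (Fin d) ℚ)
    (hQ : ∀ ξ : X, topologicalKrullDim (closure ({ξ} : Set X)) = (d : WithBot ℕ∞) →
      ∀ n : Fin d → ℕ, (Curv2.euler k X (Curv2.tensorPows (ClSub.quotMod (Scheme.IdealSheafData.vanishingIdeal (⟨closure ({ξ} : Set X), isClosed_closure⟩ : TopologicalSpace.Closeds X))) d L n) : ℚ) = MvPolynomial.eval (fun i => (n i : ℚ)) (Q ξ)) :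
    MvPolynomial.coeff (Finsupp.equivFunOnFinite.symm fun _ : Fin d => 1) P =
      ∑ᶠ ξ : X, (if topologicalKrullDim (closure ({ξ} : Set X)) = (d : WithBot ℕ∞) then
        ((Module.length (X.presheaf.stalk ξ) ((ClSub.quotMod D).presheaf.stalk ξ)).toNat : ℚ) *
          MvPolynomial.coeff (Finsupp.equivFunOnFinite.symm fun _ : Fin d => 1) (Q ξ) else 0) := by
  haveI := CurveRR.isNoetherian_of_proper k X
  have hq := (CurveRR.isCoh_idealMod D).2
  have hd : topologicalKrullDim (CohB1.support (ClSub.quotMod D)) ≤ (d : WithBot ℕ∞) :=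
    ((Topology.IsEmbedding.inclusion (CurveRR.support_quotMod D)).isInducing.topologicalKrullDim_le).trans hD.le
  obtain ⟨T, hT⟩ := exists_top_finset k hq hd
  rw [exists_coeff_eq k (ClSub.quotMod D) hq hL hd P hP, finsum_top T hT, alt_comp k _ hq hd hL T hT, Finset.mul_sum]
  refine Finset.sum_congr rfl fun ξ hξ => ?_
  have hdξ := ((hT ξ).1 hξ).2
  rw [exists_coeff_eq k (Devissage.A ξ) (Devissage.isCoh_A ξ) hL
    (((Topology.IsEmbedding.inclusion (Devissage.support_A_subset ξ)).isInducing.topologicalKrullDim_le).trans hdξ.le)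
    (Q ξ) (hQ ξ hdξ)]
  ring

theorem intNum_components (d : ℕ) (hd : topologicalKrullDim X ≤ d) {M : Fin r → X.Modules}
    (hM : ∀ i, PicF.IsInvertible (M i)) {F : X.Modules} (hF : Coh.IsCoh F)
    (hsupp : topologicalKrullDim (CohB1.support F) ≤ r)
    (s : Finset X) (hs : ∀ ξ : X, ξ ∈ s ↔ ξ ∈ CohB1.support F ∧ topologicalKrullDim ↥(closure ({ξ} : Set X)) = r) :
    FGA.intNum k X d M F =
      ∑ ξ ∈ s, ((Module.length (X.presheaf.stalk ξ) (F.presheaf.stalk ξ)).toNat : ℤ) *
        FGA.intNum k X d M (ClSub.quotMod (Scheme.IdealSheafData.vanishingIdeal ⟨closure ({ξ} : Set X), isClosed_closure⟩)) := by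
  have h : (FGA.intNum k X d M F : ℚ) = ((∑ ξ ∈ s, lenAt F ξ *
      FGA.intNum k X d M (ClSub.quotMod (Scheme.IdealSheafData.vanishingIdeal ⟨closure ({ξ} : Set X), isClosed_closure⟩))
      : ℤ) : ℚ) := by
    rw [intNum_eq_alt k d hd, alt_comp k F hF hsupp hM s hs, Int.cast_sum]
    refine Finset.sum_congr rfl fun ξ _ => ?_
    rw [Int.cast_mul, intNum_eq_alt k d hd]
  exact_mod_cast h

theorem euler_pow_eq_sum_intNum (d : ℕ) (hd : topologicalKrullDim X ≤ d) {L M : X.Modules} (hL : PicF.IsInvertible L)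
    (hM : PicF.IsInvertible M) (e : CohB1.tensorMod L M ≅ Coh.structureModule X) {F : X.Modules} (hF : Coh.IsCoh F)
    (D : ℕ) (hr : topologicalKrullDim (CohB1.support F) ≤ D) (m : ℕ) :
    FGA.eulerCharLE k X (CohB1.tensorMod (CohB1.tensorPow L m) F) d =
      (Finset.range (D + 1)).sum (fun i => ((m + i - 1).choose i : ℤ) * FGA.intNum k X d (fun _ : Fin i => M) F) := by
  have hlt : topologicalKrullDim (CohB1.support F) < ((D + 1 : ℕ) : WithBot ℕ∞) := lt_of_le_of_lt hr (by
    rw [show ((D + 1 : ℕ) : WithBot ℕ∞) = (((D + 1 : ℕ) : ℕ∞) : WithBot ℕ∞) from rfl,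
      show ((D : ℕ) : WithBot ℕ∞) = ((D : ℕ∞) : WithBot ℕ∞) from rfl, WithBot.coe_lt_coe]
    exact_mod_cast Nat.lt_succ_self D)
  have h := euler_pow_eq_binSum k hL hM e D m F hF hlt
  have h' : ((FGA.eulerCharLE k X (CohB1.tensorMod (CohB1.tensorPow L m) F) d : ℤ) : ℚ) =
      (((Finset.range (D + 1)).sum (fun i => ((m + i - 1).choose i : ℤ) *
        FGA.intNum k X d (fun _ : Fin i => M) F) : ℤ) : ℚ) := by
    rw [eulerCharLE_eq k d hd, h, binSum, Int.cast_sum]
    exact Finset.sum_congr rfl fun i _ => by rw [Int.cast_mul, intNum_eq_alt k d hd]; simp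
  exact_mod_cast h'

end Groth.Agent.Intersect
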