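import Groth.Agent.Intersect.PushDeg
import Groth.Agent.Intersect.Apps2
import Groth.Agent.RedKer.Basic

/-!
The degree formula for intersection numbers of an integral scheme mapping properly to `X`.
-/

set_option autoImplicit false
set_option backward.isDefEq.respectTransparency false
set_option linter.style.haveILetI false
set_option linter.unusedSectionVars false

universe u

open CategoryTheory CategoryTheory.Limits AlgebraicGeometry TopologicalSpace Opposite
open Groth.Agent.CohFinite
open Groth.Agent.CurveRR.Multi (lenAt)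
open Groth.Agent.QC (res resO res_res res_self app_res)
open Groth.Agent.WeakAssLib (mgerm mgerm_res ext_germ)

noncomputable section

namespace Groth.Agent.Intersect

variable {X Y : Scheme.{u}}

theorem pushStalk_mgerm (g : Y ⟶ X) (z : Y) (M : Y.Modules) {U : X.Opens} (hU : g z ∈ U)
    (s : Γ((Scheme.Modules.pushforward g).obj M, U)) :
    KFlat.pushStalk g z M (mgerm ((Scheme.Modules.pushforward g).obj M) hU s) =
      mgerm M (show z ∈ g ⁻¹ᵁ U from hU) (show Γ(M, g ⁻¹ᵁ U) from s) :=
  KFlat.pushStalk_germ g z M U hU s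

/-- The stalk of a direct image at a point with a single preimage in the support. -/
theorem pushStalk_bijective_of_fibre (g : Y ⟶ X) (hc : IsClosedMap g) (M : Y.Modules)
    (hsupp : IsClosed (CohB1.support M)) (z : Y) (hz : g ⁻¹' {g z} ∩ CohB1.support M ⊆ {z}) :
    Function.Bijective (KFlat.pushStalk g z M) := by
  have hV : ∀ O : Y.Opens, z ∈ O → ∃ V : X.Opens, g z ∈ V ∧ ∀ y, g y ∈ V → y ∈ CohB1.support M → y ∈ O := fun O hO => by
    refine ⟨⟨(g '' ((O : Set Y)ᶜ ∩ CohB1.support M))ᶜ, (hc _ (O.isOpen.isClosed_compl.inter hsupp)).isOpen_compl⟩,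
      ?_, fun y hy hys => ?_⟩
    · rintro ⟨y, ⟨hy, hys⟩, e⟩
      have := hz ⟨e, hys⟩
      rw [Set.mem_singleton_iff] at this
      exact hy (this ▸ hO)
    · by_contra h
      exact hy ⟨y, ⟨h, hys⟩, rfl⟩
  constructor
  · refine (injective_iff_map_eq_zero _).2 fun m hm => ?_
    obtain ⟨U, hU, s, rfl⟩ := ((Scheme.Modules.pushforward g).obj M).presheaf.exists_germ_eq (x := g z) m
    replace hm : mgerm M (show z ∈ g ⁻¹ᵁ U from hU) (show Γ(M, g ⁻¹ᵁ U) from s) = 0 :=
      (pushStalk_mgerm g z M hU s).symm.trans hm
    obtain ⟨O, hzO, i₁, i₂, he⟩ := TopCat.Presheaf.germ_eq M.presheaf (U := g ⁻¹ᵁ U) (V := g ⁻¹ᵁ U) z hU hU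
      (show Γ(M, g ⁻¹ᵁ U) from s) 0 (hm.trans (map_zero _).symm)
    obtain ⟨V, hzV, hVO⟩ := hV O hzO
    let W : X.Opens := U ⊓ V
    have h0 : res ((Scheme.Modules.pushforward g).obj M) (show W ≤ U from inf_le_left) s = 0 := by
      refine ext_germ M (U := g ⁻¹ᵁ W) _ fun y hy => ?_
      by_cases hys : y ∈ CohB1.support M
      · have hyO : y ∈ O := hVO y hy.2 hys
        have e2 : res M i₁.le (show Γ(M, g ⁻¹ᵁ U) from s) = 0 := he.trans (map_zero _)
        show mgerm M hy (res M (g.preimage_mono (show W ≤ U from inf_le_left)) (show Γ(M, g ⁻¹ᵁ U) from s)) = 0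
        rw [mgerm_res, ← mgerm_res M i₁.le hyO, e2, map_zero]
      · exact Devissage.germ_eq_zero_of_notMem hy _ hys
    refine (mgerm_res _ (show W ≤ U from inf_le_left) (show g z ∈ W from ⟨hU, hzV⟩) s).symm.trans ?_
    rw [h0, map_zero]
  · intro m
    obtain ⟨W, hzW, t, rfl⟩ := M.presheaf.exists_germ_eq (x := z) m
    obtain ⟨V, hzV, hVW⟩ := hV W hzW
    let O₁ : Y.Opens := W ⊓ g ⁻¹ᵁ V
    let O₂ : Y.Opens := ⟨(CohB1.support M)ᶜ, hsupp.isOpen_compl⟩ ⊓ g ⁻¹ᵁ V
    obtain ⟨a, ha, -⟩ := TopCat.Sheaf.existsUnique_gluing' (Groth.Agent.QC.abSheaf M)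
      (fun b : Bool => if b then O₁ else O₂) (g ⁻¹ᵁ V)
      (fun b => match b with
        | true => homOfLE inf_le_right
        | false => homOfLE inf_le_right)
      (fun y hy => Opens.mem_iSup.mpr (by
        by_cases hys : y ∈ CohB1.support M
        · exact ⟨true, hVW y hy hys, hy⟩
        · exact ⟨false, hys, hy⟩))
      (fun b => match b with
        | true => res M (show O₁ ≤ W from inf_le_left) t
        | false => (0 : Γ(M, O₂)))
      (by
        suffices key : ∀ (U : Y.Opens) (h1 : U ≤ O₁) (h2 : U ≤ O₂) (v : Γ(M, O₁)),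
            res M h1 v = res M h2 (0 : Γ(M, O₂)) by
          rintro (_ | _) (_ | _)
          · rfl
          · exact (key _ inf_le_right inf_le_left _).symm
          · exact key _ inf_le_left inf_le_right _
          · rfl
        intro U h1 h2 v
        rw [map_zero]
        exact ext_germ M _ fun y hy => Devissage.germ_eq_zero_of_notMem hy _ (h2 hy).1)
    refine ⟨mgerm ((Scheme.Modules.pushforward g).obj M) hzV a, (pushStalk_mgerm g z M hzV a).trans ?_⟩
    have h1 : res M (show O₁ ≤ g ⁻¹ᵁ V from inf_le_right) a = res M (show O₁ ≤ W from inf_le_left) t := ha true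
    refine (mgerm_res M (show O₁ ≤ g ⁻¹ᵁ V from inf_le_right) (show z ∈ O₁ from ⟨hzW, hzV⟩) a).symm.trans ?_
    rw [h1]
    exact mgerm_res M _ _ t

/-- The length of the direct image of the structure sheaf at the image of the generic point. -/
theorem lenAt_push_generic {Z : Scheme.{u}} [IsIntegral Z] (h : Z ⟶ X)
    (hb : Function.Bijective (KFlat.pushStalk h (genericPoint Z) (Coh.structureModule Z))) :
    lenAt ((Scheme.Modules.pushforward h).obj (Coh.structureModule Z)) (h (genericPoint Z)) =
      (h.residueDegree (genericPoint Z) : ℤ) := by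
  let z := genericPoint Z
  let R := X.presheaf.stalk (h z)
  let K := X.residueField (h z)
  let V := Z.residueField z
  letI : Algebra K V := (h.residueFieldMap z).hom.toAlgebra
  letI : Module R V := Module.compHom V (X.residue (h z)).hom
  letI : Algebra R K := (X.residue (h z)).hom.toAlgebra
  haveI : IsScalarTower R K V := ⟨fun a b c => by
    show ((X.residue (h z)).hom a * b) • c = (X.residue (h z)).hom a • (b • c)
    rw [mul_smul]⟩
  letI : Field (Z.presheaf.stalk z) := inferInstanceAs (Field Z.functionField)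
  let ρ := (Z.residue z).hom
  have hρ : Function.Bijective ρ := ⟨ρ.injective, IsLocalRing.residue_surjective⟩
  obtain ⟨E, -⟩ := RefStalk.exists_structStalk (X := Z) z
  let e : ((Scheme.Modules.pushforward h).obj (Coh.structureModule Z)).presheaf.stalk (h z) →ₗ[R] V :=
    { toFun := fun m => ρ (E.symm (KFlat.pushStalk h z (Coh.structureModule Z) m))
      map_add' := fun a b => by
        rw [← map_add ρ]
        exact congrArg ρ ((congrArg E.symm (map_add (KFlat.pushStalk h z (Coh.structureModule Z)) a b)).trans (map_add E.symm _ _))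
      map_smul' := fun r m => by
        refine (congrArg ρ ((congrArg E.symm (KFlat.pushStalk_smul h z (Coh.structureModule Z) r m)).trans (map_smul E.symm _ _))).trans ?_
        refine (map_mul ρ ((h.stalkMap z).hom r) _).trans ?_
        show _ = (h.residueFieldMap z).hom ((X.residue (h z)).hom r) * _
        congr 1 }
  have he : Function.Bijective e := hρ.comp (E.symm.bijective.comp hb)
  rw [lenAt, (LinearEquiv.ofBijective e he).length_eq,
    Module.length_eq_of_surjective (R := K) (IsLocalRing.residue_surjective (R := R)), Module.length_eq_rank]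
  simp only [Nat.cast_inj, Scheme.Hom.residueDegree, Module.finrank, Cardinal.toNat]
  rfl

variable (k : Type u) [Field k] [X.Over (Spec (CommRingCat.of k))] [IsProper (X ↘ Spec (CommRingCat.of k))]
  [Y.Over (Spec (CommRingCat.of k))] [IsProper (Y ↘ Spec (CommRingCat.of k))]

theorem χt_congr {r : ℕ} (F : Y.Modules) {L L' : Fin r → Y.Modules} (e : ∀ i, Nonempty (L i ≅ L' i)) :
    χt k F L = χt k F L' := by
  funext n
  obtain ⟨q⟩ := W7Cech.tensorPows_iso (F := Coh.structureModule Y) (F' := Coh.structureModule Y) ⟨Iso.refl _⟩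
    (L := L) (L' := L') e n
  rw [χt, χt, CurveRR.euler_eq_of_iso (PicGrp.tensorModIso (Iso.refl F) q)]

/-- The projection formula for the top intersection number of an integral scheme. -/
theorem alt_integral [IsIntegral Y] (h : Y ⟶ X) [IsProper h]
    (hh : h ≫ (X ↘ Spec (CommRingCat.of k)) = Y ↘ Spec (CommRingCat.of k)) {d : ℕ}
    (hY : topologicalKrullDim Y ≤ d) {L : Fin d → X.Modules} (hL : ∀ i, PicF.IsInvertible (L i)) :
    alt (χt k (Coh.structureModule Y) (fun i => (Scheme.Modules.pullback h).obj (L i))) =
      (h.residueDegree (genericPoint Y) : ℚ) * alt (χt k (ClSub.quotMod h.ker) L) := by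
  haveI := CurveRR.isNoetherian_of_proper k X
  haveI := CurveRR.isNoetherian_of_proper k Y
  let z := genericPoint Y
  let η := h z
  have hO : Coh.IsCoh (Coh.structureModule Y) := RefStalk.isCoh_structureModule
  have hzu : closure ({z} : Set Y) = Set.univ := genericPoint_spec Y
  have hrange : Set.range h = closure {η} := by
    rw [← image_closure h z, hzu, Set.image_univ]
  have hdim : topologicalKrullDim (closure {η} : Set X) ≤ d := by
    rw [← image_closure h z]
    exact (dim_image_le h isClosed_closure).trans ((topologicalKrullDim_subspace_le Y _).trans hY)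
  have hker : h.ker = Scheme.IdealSheafData.vanishingIdeal (Devissage.Zc η) := by
    refine le_antisymm ?_ (RedKer.vanishingIdeal_le_ker h _ hrange.le)
    rw [← Scheme.IdealSheafData.le_support_iff_le_vanishingIdeal]
    exact closure_minimal (Set.singleton_subset_iff.mpr (h.range_subset_ker_support ⟨z, rfl⟩)) h.ker.support.isClosed
  have hP := isCoh_push' h hO
  have hsupp : CohB1.support ((Scheme.Modules.pushforward h).obj (Coh.structureModule Y)) ⊆ closure {η} := by
    refine (support_push_subset h (T := Set.univ) (h.isClosedMap _ isClosed_univ) (Set.subset_univ _)).trans ?_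
    rw [Set.image_univ, hrange]
  rw [alt_push k h hh d L hL _ hO ((topologicalKrullDim_subspace_le Y _).trans hY), hker]
  change _ = _ * alt (χt k (Devissage.A η) L)
  by_cases hη : topologicalKrullDim (closure {η} : Set X) = (d : WithBot ℕ∞)
  · have hfib : h ⁻¹' {h z} ∩ CohB1.support (Coh.structureModule Y) ⊆ {z} := fun y hy => by
      refine (eq_of_dim (X := Y) (specializes_iff_mem_closure.mpr (hzu.ge (Set.mem_univ y)))
        ((topologicalKrullDim_subspace_le Y _).trans hY) (le_antisymm ((topologicalKrullDim_subspace_le Y _).trans hY) ?_)).symm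
      rw [← hη, ← show h y = η from hy.1, ← image_closure h y]
      exact dim_image_le h isClosed_closure
    have hb := pushStalk_bijective_of_fibre h h.isClosedMap _ (Groth.Agent.QC.isClosed_support hO.2) z hfib
    have hmem : η ∈ CohB1.support ((Scheme.Modules.pushforward h).obj (Coh.structureModule Y)) := fun hs => by
      haveI : Subsingleton ((Coh.structureModule Y).presheaf.stalk z) := @Function.Surjective.subsingleton _ _ _ hs hb.2
      obtain ⟨E, -⟩ := RefStalk.exists_structStalk (X := Y) z
      exact not_subsingleton (Y.presheaf.stalk z) E.toEquiv.subsingleton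
    rw [alt_comp k _ hP ((dim_mono hsupp).trans hdim) hL {η} fun w => ?_, Finset.sum_singleton,
      lenAt_push_generic h hb, Int.cast_natCast]
    refine ⟨fun hw => ?_, fun hw => ?_⟩
    · rw [Finset.mem_singleton.mp hw]; exact ⟨hmem, hη⟩
    · exact Finset.mem_singleton.mpr (eq_of_dim (specializes_iff_mem_closure.mpr (hsupp hw.1)) hdim hw.2).symm
  · have hlt : topologicalKrullDim (closure {η} : Set X) < (d : WithBot ℕ∞) := lt_of_le_of_ne hdim hη
    rw [alt_eq_zero_of_dim k hP hL (lt_of_le_of_lt (dim_mono hsupp) hlt),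
      alt_eq_zero_of_dim k (Devissage.isCoh_A η) hL (lt_of_le_of_lt (dim_mono (Devissage.support_A_subset η)) hlt),
      mul_zero]

end Groth.Agent.Intersect
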