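import Groth.Agent.Intersect.Misc
import Groth.Agent.Intersect.Cartier
import Groth.Agent.Intersect.Deg
import Groth.Agent.Intersect.Asymp
import Groth.Agent.S4889
import Groth.Agent.S9382
import Groth.Agent.S12131
import Groth.Agent.S2089
import Groth.Agent.S0320
import Groth.Agent.LocH.DepthMisc
import Mathlib.RingTheory.Ideal.KrullsHeightTheorem
import Mathlib.RingTheory.QuotSMulTop

/-!
Proper intersections of effective Cartier divisors with a sheaf of enough depth.
-/

set_option autoImplicit false
set_option backward.isDefEq.respectTransparency false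
set_option linter.style.haveILetI false
set_option linter.unusedSectionVars false

universe u

open CategoryTheory CategoryTheory.Limits AlgebraicGeometry TopologicalSpace Opposite MonoidalCategory
open Groth.Agent.CohFinite
open Groth.Agent.WeakAssLib (mgerm stalkHom)
open scoped TensorProduct

noncomputable section

namespace Groth.Agent.Intersect

section Alg

variable {R : Type u} [CommRing R] [IsLocalRing R] [IsNoetherianRing R] {M : Type u} [AddCommGroup M] [Module R M]
  [Module.Finite R M]

/-- An element completing `r` others to a system cutting the support down to the closed point is regular on a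
module of depth `> r`. -/
theorem isSMulRegular_of_depth {r : ℕ} (g : R) (gs : Fin r → R) (hgs : ∀ i, gs i ∈ IsLocalRing.maximalIdeal R)
    (hcrit : ∀ P : PrimeSpectrum R, P ∈ Module.support R M → g ∈ P.asIdeal → (∀ i, gs i ∈ P.asIdeal) →
      P.asIdeal = IsLocalRing.maximalIdeal R)
    (hd : ((r + 1 : ℕ) : ℕ∞) ≤ LocCoh.depth R M) : IsSMulRegular M g := by
  classical
  by_contra hreg
  rw [isSMulRegular_iff_right_eq_zero_of_smul] at hreg
  push Not at hreg
  obtain ⟨m, hm, hne⟩ := hreg
  obtain ⟨p, hp, hle⟩ := exists_le_isAssociatedPrime_of_isNoetherianRing R m hne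
  haveI := hp.isPrime
  have hg : g ∈ p := hle (by rw [Submodule.mem_colon_singleton]; simpa using hm)
  have hdim := Groth.Agent.S2089.result (M := M) p hp
  haveI : Nontrivial (R ⧸ p) := Ideal.Quotient.nontrivial_iff.mpr hp.isPrime.ne_top
  haveI : IsLocalRing (R ⧸ p) := IsLocalRing.of_surjective' (Ideal.Quotient.mk p) Ideal.Quotient.mk_surjective
  haveI : IsLocalHom (Ideal.Quotient.mk p) := IsLocalHom.of_surjective _ Ideal.Quotient.mk_surjective
  let s : Finset (R ⧸ p) := Finset.univ.image fun i => Ideal.Quotient.mk p (gs i)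
  have hmem : IsLocalRing.maximalIdeal (R ⧸ p) ∈ (Ideal.span (s : Set (R ⧸ p))).minimalPrimes := by
    refine ⟨⟨inferInstance, Ideal.span_le.2 fun y hy => ?_⟩, fun Q hQ _ => ?_⟩
    · simp only [s, Finset.coe_image, Set.mem_image] at hy
      obtain ⟨i, -, rfl⟩ := hy
      intro hu
      exact hgs i ((isUnit_map_iff (Ideal.Quotient.mk p) (gs i)).1 hu)
    · obtain ⟨hQp, hQs⟩ := hQ
      haveI := hQp
      have hle' : p ≤ Q.comap (Ideal.Quotient.mk p) := fun a ha => by
        rw [Ideal.mem_comap, Ideal.Quotient.eq_zero_iff_mem.2 ha]; exact Q.zero_mem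
      have heq := hcrit ⟨Q.comap (Ideal.Quotient.mk p), inferInstance⟩ ?_ (hle' hg) fun i => hQs
        (Ideal.subset_span (by simp [s]))
      · intro y hy
        obtain ⟨a, rfl⟩ := Ideal.Quotient.mk_surjective y
        have ha : a ∈ Q.comap (Ideal.Quotient.mk p) := by
          show a ∈ (⟨Q.comap (Ideal.Quotient.mk p), inferInstance⟩ : PrimeSpectrum R).asIdeal
          rw [heq]
          exact fun hu => hy (hu.map _)
        exact ha
      · exact Module.mem_support_iff_of_finite.2 ((by simpa [Submodule.annihilator_top] using IsAssociatedPrime.annihilator_le hp : Module.annihilator R M ≤ p).trans hle')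
  have h1 := Ideal.height_le_card_of_mem_minimalPrimes_span_finset hmem
  have h2 : (s.card : ℕ∞) ≤ r := by exact_mod_cast Finset.card_image_le.trans_eq (Finset.card_fin r)
  rw [← IsLocalRing.maximalIdeal_height_eq_ringKrullDim, WithBot.coe_le_coe] at hdim
  have h3 : ((r + 1 : ℕ) : ℕ∞) ≤ r := hd.trans (hdim.trans (h1.trans h2))
  norm_cast at h3
  omega

theorem lTensor_mul_injective {I O : Type u} [AddCommGroup I] [Module R I] [AddCommGroup O] [Module R O]
    (vI : I ≃ₗ[R] R) (vO : O ≃ₗ[R] R) (f : I →ₗ[R] O) (g : R) (hf : ∀ y, vO (f y) = g * vI y)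
    (hg : IsSMulRegular M g) : Function.Injective (f.lTensor M) := by
  let wI : M ⊗[R] I ≃ₗ[R] M := (TensorProduct.congr (LinearEquiv.refl R M) vI).trans (TensorProduct.rid R M)
  let wO : M ⊗[R] O ≃ₗ[R] M := (TensorProduct.congr (LinearEquiv.refl R M) vO).trans (TensorProduct.rid R M)
  have key : ∀ t, wO (f.lTensor M t) = g • wI t := fun t => by
    induction t using TensorProduct.induction_on with
    | zero => simp
    | tmul m y => simp [wI, wO, hf, mul_smul]
    | add a b ha hb => simp only [map_add, ha, hb, smul_add]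
  intro a b hab
  exact wI.injective (hg ((key a).symm.trans ((congrArg wO hab).trans (key b))))

end Alg

variable {X : Scheme.{u}}

theorem subset_support_quotMod (I : X.IdealSheafData) : (I.support : Set X) ⊆ CohB1.support (ClSub.quotMod I) := by
  intro x hx hsub
  rw [← I.range_subschemeι] at hx
  obtain ⟨z, rfl⟩ := hx
  obtain ⟨E, -⟩ := RefStalk.exists_structStalk (X := I.subscheme) z
  haveI : Subsingleton ((ClSub.quotMod I).presheaf.stalk (I.subschemeι z)) := hsub
  haveI : Subsingleton ((Coh.structureModule I.subscheme).presheaf.stalk z) :=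
    @Function.Surjective.subsingleton _ _ _ hsub (pushStalk_bijective_of_fibre I.subschemeι
      I.subschemeι.isClosedEmbedding.isClosedMap (Coh.structureModule I.subscheme)
      (Groth.Agent.QC.isClosed_support (TMul.isFT_structureModule I.subscheme)) z
      (fun y hy => I.subschemeι.isClosedEmbedding.injective hy.1)).2
  exact not_subsingleton (I.subscheme.presheaf.stalk z) E.toEquiv.subsingleton

theorem nonempty_quot_sup (I J : X.IdealSheafData) :
    Nonempty (CohB1.tensorMod (ClSub.quotMod I) (ClSub.quotMod J) ≅ ClSub.quotMod (I ⊔ J)) := by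
  haveI : Coh.IsQCoh (Coh.structureModule J.subscheme) := Groth.Agent.QC.isQCoh_unit J.subscheme
  let a := Scheme.IdealSheafData.inclusion (le_sup_left : I ≤ I ⊔ J)
  let b := Scheme.IdealSheafData.inclusion (le_sup_right : J ≤ I ⊔ J)
  haveI := Groth.Agent.S12131.result J.subschemeι I.subschemeι b a
    (Groth.Agent.S9382.result X I J).flip (Coh.structureModule J.subscheme)
  obtain ⟨e⟩ := nonempty_quot_twist I (ClSub.quotMod J)
  refine ⟨e ≪≫ (Scheme.Modules.pushforward I.subschemeι).mapIso
    ((asIso (((Scheme.Modules.pullbackPushforwardAdjunction I.subschemeι).homEquiv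
        ((Scheme.Modules.pushforward J.subschemeι).obj (Coh.structureModule J.subscheme))
        ((Scheme.Modules.pushforward a).obj ((Scheme.Modules.pullback b).obj (Coh.structureModule J.subscheme)))).symm
      ((Scheme.Modules.pushforward J.subschemeι).map
          ((Scheme.Modules.pullbackPushforwardAdjunction b).unit.app (Coh.structureModule J.subscheme)) ≫
        (Scheme.Modules.pushforwardComp b J.subschemeι).hom.app _ ≫
        (Scheme.Modules.pushforwardCongr (Groth.Agent.S9382.result X I J).flip.w).hom.app _ ≫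
        (Scheme.Modules.pushforwardComp a I.subschemeι).inv.app _))) ≪≫
      (Scheme.Modules.pushforward a).mapIso (DerPerf.pullUnitIso b)) ≪≫
    (Scheme.Modules.pushforwardComp a I.subschemeι).app _ ≪≫
    (Scheme.Modules.pushforwardCongr (Scheme.IdealSheafData.inclusion_subschemeι _)).app _⟩

theorem nonempty_quot_bot : Nonempty (ClSub.quotMod (⊥ : X.IdealSheafData) ≅ Coh.structureModule X) := by
  haveI : IsIso (⊥ : X.IdealSheafData).subschemeι :=
    IsClosedImmersion.isIso_iff_ker_eq_bot.2 (Scheme.IdealSheafData.ker_subschemeι _)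
  haveI := CurveRR.unitToPush_isIso (⊥ : X.IdealSheafData).subschemeι
  exact ⟨(asIso (ClSub.unitToPush (⊥ : X.IdealSheafData).subschemeι)).symm⟩

/-- A point of a finite closed subset of a Jacobson space is closed. -/
theorem isClosed_singleton_of_finite [JacobsonSpace X] {B : Set X} (hB : IsClosed B) (hfin : B.Finite) {y : X}
    (hy : y ∈ B) : IsClosed ({y} : Set X) := by
  have hsub : closure ({y} : Set X) ⊆ B := closure_minimal (Set.singleton_subset_iff.mpr hy) hB
  have hfin' : (closure ({y} : Set X) ∩ closedPoints X).Finite := (hfin.subset hsub).inter_of_left _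
  have hcl : IsClosed (closure ({y} : Set X) ∩ closedPoints X) := by
    rw [← Set.biUnion_of_singleton (closure ({y} : Set X) ∩ closedPoints X)]
    exact hfin'.isClosed_biUnion fun p hp => hp.2
  have hy' : y ∈ closure ({y} : Set X) ∩ closedPoints X := by
    rw [← hcl.closure_eq, closure_inter_closedPoints isClosed_closure]
    exact subset_closure rfl
  exact hy'.2

variable [IsNoetherian X]

/-- The local equation of an effective Cartier divisor, with the stalk of its structure sheaf. -/
theorem exists_stalk_equation {D : X.IdealSheafData} (hI : PicF.IsInvertible (ClSub.idealMod D)) (x : X) :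
    ∃ (g : X.presheaf.stalk x) (vI : (ClSub.idealMod D).presheaf.stalk x ≃ₗ[X.presheaf.stalk x] X.presheaf.stalk x)
      (vO : (Coh.structureModule X).presheaf.stalk x ≃ₗ[X.presheaf.stalk x] X.presheaf.stalk x),
      (∀ y, vO (((DerSch.stalkFunctor X x).map (ClSub.idealModι D)).hom y) = g * vI y) ∧
      Nonempty ((ClSub.quotMod D).presheaf.stalk x ≃ₗ[X.presheaf.stalk x] X.presheaf.stalk x ⧸ Ideal.span {g}) ∧
      ∀ P : PrimeSpectrum (X.presheaf.stalk x), X.fromSpecStalk x P ∈ D.support ↔ g ∈ P.asIdeal := by
  obtain ⟨U, e, hxU, he⟩ := TMul.exists_isGen hI x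
  let vI : X.presheaf.stalk x ≃ₗ[X.presheaf.stalk x] (ClSub.idealMod D).presheaf.stalk x :=
    LinearEquiv.ofBijective (LinearMap.toSpanSingleton _ _ (mgerm (ClSub.idealMod D) hxU e))
      (RefDiv.bijective_germ_of_isGen he hxU)
  let vO : X.presheaf.stalk x ≃ₗ[X.presheaf.stalk x] (Coh.structureModule X).presheaf.stalk x :=
    LinearEquiv.ofBijective (LinearMap.toSpanSingleton _ _ (mgerm (Coh.structureModule X) hxU (1 : Γ(X, U))))
      (RefDiv.bijective_germ_of_isGen (TMul.isGen_one U) hxU)
  let f := ((DerSch.stalkFunctor X x).map (ClSub.idealModι D)).hom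
  let g := vO.symm (f (vI 1))
  have hf : ∀ y, vO.symm (f y) = g * vI.symm y := fun y => by
    obtain ⟨a, rfl⟩ := vI.surjective y
    rw [vI.symm_apply_apply, show vI a = a • vI 1 by rw [← map_smul, smul_eq_mul, mul_one], map_smul, map_smul,
      smul_eq_mul, mul_comm]
  let π : X.presheaf.stalk x →ₗ[X.presheaf.stalk x] (ClSub.quotMod D).presheaf.stalk x :=
    ((DerSch.stalkFunctor X x).map (ClSub.toSubscheme D)).hom.comp vO.toLinearMap
  have hS := CurveRR.ideal_shortExact D
  have hsurj : Function.Surjective π := by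
    exact ((ModuleCat.epi_iff_surjective _).1
      (hS.map_of_exact (DerSch.stalkFunctor X x)).epi_g).comp vO.surjective
  have hker : LinearMap.ker π = Ideal.span {g} := by
    refine le_antisymm (fun a ha => ?_) ((Ideal.span_singleton_le_iff_mem _).2 ?_)
    · obtain ⟨y, hy⟩ := Groth.Agent.WeakAssLib.stalk_exact _ hS x (vO a) ha
      have h1 : vO.symm (f y) = a := by
        rw [show f y = vO a from hy, vO.symm_apply_apply]
      rw [← h1, hf]
      exact Ideal.mul_mem_right _ _ (Ideal.mem_span_singleton_self g)
    · show ((DerSch.stalkFunctor X x).map (ClSub.toSubscheme D)).hom (vO g) = 0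
      rw [vO.apply_symm_apply]
      show (((DerSch.stalkFunctor X x).map (ClSub.idealModι D)) ≫
        (DerSch.stalkFunctor X x).map (ClSub.toSubscheme D)).hom (vI 1) = 0
      rw [← Functor.map_comp, show ClSub.idealModι D ≫ ClSub.toSubscheme D = 0 from kernel.condition _,
        Functor.map_zero]
      rfl
  let eQ := (π.quotKerEquivOfSurjective hsurj).symm.trans (Submodule.quotEquivOfEq _ _ hker)
  refine ⟨g, vI.symm, vO.symm, hf, ⟨eQ⟩, fun P => ?_⟩
  haveI hq : (ClSub.quotMod D).IsQuasicoherent := (CurveRR.isCoh_idealMod D).2.1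
  rw [← SetLike.mem_coe, show (D.support : Set X) = CohB1.support (ClSub.quotMod D) from
    (subset_support_quotMod D).antisymm (CurveRR.support_quotMod D), ← Groth.Agent.S4889.support_stalk hq,
    show Module.support (X.presheaf.stalk x) ((ClSub.quotMod D).presheaf.stalk x) = _ from eQ.support_eq,
    Module.support_eq_zeroLocus, Ideal.annihilator_quotient, PrimeSpectrum.mem_zeroLocus]
  exact ⟨fun h => h (Ideal.mem_span_singleton_self g), fun h => (Ideal.span_singleton_le_iff_mem _).2 h⟩

variable (k : Type u) [Field k] [X.Over (Spec (CommRingCat.of k))] [IsProper (X ↘ Spec (CommRingCat.of k))]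

/-- Intersection of effective Cartier divisors meeting the support of `F` in finitely many points where
`F` has depth at least their number. -/
theorem alt_inter : ∀ (r : ℕ) (I : Fin r → X.IdealSheafData), (∀ j, BlowUp.IsEffCartierIdeal (I j)) →
    ∀ F : X.Modules, Coh.IsCoh F → ((⨆ j, I j).support ∩ CohB1.support F : Set X).Finite →
      (∀ x ∈ ((⨆ j, I j).support ∩ CohB1.support F : Set X),
        (r : ℕ∞) ≤ LocCoh.depth (X.presheaf.stalk x) (F.presheaf.stalk x)) →
      alt (χt k F fun j => ClSub.idealMod (I j)) =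
        (Curv2.euler k X (CohB1.tensorMod F (ClSub.quotMod (⨆ j, I j))) : ℚ)
  | 0, I, _, F, _, _, _ => by
    rw [alt_zero, show (⨆ j, I j) = ⊥ from iSup_of_empty I]
    obtain ⟨e⟩ := nonempty_quot_bot (X := X)
    rw [CurveRR.euler_eq_of_iso (PicGrp.tensorModIso (Iso.refl F) e ≪≫ TMul.commIso _ _ ≪≫ TMul.leftUnitIso F)]
  | r + 1, I, hI, F, hF, hfin, hdep => by
    haveI : JacobsonSpace X := LocallyOfFiniteType.jacobsonSpace (X ↘ Spec (CommRingCat.of k))
    let D := I (Fin.last r)
    let I' : Fin r → X.IdealSheafData := fun j => I j.castSucc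
    have hT : (⨆ j, I j) = (⨆ j, I' j) ⊔ D := by
      refine le_antisymm (iSup_le fun j => ?_) (sup_le (iSup_le fun j => le_iSup I _) (le_iSup I _))
      induction j using Fin.lastCases with
      | last => exact le_sup_right
      | cast j => exact (le_iSup I' j).trans le_sup_left
    have hTs : ((⨆ j, I j).support : Set X) = ((⨆ j, I' j).support : Set X) ∩ D.support := by
      rw [hT, Scheme.IdealSheafData.support_sup]
      rfl
    have hinv := isInvertible_ideal (hI (Fin.last r))
    have hID := CurveRR.isCoh_idealMod D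
    let T := (KFlat.schB X).obj F
    haveI : PreservesFiniteColimits T := KFlat.preservesFiniteColimits_left X.sheaf F
    have hS := CurveRR.ideal_shortExact D
    have h := (T.preservesFiniteColimits_tfae.out 3 0 rfl rfl).1 inferInstance _ hS
    let φ : T.obj (ClSub.idealMod D) ⟶ T.obj (Coh.structureModule X) := T.map (ClSub.idealModι D)
    let ψ : T.obj (Coh.structureModule X) ⟶ T.obj (ClSub.quotMod D) := T.map (ClSub.toSubscheme D)
    have hA : Coh.IsCoh (T.obj (ClSub.idealMod D)) := CurveRR.isCoh_tensor' hF hID.1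
    have hB : Coh.IsCoh (T.obj (Coh.structureModule X)) := CurveRR.isCoh_tensor' hF RefStalk.isCoh_structureModule
    have hC : Coh.IsCoh (T.obj (ClSub.quotMod D)) := CurveRR.isCoh_tensor' hF hID.2
    let K := kernel φ
    have hKq : Coh.IsQCoh K := Groth.Agent.QC.isQCoh_kernel hA.1 hB.1 φ
    have hK : Coh.IsCoh K := Groth.Agent.QC.isCoh_of_mono (kernel.ι φ) hA hKq
    have hFc := Groth.Agent.QC.isClosed_support hF.2
    have hclosed : IsClosed ((⨆ j, I j).support ∩ CohB1.support F : Set X) := (⨆ j, I j).support.isClosed.inter hFc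
    have hAF : CohB1.support (T.obj (ClSub.idealMod D)) ⊆ CohB1.support F :=
      support_tensor_subset hFc le_rfl _
    have hCF : CohB1.support (T.obj (ClSub.quotMod D)) ⊆ CohB1.support F :=
      support_tensor_subset hFc le_rfl _
    have hCD : CohB1.support (T.obj (ClSub.quotMod D)) ⊆ (D.support : Set X) := fun x hx => by
      refine support_tensor_subset D.support.isClosed (CurveRR.support_quotMod D) F ?_
      haveI := Groth.Agent.QC.isClosed_support hC.2
      intro hsub
      exact hx (((DerSch.stalkFunctor X x).mapIso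
        (TMul.commIso F (ClSub.quotMod D))).toLinearEquiv.toEquiv.subsingleton_congr.2 hsub)
    have hKD : CohB1.support K ⊆ (D.support : Set X) ∩ CohB1.support F := fun x hx => by
      refine ⟨?_, hAF (Devissage.support_subset_of_mono (kernel.ι φ) hx)⟩
      by_contra hxD
      haveI := isIso_stalk_idealModι D hxD
      haveI : IsIso ((KFlat.stTensorIso F (ClSub.idealMod D) x).hom ≫
          (DerSch.stalkFunctor X x).map (((KFlat.schB X).map (𝟙 F)).app _ ≫ φ)) := by
        rw [← KFlat.stTensorIso_natural (𝟙 F) (ClSub.idealModι D) x]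
        infer_instance
      have h1 := IsIso.of_isIso_comp_left (KFlat.stTensorIso F (ClSub.idealMod D) x).hom
        ((DerSch.stalkFunctor X x).map (((KFlat.schB X).map (𝟙 F)).app _ ≫ φ))
      rw [CategoryTheory.Functor.map_id, NatTrans.id_app, Category.id_comp] at h1
      haveI := h1
      refine hx (subsingleton_of_forall_eq 0 fun m => Groth.Agent.WeakAssLib.stalkHom_injective (kernel.ι φ) x ?_)
      rw [map_zero]
      refine (ConcreteCategory.bijective_of_isIso ((DerSch.stalkFunctor X x).map φ)).1 ?_
      rw [map_zero]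
      show stalkHom φ x (stalkHom (kernel.ι φ) x m) = 0
      rw [← Devissage.stalkHom_comp, kernel.condition, Devissage.stalkHom_zero]
    have hloc : ∀ x ∈ ((⨆ j, I j).support ∩ CohB1.support F : Set X),
        x ∉ CohB1.support K ∧ (r : ℕ∞) ≤ LocCoh.depth (X.presheaf.stalk x) ((T.obj (ClSub.quotMod D)).presheaf.stalk x) := by
      intro x hx
      have hxc : IsClosed ({x} : Set X) := isClosed_singleton_of_finite hclosed hfin hx
      haveI := NegTwist.finite_stalk_of_isCoh hF x
      haveI : Nontrivial (F.presheaf.stalk x) := not_subsingleton_iff_nontrivial.mp hx.2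
      obtain ⟨g, vI, vO, hf, ⟨eQ⟩, hgP⟩ := exists_stalk_equation hinv x
      choose gs us ws hfs hes hgsP using fun j : Fin r => exists_stalk_equation (isInvertible_ideal (hI j.castSucc)) x
      have hxm : X.fromSpecStalk x (IsLocalRing.closedPoint (X.presheaf.stalk x)) = x := Scheme.fromSpecStalk_closedPoint
      have hxT : x ∈ ((⨆ j, I' j).support : Set X) ∩ D.support := hTs ▸ hx.1
      have hxI : ∀ j, x ∈ (I' j).support := fun j => by
        have h0 := hxT.1
        rw [Scheme.IdealSheafData.support_iSup] at h0
        simp only [Closeds.coe_iInf, Set.mem_iInter] at h0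
        exact h0 j
      have hgm : g ∈ IsLocalRing.maximalIdeal (X.presheaf.stalk x) := by
        have h0 := (hgP (IsLocalRing.closedPoint _)).1 (by rw [hxm]; exact hxT.2)
        exact h0
      have hgsm : ∀ j, gs j ∈ IsLocalRing.maximalIdeal (X.presheaf.stalk x) := fun j => by
        have h0 := (hgsP j (IsLocalRing.closedPoint _)).1 (by rw [hxm]; exact hxI j)
        exact h0
      have hreg : IsSMulRegular (F.presheaf.stalk x) g := by
        refine isSMulRegular_of_depth g gs hgsm (fun P hP hg hgs => ?_) (hdep x hx)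
        have hy : X.fromSpecStalk x P ∈ ((⨆ j, I j).support ∩ CohB1.support F : Set X) := by
          refine ⟨?_, (Groth.Agent.S4889.support_stalk hF.1 x P).1 hP⟩
          rw [hTs]
          refine ⟨?_, (hgP P).2 hg⟩
          rw [Scheme.IdealSheafData.support_iSup]
          simp only [Closeds.coe_iInf, Set.mem_iInter]
          exact fun j => (hgsP j P).2 (hgs j)
        have hyx : X.fromSpecStalk x P ⤳ x := Scheme.range_fromSpecStalk.le ⟨P, rfl⟩
        have hxy : x = X.fromSpecStalk x P :=
          hyx.mem_closed (isClosed_singleton_of_finite hclosed hfin hy) rfl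
        exact congrArg PrimeSpectrum.asIdeal
          ((X.fromSpecStalk x).isEmbedding.injective (hxy.symm.trans hxm.symm))
      refine ⟨fun hK0 => hK0 (subsingleton_of_forall_eq 0 fun m =>
        Groth.Agent.WeakAssLib.stalkHom_injective (kernel.ι φ) x ?_), ?_⟩
      · rw [map_zero]
        have hinj := lTensor_mul_injective (M := F.presheaf.stalk x) vI vO _ g hf hreg
        have h0 := KFlat.stTensorIso_natural (𝟙 F) (ClSub.idealModι D) x
        rw [CategoryTheory.Functor.map_id, CategoryTheory.Functor.map_id, NatTrans.id_app, Category.id_comp] at h0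
        have key : (DerSch.stalkFunctor X x).map φ = (KFlat.stTensorIso F (ClSub.idealMod D) x).inv ≫
            (𝟙 ((DerSch.stalkFunctor X x).obj F) ⊗ₘ (DerSch.stalkFunctor X x).map (ClSub.idealModι D)) ≫
            (KFlat.stTensorIso F (Coh.structureModule X) x).hom := by
          rw [h0, Iso.inv_hom_id_assoc]
        have hφ : Function.Injective ((DerSch.stalkFunctor X x).map φ) := by
          rw [key]
          exact ((ConcreteCategory.bijective_of_isIso (KFlat.stTensorIso F (Coh.structureModule X) x).hom).1.comp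
            (show Function.Injective (𝟙 ((DerSch.stalkFunctor X x).obj F) ⊗ₘ
              (DerSch.stalkFunctor X x).map (ClSub.idealModι D)).hom by rw [tensorHom_hom]; exact hinj)).comp
            (ConcreteCategory.bijective_of_isIso (KFlat.stTensorIso F (ClSub.idealMod D) x).inv).1
        refine hφ ?_
        rw [map_zero]
        show stalkHom φ x (stalkHom (kernel.ι φ) x m) = 0
        rw [← Devissage.stalkHom_comp, kernel.condition, Devissage.stalkHom_zero]
      · let eC : (T.obj (ClSub.quotMod D)).presheaf.stalk x ≃ₗ[X.presheaf.stalk x]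
            QuotSMulTop g (F.presheaf.stalk x) :=
          (KFlat.stTensorIso F (ClSub.quotMod D) x).symm.toLinearEquiv.trans
            ((TensorProduct.congr (LinearEquiv.refl _ _) eQ).trans (QuotSMulTop.equivTensorQuot g (F.presheaf.stalk x)).symm)
        have hne : IsLocalRing.maximalIdeal (X.presheaf.stalk x) • (⊤ : Submodule (X.presheaf.stalk x) (F.presheaf.stalk x)) ≠ ⊤ :=
          fun he => top_ne_bot (α := Submodule (X.presheaf.stalk x) (F.presheaf.stalk x))
            (Submodule.eq_bot_of_le_smul_of_le_jacobson_bot _ ⊤ Module.Finite.fg_top he.ge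
              (IsLocalRing.maximalIdeal_le_jacobson ⊥))
        have h0 := Groth.Agent.S0320.result (X.presheaf.stalk x) (IsLocalRing.maximalIdeal _) (F.presheaf.stalk x) hne g hgm hreg
        rw [LocCoh.depth, Groth.Agent.LocH.idealDepth_congr eC]
        have h1 := hdep x hx
        rw [LocCoh.depth, ← h0, Nat.cast_succ] at h1
        exact (ENat.add_le_add_iff_right ENat.one_ne_top).1 h1
    have hKe : ((⨆ j, I' j).support ∩ CohB1.support K : Set X) = ∅ :=
      Set.eq_empty_of_forall_notMem fun x hx =>
        (hloc x ⟨hTs ▸ ⟨hx.1, (hKD hx.2).1⟩, (hKD hx.2).2⟩).1 hx.2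
    have ihK := alt_inter r I' (fun j => hI _) K hK (hKe ▸ Set.finite_empty) (fun x hx => (hKe.le hx).elim)
    have hsubC : ((⨆ j, I' j).support ∩ CohB1.support (T.obj (ClSub.quotMod D)) : Set X) ⊆
        ((⨆ j, I j).support ∩ CohB1.support F : Set X) :=
      fun x hx => ⟨hTs ▸ ⟨hx.1, hCD hx.2⟩, hCF hx.2⟩
    have ihC := alt_inter r I' (fun j => hI _) (T.obj (ClSub.quotMod D)) hC (hfin.subset hsubC)
      (fun x hx => (hloc x (hsubC hx)).2)
    have hK0 : alt (χt k K fun j => ClSub.idealMod (I' j)) = 0 := by
      rw [ihK]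
      have hz : IsZero (CohB1.tensorMod K (ClSub.quotMod (⨆ j, I' j))) := by
        refine Devissage.isZero_of_support (Set.eq_empty_of_forall_notMem fun x hx => ?_)
        have h1 : x ∈ CohB1.support K := support_tensor_subset (Groth.Agent.QC.isClosed_support hK.2) le_rfl _ hx
        have h2 : x ∈ ((⨆ j, I' j).support : Set X) := by
          refine support_tensor_subset (⨆ j, I' j).support.isClosed (CurveRR.support_quotMod _) K ?_
          intro hsub
          exact hx (((DerSch.stalkFunctor X x).mapIso
            (TMul.commIso K (ClSub.quotMod (⨆ j, I' j)))).toLinearEquiv.toEquiv.subsingleton_congr.2 hsub)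
        exact (hKe.le ⟨h2, h1⟩).elim
      have h0 := alt_isZero (X := X) k (r := 0) (M := ![]) (fun i => i.elim0) hz
      rwa [alt_zero] at h0
    haveI : Epi ψ := h.2
    let W := kernel ψ
    have hW : Coh.IsCoh W := Groth.Agent.QC.isCoh_of_mono (kernel.ι ψ) hB (Groth.Agent.QC.isQCoh_kernel hB.1 hC.1 ψ)
    have hφψ : φ ≫ ψ = 0 := by rw [← T.map_comp, show ClSub.idealModι D ≫ ClSub.toSubscheme D = 0 from kernel.condition _, T.map_zero]
    let e := kernel.lift ψ φ hφψ
    haveI : Epi e := h.1.epi_kernelLift
    let eK : kernel e ≅ K := (kernelCompMono e (kernel.ι ψ)).symm ≪≫ kernelIsoOfEq (kernel.lift_ι ψ φ hφψ)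
    have hM : ∀ j, PicF.IsInvertible (ClSub.idealMod (I' j)) := fun j => isInvertible_ideal (hI _)
    have hKe' : Coh.IsCoh (kernel e) := CohFinite.isCoh_of_iso eK.symm hK
    have e1 := congrArg alt (χt_add k hM (CurveRR.shortExact_ker e) hKe' hA hW)
    have e2 := congrArg alt (χt_add k hM (CurveRR.shortExact_ker ψ) hW hB hC)
    rw [alt_add] at e1 e2
    change alt (χt k (CohB1.tensorMod F (ClSub.idealMod D)) fun j => ClSub.idealMod (I' j)) =
      alt (χt k (kernel e) fun j => ClSub.idealMod (I' j)) + alt (χt k W fun j => ClSub.idealMod (I' j)) at e1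
    rw [χt_iso k eK] at e1
    change alt (χt k (CohB1.tensorMod F (ClSub.idealMod D)) fun j => ClSub.idealMod (I' j)) =
      alt (χt k K fun j => ClSub.idealMod (I' j)) + alt (χt k W fun j => ClSub.idealMod (I' j)) at e1
    change alt (χt k (CohB1.tensorMod F (Coh.structureModule X)) fun j => ClSub.idealMod (I' j)) =
      alt (χt k W fun j => ClSub.idealMod (I' j)) +
        alt (χt k (CohB1.tensorMod F (ClSub.quotMod D)) fun j => ClSub.idealMod (I' j)) at e2
    rw [χt_iso k (TMul.commIso F (Coh.structureModule X) ≪≫ TMul.leftUnitIso F)] at e2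
    rw [show (fun j => ClSub.idealMod (I j)) = (Fin.snoc (fun j => ClSub.idealMod (I' j)) (ClSub.idealMod D) :
      Fin (r + 1) → X.Modules) from funext fun j => by induction j using Fin.lastCases <;> simp [I', D],
      alt_snoc, e1, e2, hK0]
    obtain ⟨q⟩ := nonempty_quot_sup D (⨆ j, I' j)
    rw [hT, sup_comm, CurveRR.euler_eq_of_iso ((TMul.assocIso F (ClSub.quotMod D) (ClSub.quotMod (⨆ j, I' j))) ≪≫
      PicGrp.tensorModIso (Iso.refl F) q).symm]
    change alt (χt k (CohB1.tensorMod F (ClSub.quotMod D)) fun j => ClSub.idealMod (I' j)) =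
      (Curv2.euler k X (CohB1.tensorMod (CohB1.tensorMod F (ClSub.quotMod D)) (ClSub.quotMod (⨆ j, I' j))) : ℚ) at ihC
    rw [← ihC]
    ring

end Groth.Agent.Intersect
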