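import Groth.Agent.Intersect.Cartier
import Groth.Agent.Intersect.Numer
import Groth.Agent.Intersect.IsoOff
import Groth.Agent.TMul.AmpleBasis
import Groth.Agent.CurveRR.GlobGen
import Groth.Agent.NegTwist.Coker
import Mathlib.RingTheory.Nakayama

/-!
Intersection numbers of ample modules are positive.
-/

set_option autoImplicit false
set_option backward.isDefEq.respectTransparency false
set_option linter.style.haveILetI false
set_option linter.unusedSectionVars false

universe u

open CategoryTheory CategoryTheory.Limits AlgebraicGeometry TopologicalSpace Opposite MonoidalCategory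
open Groth.Agent.CohFinite
open Groth.Agent.WeakAssLib (mgerm stalkHom)
open Groth.Agent.CurveRR.Multi (lenAt)
open scoped TensorProduct

noncomputable section

namespace Groth.Agent.Intersect

section Alg

theorem not_surjective_lTensor {R P Q : Type u} [CommRing R] [IsLocalRing R] [AddCommGroup P] [Module R P]
    [AddCommGroup Q] [Module R Q] {M : Type u} [AddCommGroup M] [Module R M] [Module.Finite R M] [Nontrivial M]
    (f : Q →ₗ[R] P) (v : P ≃ₗ[R] R) (hf : ∀ q, v (f q) ∈ IsLocalRing.maximalIdeal R) :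
    ¬ Function.Surjective (f.lTensor M) := by
  intro hs
  let 𝔪 := IsLocalRing.maximalIdeal R
  let w : M ⊗[R] P ≃ₗ[R] M := (TensorProduct.congr (LinearEquiv.refl _ _) v).trans (TensorProduct.rid _ _)
  have hmem : ∀ t : M ⊗[R] Q, w (f.lTensor M t) ∈ 𝔪 • (⊤ : Submodule R M) := fun t => by
    induction t using TensorProduct.induction_on with
    | zero => simp
    | tmul m q =>
      have e : w (f.lTensor M (m ⊗ₜ q)) = v (f q) • m := by simp [w]
      rw [e]
      exact Submodule.smul_mem_smul (hf q) trivial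
    | add a b ha hb => rw [map_add, map_add]; exact add_mem ha hb
  refine top_ne_bot (α := Submodule R M) (Submodule.eq_bot_of_le_smul_of_le_jacobson_bot 𝔪 ⊤ Module.Finite.fg_top
    (fun m _ => ?_) (IsLocalRing.maximalIdeal_le_jacobson ⊥))
  obtain ⟨t, ht⟩ := hs (w.symm m)
  simpa [ht] using hmem t

end Alg

variable {X : Scheme.{u}} {r : ℕ}

theorem isIso_stalk_of_mem_genLocus {L : X.Modules} (s : Coh.structureModule X ⟶ L) {x : X}
    (hx : x ∈ CohB1.genLocus L s) : IsIso ((DerSch.stalkFunctor X x).map s) := by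
  obtain ⟨U, hxU, hU⟩ := (TMul.mem_genLocus_iff s).1 hx
  rw [ConcreteCategory.isIso_iff_bijective]
  let one : Γ(Coh.structureModule X, U) := (1 : Γ(X, U))
  have h1 := RefDiv.bijective_germ_of_isGen (TMul.isGen_one U) hxU
  have h2 := RefDiv.bijective_germ_of_isGen hU hxU
  have key : ∀ a : X.presheaf.stalk x, stalkHom s x (a • mgerm (Coh.structureModule X) hxU one) =
      a • mgerm L hxU (TMul.val s U) := fun a =>
    (((DerSch.stalkFunctor X x).map s).hom.map_smul a _).trans
      (congrArg (a • ·) (Groth.Agent.WeakAssLib.stalkHom_germ s hxU one))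
  refine ⟨fun p q hpq => ?_, fun m => ?_⟩
  · obtain ⟨a, rfl⟩ := h1.2 p
    obtain ⟨b, rfl⟩ := h1.2 q
    have hab : a = b := h2.1 ((key a).symm.trans (hpq.trans (key b)))
    rw [hab]
  · obtain ⟨a, ha⟩ := h2.2 m
    exact ⟨_, (key a).trans ha⟩

/-- The generator coefficient of a section outside its generating locus is not a unit. -/
theorem exists_coeff_mem {L : X.Modules} (hL : PicF.IsInvertible L) (s : Coh.structureModule X ⟶ L) {x : X}
    (hx : x ∉ CohB1.genLocus L s) :
    ∃ v : L.presheaf.stalk x ≃ₗ[X.presheaf.stalk x] X.presheaf.stalk x,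
      ∀ q, v (((DerSch.stalkFunctor X x).map s).hom q) ∈ IsLocalRing.maximalIdeal (X.presheaf.stalk x) := by
  obtain ⟨U, e, hxU, he⟩ := TMul.exists_isGen hL x
  let v : X.presheaf.stalk x ≃ₗ[X.presheaf.stalk x] L.presheaf.stalk x :=
    LinearEquiv.ofBijective (LinearMap.toSpanSingleton _ _ (mgerm L hxU e)) (RefDiv.bijective_germ_of_isGen he hxU)
  refine ⟨v.symm, fun q => ?_⟩
  obtain ⟨c, hc⟩ := (he U le_rfl).2 (TMul.val s U)
  simp only [Groth.Agent.QC.res_self] at hc
  have hnu : ¬ IsUnit (X.presheaf.germ U x hxU c) := fun h => hx ((TMul.mem_genLocus_iff_isUnit s he hc.symm hxU).2 h)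
  let one : Γ(Coh.structureModule X, U) := (1 : Γ(X, U))
  obtain ⟨b, rfl⟩ := (RefDiv.bijective_germ_of_isGen (TMul.isGen_one U) hxU).2 q
  have h0 : ((DerSch.stalkFunctor X x).map s).hom (mgerm (Coh.structureModule X) hxU one) =
      v (X.presheaf.germ U x hxU c) := by
    refine (Groth.Agent.WeakAssLib.stalkHom_germ s hxU one).trans ?_
    show mgerm L hxU (TMul.val s U) = X.presheaf.germ U x hxU c • mgerm L hxU e
    rw [← hc]
    exact Groth.Agent.WeakAssLib.mgerm_smul (F := L) hxU c e
  rw [map_smul, h0, map_smul, LinearEquiv.symm_apply_apply]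
  exact Ideal.mul_mem_left _ _ hnu

theorem tensorHom_hom {R : Type u} [CommRing R] (M : ModuleCat.{u} R) {P Q : ModuleCat.{u} R} (f : P ⟶ Q) :
    (𝟙 M ⊗ₘ f).hom = f.hom.lTensor M := by
  rw [id_tensorHom]
  exact rfl

/-- A section of an invertible module nonzero at `ξ` restricts to `A ξ` injectively. -/
theorem mono_A_tensor_section [IsNoetherian X] (ξ : X) {L : X.Modules} (hL : PicF.IsInvertible L)
    (s : Coh.structureModule X ⟶ L) (hξ : ξ ∈ CohB1.genLocus L s) :
    Mono (((KFlat.schB X).obj (Devissage.A ξ)).map s) := by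
  let F := Devissage.A ξ
  let T := (KFlat.schB X).obj F
  let φ : T.obj (Coh.structureModule X) ⟶ T.obj L := T.map s
  let K := kernel φ
  have hsub : ξ ∉ CohB1.support K := fun h => h (by
    haveI := isIso_stalk_of_mem_genLocus s hξ
    haveI : IsIso ((KFlat.stTensorIso F (Coh.structureModule X) ξ).hom ≫
        (DerSch.stalkFunctor X ξ).map (((KFlat.schB X).map (𝟙 F)).app _ ≫ φ)) := by
      rw [← KFlat.stTensorIso_natural (𝟙 F) s ξ]
      infer_instance
    haveI h1 := IsIso.of_isIso_comp_left (KFlat.stTensorIso F (Coh.structureModule X) ξ).hom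
      ((DerSch.stalkFunctor X ξ).map (((KFlat.schB X).map (𝟙 F)).app _ ≫ φ))
    rw [CategoryTheory.Functor.map_id, NatTrans.id_app, Category.id_comp] at h1
    refine subsingleton_of_forall_eq 0 fun m => Groth.Agent.WeakAssLib.stalkHom_injective (kernel.ι φ) ξ ?_
    rw [map_zero]
    refine (ConcreteCategory.bijective_of_isIso ((DerSch.stalkFunctor X ξ).map φ)).1 ?_
    rw [map_zero]
    show stalkHom φ ξ (stalkHom (kernel.ι φ) ξ m) = 0
    rw [← Devissage.stalkHom_comp, kernel.condition, Devissage.stalkHom_zero])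
  let e : T.obj (Coh.structureModule X) ≅ F := TMul.commIso _ _ ≪≫ TMul.leftUnitIso _
  let j : K ⟶ Devissage.A ξ := kernel.ι φ ≫ e.hom
  haveI : Mono j := mono_comp _ _
  refine Preadditive.mono_of_kernel_zero (show kernel.ι φ = 0 from (cancel_mono e.hom).1 ?_)
  rw [zero_comp]
  refine Scheme.Modules.hom_ext _ _ fun W => ?_
  ext t
  have : (j.app W) t = 0 := Devissage.A_sep ξ _ fun hξW => by
    rw [← Groth.Agent.WeakAssLib.stalkHom_germ, Devissage.germ_eq_zero_of_notMem hξW t hsub, map_zero]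
  exact this

/-- The cokernel of a section restricted to `A ξ` is supported at every zero of it. -/
theorem mem_support_coker [IsNoetherian X] (ξ : X) {L : X.Modules} (hL : PicF.IsInvertible L)
    (s : Coh.structureModule X ⟶ L) [Mono (((KFlat.schB X).obj (Devissage.A ξ)).map s)]
    {ζ : X} (hζ : ζ ∈ closure ({ξ} : Set X)) (hs : ζ ∉ CohB1.genLocus L s) :
    ζ ∈ CohB1.support (cokernel (((KFlat.schB X).obj (Devissage.A ξ)).map s)) := fun hsub => by
  let F := Devissage.A ξ
  let φ := ((KFlat.schB X).obj F).map s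
  haveI : Subsingleton ((cokernel φ).presheaf.stalk ζ) := hsub
  haveI := NegTwist.finite_stalk_of_isCoh (Devissage.isCoh_A ξ) ζ
  haveI : Nontrivial (F.presheaf.stalk ζ) := by
    rw [← not_subsingleton_iff_nontrivial]
    exact closure_minimal (Set.singleton_subset_iff.mpr (Devissage.piece_A ξ).mem)
      (Groth.Agent.QC.isClosed_support (Devissage.isCoh_A ξ).2) hζ
  have hsurj : Function.Surjective ((DerSch.stalkFunctor X ζ).map φ) := fun m =>
    Groth.Agent.WeakAssLib.stalk_exact _ (Devissage.cokSeq_shortExact φ) ζ m (Subsingleton.elim _ _)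
  obtain ⟨v, hv⟩ := exists_coeff_mem hL s hs
  refine not_surjective_lTensor (M := F.presheaf.stalk ζ) _ v hv ?_
  have h := KFlat.stTensorIso_natural (𝟙 F) s ζ
  rw [CategoryTheory.Functor.map_id, CategoryTheory.Functor.map_id, NatTrans.id_app, Category.id_comp] at h
  have key : 𝟙 ((DerSch.stalkFunctor X ζ).obj F) ⊗ₘ (DerSch.stalkFunctor X ζ).map s =
      (KFlat.stTensorIso F (Coh.structureModule X) ζ).hom ≫ (DerSch.stalkFunctor X ζ).map φ ≫
        (KFlat.stTensorIso F L ζ).inv := by
    rw [← Category.assoc, ← h, Category.assoc, Iso.hom_inv_id, Category.comp_id]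
  have h2 : Function.Surjective (𝟙 ((DerSch.stalkFunctor X ζ).obj F) ⊗ₘ (DerSch.stalkFunctor X ζ).map s).hom := by
    rw [key, ModuleCat.hom_comp, ModuleCat.hom_comp]
    exact ((ConcreteCategory.bijective_of_isIso (KFlat.stTensorIso F L ζ).inv).2.comp hsurj).comp
      (ConcreteCategory.bijective_of_isIso (KFlat.stTensorIso F (Coh.structureModule X) ζ).hom).2
  rwa [tensorHom_hom] at h2

theorem exists_chain {T : Type u} [TopologicalSpace T] [QuasiSober T] [T0Space T] {n : ℕ}
    (h : (n : WithBot ℕ∞) ≤ topologicalKrullDim T) :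
    ∃ c : Fin (n + 1) → T, ∀ i j, i < j → c j ⤳ c i ∧ c i ≠ c j := by
  letI : PartialOrder T := specializationOrder T
  obtain ⟨l, rfl⟩ := Order.le_krullDim_iff.1 (h.trans_eq (CartierDim.topDim_eq T))
  exact ⟨fun i => l i, fun i j hij => ⟨(l.strictMono hij).le, (l.strictMono hij).ne⟩⟩

theorem le_dim_of_chain {T : Type u} [TopologicalSpace T] [QuasiSober T] [T0Space T] {n : ℕ}
    (c : Fin (n + 1) → T) (hc : ∀ i j, i < j → c j ⤳ c i ∧ c i ≠ c j) :
    (n : WithBot ℕ∞) ≤ topologicalKrullDim T := by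
  letI : PartialOrder T := specializationOrder T
  rw [CartierDim.topDim_eq]
  exact Order.le_krullDim_iff.2 ⟨LTSeries.mk n c fun i j hij => lt_of_le_of_ne (hc i j hij).1 (hc i j hij).2, rfl⟩

theorem exists_chain_closed {B : Set X} (hB : IsClosed B) {n : ℕ} (h : (n : WithBot ℕ∞) ≤ topologicalKrullDim B) :
    ∃ c : Fin (n + 1) → X, (∀ i, c i ∈ B) ∧ ∀ i j, i < j → c j ⤳ c i ∧ c i ≠ c j := by
  haveI : QuasiSober B := hB.isClosedEmbedding_subtypeVal.quasiSober
  obtain ⟨c, hc⟩ := exists_chain h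
  exact ⟨fun i => (c i).1, fun i => (c i).2, fun i j hij =>
    ⟨(subtype_specializes_iff _ _).1 (hc i j hij).1, fun e => (hc i j hij).2 (Subtype.ext e)⟩⟩

theorem le_dim_closed_of_chain {B : Set X} (hB : IsClosed B) {n : ℕ} (c : Fin (n + 1) → X) (hmem : ∀ i, c i ∈ B)
    (hc : ∀ i j, i < j → c j ⤳ c i ∧ c i ≠ c j) : (n : WithBot ℕ∞) ≤ topologicalKrullDim B := by
  haveI : QuasiSober B := hB.isClosedEmbedding_subtypeVal.quasiSober
  exact le_dim_of_chain (fun i => (⟨c i, hmem i⟩ : B)) fun i j hij =>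
    ⟨(subtype_specializes_iff _ _).2 (hc i j hij).1, fun e => (hc i j hij).2 (congrArg Subtype.val e)⟩

theorem mem_closure_of_chain {n : ℕ} (c : Fin (n + 1) → X) (hc : ∀ i j, i < j → c j ⤳ c i ∧ c i ≠ c j)
    {i j : Fin (n + 1)} (h : i ≤ j) : c i ∈ closure ({c j} : Set X) := by
  rcases h.lt_or_eq with h | rfl
  · exact specializes_iff_mem_closure.mp (hc i j h).1
  · exact subset_closure rfl

/-- An irreducible closed set of dimension `r + 1` contains one of dimension `r`. -/
theorem exists_mem_closure_dim {ξ : X} (h : topologicalKrullDim (closure {ξ} : Set X) = ((r + 1 : ℕ) : WithBot ℕ∞)) :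
    ∃ ζ ∈ closure ({ξ} : Set X), ζ ≠ ξ ∧ topologicalKrullDim (closure {ζ} : Set X) = (r : WithBot ℕ∞) := by
  obtain ⟨c, hm, hc⟩ := exists_chain_closed isClosed_closure h.ge
  let ζ := c (Fin.last r).castSucc
  have hne : ζ ≠ ξ := fun e => (hc _ _ (Fin.castSucc_lt_last (Fin.last r))).2
    (((hc _ _ (Fin.castSucc_lt_last (Fin.last r))).1.antisymm
      (show c (Fin.last r).castSucc ⤳ c (Fin.last (r + 1)) from
        (show c (Fin.last r).castSucc = ξ from e) ▸ specializes_iff_mem_closure.mpr (hm _))).eq.symm)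
  refine ⟨ζ, hm _, hne, le_antisymm (le_of_lt_succ' ?_) ?_⟩
  · exact dim_proper_lt (n := r + 1) (lt_succ_of_le' h.le) isClosed_closure
      (closure_minimal (Set.singleton_subset_iff.mpr (hm _)) isClosed_closure)
      fun hξ => hne ((specializes_iff_mem_closure.mpr hξ).antisymm (specializes_iff_mem_closure.mpr (hm _))).eq
  exact le_dim_closed_of_chain isClosed_closure (fun i : Fin (r + 1) => c i.castSucc)
    (fun i => mem_closure_of_chain c hc (Fin.castSucc_le_castSucc_iff.mpr (Fin.le_last i)))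
    fun i j hij => hc _ _ (Fin.castSucc_lt_castSucc_iff.mpr hij)

theorem lenAt_one_le [IsNoetherian X] {F : X.Modules} {B : Set X} (hFB : CohB1.support F ⊆ B) (hF : Coh.IsCoh F) {ξ : X}
    (hξ : ξ ∈ CohB1.support F) (hmin : ∀ y ∈ B, y ⤳ ξ → y = ξ) : (1 : ℤ) ≤ lenAt F ξ := by
  haveI : Nontrivial (F.presheaf.stalk ξ) := not_subsingleton_iff_nontrivial.mp hξ
  have h1 := Module.length_ne_top_iff.mpr (isFiniteLength_stalk hF hFB hmin)
  have h2 : Module.length (X.presheaf.stalk ξ) (F.presheaf.stalk ξ) ≠ 0 := Module.length_pos.ne'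
  rw [lenAt]
  norm_cast
  rw [Nat.one_le_iff_ne_zero, ne_eq, ENat.toNat_eq_zero]
  tauto

theorem top_nonempty [IsNoetherian X] {F : X.Modules} (hF : Coh.IsCoh F)
    (hd : topologicalKrullDim (CohB1.support F) = (r : WithBot ℕ∞))
    (T : Finset X) (hT : ∀ ξ, ξ ∈ T ↔ ξ ∈ top (CohB1.support F) r) : T.Nonempty := by
  have hB := Groth.Agent.QC.isClosed_support hF.2
  obtain ⟨c, hm, hc⟩ := exists_chain_closed hB hd.ge
  exact ⟨c (Fin.last r), (hT _).2 ⟨hm _, le_antisymm ((dim_closure_le hB (hm _)).trans hd.le)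
    (le_dim_closed_of_chain isClosed_closure c (fun i => mem_closure_of_chain c hc (Fin.le_last i)) hc)⟩⟩

variable (k : Type u) [Field k] [X.Over (Spec (CommRingCat.of k))] [IsProper (X ↘ Spec (CommRingCat.of k))]

theorem euler_A_pos (ξ : X) (hξ : topologicalKrullDim (closure {ξ} : Set X) ≤ 0) :
    0 < Curv2.euler k X (Devissage.A ξ) := by
  haveI := CurveRR.isNoetherian_of_proper k X
  rw [CurveRR.euler_eq_h0 fun i hi => SuppZero.subsingleton_hh_of_supported isClosed_closure hξ _
    (fun x hx hx' => hx (Devissage.support_A_subset ξ hx')) i hi]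
  exact_mod_cast CurveRR.h0_quotMod_pos (k := k) (Scheme.IdealSheafData.vanishingIdeal (Devissage.Zc ξ))
    ⟨ξ, by rw [Scheme.IdealSheafData.coe_support_vanishingIdeal]; exact subset_closure rfl⟩

theorem alt_pos_of_pieces {L : Fin r → X.Modules} (hL : ∀ i, CohB1.IsAmple (L i))
    (h : ∀ ξ : X, topologicalKrullDim (closure {ξ} : Set X) = (r : WithBot ℕ∞) →
      0 < (-1 : ℚ) ^ r * alt (χt k (Devissage.A ξ) L))
    {F : X.Modules} (hF : Coh.IsCoh F) (hr : topologicalKrullDim (CohB1.support F) = (r : WithBot ℕ∞)) :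
    0 < (-1 : ℚ) ^ r * alt (χt k F L) := by
  haveI := CurveRR.isNoetherian_of_proper k X
  have hB := Groth.Agent.QC.isClosed_support hF.2
  obtain ⟨T, hT⟩ := exists_top_finset k hF hr.le
  rw [alt_comp k F hF hr.le (fun i => (hL i).1) T hT, Finset.mul_sum]
  refine Finset.sum_pos (fun ξ hξ => ?_) (top_nonempty hF hr T hT)
  have hξ' := (hT ξ).1 hξ
  rw [mul_left_comm]
  refine mul_pos ?_ (h ξ hξ'.2)
  have := lenAt_one_le le_rfl hF hξ'.1 fun y hy hys => eq_of_mem_top hB hr.le hξ' hy hys
  exact_mod_cast lt_of_lt_of_le Int.one_pos this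

/-- Intersection numbers of ample modules are positive. -/
theorem alt_pos : ∀ (r : ℕ) (L : Fin r → X.Modules), (∀ i, CohB1.IsAmple (L i)) →
    ∀ F : X.Modules, Coh.IsCoh F → topologicalKrullDim (CohB1.support F) = (r : WithBot ℕ∞) →
      0 < (-1 : ℚ) ^ r * alt (χt k F L)
  | 0, L, hL, F, hF, hr => by
    refine alt_pos_of_pieces k hL (fun ξ hξ => ?_) hF hr
    rw [pow_zero, one_mul, alt_zero]
    exact_mod_cast euler_A_pos k ξ (le_of_eq (by simpa using hξ))
  | r + 1, L, hL, F, hF, hr => by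
    haveI := CurveRR.isNoetherian_of_proper k X
    refine alt_pos_of_pieces k hL (fun ξ hξ => ?_) hF hr
    obtain ⟨ζ, hζ, hne, hζd⟩ := exists_mem_closure_dim hξ
    let U : X.Opens := ⟨(closure ({ζ} : Set X))ᶜ, isClosed_closure.isOpen_compl⟩
    have hξU : ξ ∈ U := fun h =>
      hne ((specializes_iff_mem_closure.mpr h).antisymm (specializes_iff_mem_closure.mpr hζ)).eq
    obtain ⟨n, s, hξs, hsU, -⟩ := TMul.exists_mem_le (hL 0) hξU
    have hζs : ζ ∉ CohB1.genLocus _ s := fun h => hsU h (subset_closure rfl)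
    let P := CohB1.tensorPow (L 0) (n + 1)
    have hP : PicF.IsInvertible P := TMul.isInvertible_tensorPow (hL 0).1 _
    have hA := Devissage.isCoh_A ξ
    let φ := ((KFlat.schB X).obj (Devissage.A ξ)).map s
    haveI : Mono φ := mono_A_tensor_section ξ hP s hξs
    let Q := cokernel φ
    have hAO : Coh.IsCoh (((KFlat.schB X).obj (Devissage.A ξ)).obj (Coh.structureModule X)) :=
      CurveRR.isCoh_tensor' hA RefStalk.isCoh_structureModule
    have hAP : Coh.IsCoh (((KFlat.schB X).obj (Devissage.A ξ)).obj P) := isCoh_twist k hA hP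
    have hQ : Coh.IsCoh Q := Groth.Agent.QC.isCoh_cokernel hAO.1 hAP φ
    have hS := Devissage.cokSeq_shortExact φ
    have hQsub : CohB1.support Q ⊆ closure {ξ} := fun x hx =>
      support_tensor_subset isClosed_closure (Devissage.support_A_subset ξ) P
        ((ClSubLib.support_shortExact _ hS).symm ▸ Or.inr hx)
    have hQξ : ξ ∉ CohB1.support Q := by
      haveI := isIso_stalk_of_mem_genLocus s hξs
      refine Devissage.notMem_support_of_surjective _ hS _ fun m => ?_
      obtain ⟨y, hy⟩ := (@ConcreteCategory.bijective_of_isIso _ _ _ _ _ _ _ _ ((DerSch.stalkFunctor X ξ).map φ) (by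
          haveI : IsIso ((KFlat.stTensorIso (Devissage.A ξ) (Coh.structureModule X) ξ).hom ≫
              (DerSch.stalkFunctor X ξ).map (((KFlat.schB X).map (𝟙 (Devissage.A ξ))).app _ ≫ φ)) := by
            rw [← KFlat.stTensorIso_natural (𝟙 (Devissage.A ξ)) s ξ]
            infer_instance
          have h1 := IsIso.of_isIso_comp_left (KFlat.stTensorIso (Devissage.A ξ) (Coh.structureModule X) ξ).hom
            ((DerSch.stalkFunctor X ξ).map (((KFlat.schB X).map (𝟙 (Devissage.A ξ))).app _ ≫ φ))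
          rwa [CategoryTheory.Functor.map_id, NatTrans.id_app, Category.id_comp] at h1)).2 m
      exact ⟨y, hy⟩
    have hQc := Groth.Agent.QC.isClosed_support hQ.2
    have hQd : topologicalKrullDim (CohB1.support Q) = (r : WithBot ℕ∞) := by
      refine le_antisymm (le_of_lt_succ' (dim_proper_lt (lt_succ_of_le' hξ.le) hQc hQsub hQξ)) ?_
      rw [← hζd]
      exact dim_closure_le hQc (mem_support_coker ξ hP s hζ hζs)
    let L' : Fin r → X.Modules := fun i => L i.succ
    have hL' : ∀ i, PicF.IsInvertible (L' i) := fun i => (hL i.succ).1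
    have hLe : L = Fin.cons (L 0) L' := (Fin.cons_self_tail L).symm
    have hadd := congrArg alt (χt_add k hL' hS hAO hAP hQ)
    rw [alt_add] at hadd
    change alt (χt k (CohB1.tensorMod (Devissage.A ξ) P) L') =
      alt (χt k (CohB1.tensorMod (Devissage.A ξ) (Coh.structureModule X)) L') + alt (χt k Q L') at hadd
    rw [χt_iso k (TMul.commIso (Devissage.A ξ) (Coh.structureModule X) ≪≫ TMul.leftUnitIso _) L'] at hadd
    have h1 := alt_cons_pow k hA (hL 0).1 hL' (r := r)
      ((dim_mono (Devissage.support_A_subset ξ)).trans hξ.le) (n + 1)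
    rw [alt_cons, hadd, ← hLe, sub_add_cancel_left] at h1
    have ih := alt_pos r L' (fun i => hL i.succ) Q hQ hQd
    have hn : (0 : ℚ) < ((n + 1 : ℕ) : ℚ) := by exact_mod_cast Nat.succ_pos n
    have h2 : alt (χt k (Devissage.A ξ) L) = -alt (χt k Q L') / ((n + 1 : ℕ) : ℚ) := by
      rw [h1]; field_simp
    rw [h2, pow_succ]
    have : (-1 : ℚ) ^ r * -1 * (-alt (χt k Q L') / ((n + 1 : ℕ) : ℚ)) =
        ((-1 : ℚ) ^ r * alt (χt k Q L')) / ((n + 1 : ℕ) : ℚ) := by ring
    rw [this]
    exact div_pos ih hn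

end Groth.Agent.Intersect
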