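import Groth.Agent.Intersect.Comp
import Groth.Agent.CurveRR.Curve

/-!
Applications: integrality, additivity, the binomial expansion, curves.
-/

set_option autoImplicit false
set_option backward.isDefEq.respectTransparency false
set_option linter.style.haveILetI false
set_option linter.unusedSectionVars false

universe u

open CategoryTheory CategoryTheory.Limits AlgebraicGeometry TopologicalSpace Opposite
open Groth.Agent.CohFinite

noncomputable section

namespace Groth.Agent.Intersect

variable {X : Scheme.{u}} {r : ℕ}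

theorem nonempty_N_add_pow (L : Fin r → X.Modules) (n : Fin r → ℕ) (i : Fin r) :
    ∀ a : ℕ, Nonempty (N L (n + Pi.single i a) ≅ CohB1.tensorMod (CohB1.tensorPow (L i) a) (N L n))
  | 0 => ⟨eqToIso (by simp) ≪≫ (TMul.leftUnitIso _).symm⟩
  | a + 1 => by
    obtain ⟨e⟩ := nonempty_N_add_pow L n i a
    obtain ⟨b⟩ := nonempty_N_add L (n + Pi.single i a) i
    refine ⟨eqToIso (by rw [Pi.single_add, ← add_assoc]) ≪≫ b ≪≫ PicGrp.tensorModIso (Iso.refl _) e ≪≫
      (TMul.assocIso _ _ _).symm ≪≫ PicGrp.tensorModIso (TMul.commIso _ _) (Iso.refl _)⟩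

theorem nonempty_multiTwist_iso (L : Fin r → X.Modules) (m : Fin r → ℕ) :
    Nonempty (FGA.multiTwist L m ≅ N L m) := by
  have key : ∀ l : List (Fin r), Nonempty (FGA.tensorList (l.map fun i => CohB1.tensorPow (L i) (m i)) ≅
      N L ((l.map fun i => Pi.single i (m i)).sum)) := by
    intro l
    induction l with
    | nil => obtain ⟨a⟩ := nonempty_N_zero L; exact ⟨a.symm⟩
    | cons i l ih =>
      obtain ⟨a⟩ := ih
      obtain ⟨b⟩ := nonempty_N_add_pow L ((l.map fun i => Pi.single i (m i)).sum) i (m i)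
      exact ⟨PicGrp.tensorModIso (Iso.refl _) a ≪≫ b.symm ≪≫ eqToIso (by simp [add_comm])⟩
  obtain ⟨a⟩ := key (List.finRange r)
  refine ⟨a ≪≫ eqToIso (congrArg (N L) ?_)⟩
  rw [← Fin.sum_univ_def, Finset.univ_sum_single]

theorem nonempty_N_cons_zero : ∀ {r : ℕ} (A : X.Modules) (M : Fin r → X.Modules) (n : Fin r → ℕ),
    Nonempty (N (Fin.cons A M) (Fin.cons 0 n) ≅ N M n)
  | 0, A, M, n => ⟨TMul.leftUnitIso _⟩
  | r + 1, A, M, n => by
    obtain ⟨e⟩ := nonempty_N_cons_zero A (fun i => M i.castSucc) (fun i => n i.castSucc)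
    have h1 : (fun i : Fin (r + 1) => (Fin.cons A M : Fin (r + 2) → X.Modules) i.castSucc) =
        Fin.cons A fun i => M i.castSucc := by
      funext i; refine Fin.cases ?_ (fun j => ?_) i <;> simp
    have h2 : (fun i : Fin (r + 1) => (Fin.cons 0 n : Fin (r + 2) → ℕ) i.castSucc) =
        Fin.cons 0 fun i => n i.castSucc := by
      funext i; refine Fin.cases ?_ (fun j => ?_) i <;> simp
    refine ⟨PicGrp.tensorModIso (eqToIso (by rw [h1, h2]) ≪≫ e) (eqToIso ?_)⟩
    rw [← Fin.succ_last, Fin.cons_succ, Fin.cons_succ]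

theorem nonempty_N_cons_one (A : X.Modules) (M : Fin r → X.Modules) (n : Fin r → ℕ) :
    Nonempty (N (Fin.cons A M) (Fin.cons 1 n) ≅ CohB1.tensorMod A (N M n)) := by
  obtain ⟨e⟩ := nonempty_N_cons_zero A M n
  obtain ⟨b⟩ := nonempty_N_add (Fin.cons A M) (Fin.cons 0 n) 0
  refine ⟨eqToIso ?_ ≪≫ b ≪≫ PicGrp.tensorModIso (eqToIso (Fin.cons_zero _ _)) e⟩
  congr 1
  funext i
  refine Fin.cases ?_ (fun j => ?_) i <;> simp

variable (k : Type u) [Field k] [X.Over (Spec (CommRingCat.of k))] [IsProper (X ↘ Spec (CommRingCat.of k))]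

theorem alt_cons (F A : X.Modules) (M : Fin r → X.Modules) :
    alt (χt k F (Fin.cons A M)) = alt (χt k F M) - alt (χt k (CohB1.tensorMod F A) M) := by
  rw [alt_succ]
  congr 2 <;> funext n
  · obtain ⟨e⟩ := nonempty_N_cons_zero A M n
    rw [χt, χt, CurveRR.euler_eq_of_iso (PicGrp.tensorModIso (Iso.refl F) e)]
  · obtain ⟨e⟩ := nonempty_N_cons_one A M n
    rw [χt, χt, CurveRR.euler_eq_of_iso (PicGrp.tensorModIso (Iso.refl F) e ≪≫ (TMul.assocIso _ _ _).symm)]

include k in
theorem isCoh_twist {F A : X.Modules} (hF : Coh.IsCoh F) (hA : PicF.IsInvertible A) :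
    Coh.IsCoh (CohB1.tensorMod F A) :=
  haveI := CurveRR.isNoetherian_of_proper k X
  CurveRR.isCoh_tensor' hF (CurveRR.isCoh_of_inv hA)

theorem dim_support_twist {F : X.Modules} (hF : Coh.IsCoh F) (A : X.Modules) :
    topologicalKrullDim (CohB1.support (CohB1.tensorMod F A)) ≤ topologicalKrullDim (CohB1.support F) :=
  (Topology.IsEmbedding.inclusion (support_tensor_subset (Groth.Agent.QC.isClosed_support hF.2) le_rfl A)).isInducing.topologicalKrullDim_le

theorem alt_eq_zero_of_dim {F : X.Modules} (hF : Coh.IsCoh F) {M : Fin r → X.Modules}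
    (hM : ∀ i, PicF.IsInvertible (M i)) (h : topologicalKrullDim (CohB1.support F) < r) : alt (χt k F M) = 0 :=
  alt_eq_zero le_rfl (χt_mem k hM r F hF h)

theorem isInvertible_cons {A : X.Modules} {M : Fin r → X.Modules} (hA : PicF.IsInvertible A)
    (hM : ∀ i, PicF.IsInvertible (M i)) : ∀ i, PicF.IsInvertible ((Fin.cons A M : Fin (r + 1) → X.Modules) i) :=
  Fin.cases (by simpa using hA) (fun i => by simpa using hM i)

theorem alt_additive {F A B : X.Modules} (hF : Coh.IsCoh F) (hA : PicF.IsInvertible A) (hB : PicF.IsInvertible B)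
    {M : Fin r → X.Modules} (hM : ∀ i, PicF.IsInvertible (M i))
    (h : topologicalKrullDim (CohB1.support F) < (r + 2 : ℕ)) :
    alt (χt k F (Fin.cons (CohB1.tensorMod A B) M)) =
      alt (χt k F (Fin.cons A M)) + alt (χt k F (Fin.cons B M)) := by
  have h0 := alt_eq_zero_of_dim k hF (isInvertible_cons hA (isInvertible_cons hB hM)) h
  rw [alt_cons, alt_cons k F B M, alt_cons k _ B M, χt_iso k (TMul.assocIso F A B) M] at h0
  rw [alt_cons, alt_cons, alt_cons]
  linear_combination -1 * h0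

theorem intNum_additive (d : ℕ) (hd : topologicalKrullDim X ≤ d) {M : Fin r → X.Modules}
    (hM : ∀ i, PicF.IsInvertible (M i)) {A B : X.Modules} (hA : PicF.IsInvertible A) (hB : PicF.IsInvertible B)
    {F : X.Modules} (hF : Coh.IsCoh F) (hr : topologicalKrullDim (CohB1.support F) ≤ (r + 1 : ℕ)) :
    FGA.intNum k X d (Fin.cons (CohB1.tensorMod A B) M) F =
      FGA.intNum k X d (Fin.cons A M) F + FGA.intNum k X d (Fin.cons B M) F := by
  have h : (FGA.intNum k X d (Fin.cons (CohB1.tensorMod A B) M) F : ℚ) =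
      (FGA.intNum k X d (Fin.cons A M) F : ℚ) + (FGA.intNum k X d (Fin.cons B M) F : ℚ) := by
    rw [intNum_eq_alt k d hd, intNum_eq_alt k d hd, intNum_eq_alt k d hd]
    refine alt_additive k hF hA hB hM (lt_of_le_of_lt hr ?_)
    rw [show ((r + 1 : ℕ) : WithBot ℕ∞) = (((r + 1 : ℕ) : ℕ∞) : WithBot ℕ∞) from rfl,
      show ((r + 2 : ℕ) : WithBot ℕ∞) = (((r + 2 : ℕ) : ℕ∞) : WithBot ℕ∞) from rfl, WithBot.coe_lt_coe]
    exact_mod_cast Nat.lt_succ_self _
  exact_mod_cast h

/-- The binomial partial sum. -/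
def binSum (M : X.Modules) (D : ℕ) (m : ℕ) (F : X.Modules) : ℚ :=
  ∑ i ∈ Finset.range (D + 1), ((m + i - 1).choose i : ℚ) * alt (χt k F (fun _ : Fin i => M))

theorem alt_zero (F : X.Modules) (M : Fin 0 → X.Modules) : alt (χt k F M) = (Curv2.euler k X F : ℚ) := by
  simp only [alt, χt, Fintype.sum_unique, Finset.univ_eq_empty, Finset.sum_empty, pow_zero, one_mul]
  refine congrArg (fun z : ℤ => (z : ℚ)) ?_
  exact CurveRR.euler_eq_of_iso (TMul.commIso F (Coh.structureModule X) ≪≫ TMul.leftUnitIso F)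

theorem binSum_step {M : X.Modules} (hM : PicF.IsInvertible M) (D m : ℕ) {F : X.Modules} (hF : Coh.IsCoh F)
    (hdim : topologicalKrullDim (CohB1.support F) < (D + 1 : ℕ)) :
    binSum k M D m F = binSum k M D (m + 1) (CohB1.tensorMod F M) := by
  let a : ℕ → ℚ := fun i => alt (χt k F (fun _ : Fin i => M))
  let b : ℕ → ℚ := fun i => alt (χt k (CohB1.tensorMod F M) (fun _ : Fin i => M))
  have hab : ∀ i, a (i + 1) = a i - b i := fun i => by
    show alt (χt k F (fun _ : Fin (i + 1) => M)) = _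
    rw [show (fun _ : Fin (i + 1) => M) = Fin.cons M (fun _ : Fin i => M) from funext fun j => by
      refine Fin.cases ?_ (fun l => ?_) j <;> simp]
    exact alt_cons k F M _
  have haD : a (D + 1) = 0 := alt_eq_zero_of_dim k hF (fun _ => hM) hdim
  show (∑ i ∈ Finset.range (D + 1), ((m + i - 1).choose i : ℚ) * a i) =
    ∑ i ∈ Finset.range (D + 1), ((m + 1 + i - 1).choose i : ℚ) * b i
  have key : ∀ i, ((m + 1 + i - 1).choose i : ℚ) * b i =
      ((m + 1 + i - 1).choose i : ℚ) * a i - ((m + 1 + i - 1).choose i : ℚ) * a (i + 1) := fun i => by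
    rw [hab]; ring
  rw [Finset.sum_congr rfl fun i _ => key i, Finset.sum_sub_distrib]
  have h2 : ∑ i ∈ Finset.range (D + 1), ((m + 1 + i - 1).choose i : ℚ) * a (i + 1) =
      ∑ i ∈ Finset.range (D + 1), ((m + 1 + i - 1).choose i - (m + i - 1).choose i : ℚ) * a i := by
    conv_rhs => rw [Finset.sum_range_succ']
    rw [Finset.sum_range_succ, haD, mul_zero, add_zero]
    simp only [add_zero, Nat.choose_zero_right, Nat.cast_one, sub_self, zero_mul]
    refine Finset.sum_congr rfl fun i _ => ?_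
    rw [show m + 1 + (i + 1) - 1 = (m + i) + 1 by omega, show m + (i + 1) - 1 = m + i by omega,
      show m + 1 + i - 1 = m + i by omega, Nat.choose_succ_succ]
    push_cast
    ring
  rw [h2, ← Finset.sum_sub_distrib]
  exact Finset.sum_congr rfl fun i _ => by ring

theorem binSum_zero (M : X.Modules) (D : ℕ) (F : X.Modules) : binSum k M D 0 F = (Curv2.euler k X F : ℚ) := by
  rw [binSum, Finset.sum_range_succ', Finset.sum_eq_zero fun i _ => by
    rw [show 0 + (i + 1) - 1 = i by omega, Nat.choose_succ_self]; simp]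
  simp [alt_zero]

theorem euler_pow_eq_binSum {L M : X.Modules} (hL : PicF.IsInvertible L) (hM : PicF.IsInvertible M)
    (e : CohB1.tensorMod L M ≅ Coh.structureModule X) (D : ℕ) : ∀ (m : ℕ) (F : X.Modules), Coh.IsCoh F →
    topologicalKrullDim (CohB1.support F) < (D + 1 : ℕ) →
    (Curv2.euler k X (CohB1.tensorMod (CohB1.tensorPow L m) F) : ℚ) = binSum k M D m F := by
  intro m
  induction m with
  | zero =>
    intro F hF _
    rw [binSum_zero, show Curv2.euler k X (CohB1.tensorMod (CohB1.tensorPow L 0) F) = Curv2.euler k X F from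
      CurveRR.euler_eq_of_iso (TMul.leftUnitIso F)]
  | succ m ih =>
    intro F hF hd
    have hF' := isCoh_twist k hF hL
    have hd' := lt_of_le_of_lt (dim_support_twist hF L) hd
    have h1 := ih _ hF' hd'
    rw [binSum_step k hM D m hF' hd'] at h1
    have e' : CohB1.tensorMod (CohB1.tensorMod F L) M ≅ F :=
      TMul.assocIso F L M ≪≫ PicGrp.tensorModIso (Iso.refl F) e ≪≫ TMul.commIso _ _ ≪≫ TMul.leftUnitIso F
    have h2 : binSum k M D (m + 1) (CohB1.tensorMod (CohB1.tensorMod F L) M) = binSum k M D (m + 1) F :=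
      Finset.sum_congr rfl fun i _ => by rw [χt_iso k e']
    rw [← h2, ← h1]
    refine congrArg (fun z : ℤ => (z : ℚ)) (CurveRR.euler_eq_of_iso ?_)
    exact TMul.assocIso (CohB1.tensorPow L m) L F ≪≫ PicGrp.tensorModIso (Iso.refl _) (TMul.commIso L F)

theorem nonempty_quot_twist (I : X.IdealSheafData) (M : X.Modules) :
    Nonempty (CohB1.tensorMod (ClSub.quotMod I) M ≅
      (Scheme.Modules.pushforward I.subschemeι).obj ((Scheme.Modules.pullback I.subschemeι).obj M)) :=
  ⟨(KFlat.projFormulaIso I.subschemeι (Coh.structureModule _) M) ≪≫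
    (Scheme.Modules.pushforward I.subschemeι).mapIso (TMul.leftUnitIso _)⟩

theorem coeff_eq_deg (I : X.IdealSheafData) (hI : topologicalKrullDim (I.support : Set X) ≤ 1)
    {L : X.Modules} (hL : PicF.IsInvertible L) (P : MvPolynomial (Fin 1) ℚ)
    (hP : ∀ n : Fin 1 → ℕ, (Curv2.euler k X (Curv2.tensorPows (ClSub.quotMod I) 1 (fun _ => L) n) : ℚ) =
      MvPolynomial.eval (fun i => (n i : ℚ)) P) :
    MvPolynomial.coeff (Finsupp.equivFunOnFinite.symm fun _ : Fin 1 => 1) P =
      (CurveRR.Multi.degOn k I 1 L : ℚ) := by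
  haveI := CurveRR.isNoetherian_of_proper k X
  haveI : IsLocallyNoetherian I.subscheme := LocallyOfFiniteType.isLocallyNoetherian I.subschemeι
  have hq := (CurveRR.isCoh_idealMod I).2
  have hd : topologicalKrullDim (CohB1.support (ClSub.quotMod I)) ≤ (1 : ℕ) :=
    ((Topology.IsEmbedding.inclusion (CurveRR.support_quotMod I)).isInducing.topologicalKrullDim_le).trans
      (hI.trans Nat.cast_one.ge)
  rw [exists_coeff_eq k (r := 1) (L := fun _ : Fin 1 => L) (ClSub.quotMod I) hq (fun _ => hL) hd P hP,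
    show (fun _ : Fin 1 => L) = Fin.cons L (fun i : Fin 0 => i.elim0) from funext fun j => by
      refine Fin.cases ?_ (fun l => l.elim0) j; simp,
    alt_cons, alt_zero, alt_zero, CurveRR.euler_eq_of_iso (nonempty_quot_twist I L).some]
  have hP' : FlatMod.IsFinLocFreeOfRank 1 ((Scheme.Modules.pullback I.subschemeι).obj L) :=
    CurveRR.Multi.isFinLocFreeOfRank_pullback _ (CurveRR.isFinLocFreeOfRank_one hL)
  rw [CurveRR.Multi.euler_push k I.subschemeι _ (CurveRR.isCoh_of_rank hP').1,
    show ClSub.quotMod I = (Scheme.Modules.pushforward I.subschemeι).obj (Coh.structureModule _) from rfl,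
    CurveRR.Multi.euler_push k I.subschemeι _ RefStalk.isCoh_structureModule.1, CurveRR.Multi.degOn, Curv2.deg]
  push_cast
  ring

end Groth.Agent.Intersect
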