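import Groth.Agent.Intersect.Misc
import Groth.Agent.GrT.TwistMul
import Groth.Agent.ProjMor.Segre
import Groth.Agent.ProjMor.ProjSpaceBase
import Groth.Agent.TMul.Pullback

/-!
The hyperplane module of a projective scheme over a field.
-/

set_option autoImplicit false
set_option backward.isDefEq.respectTransparency false

universe u

open CategoryTheory CategoryTheory.Limits AlgebraicGeometry

namespace Groth.Agent.Intersect

theorem isAmple_twistProj_one (n : ℕ) (k : Type u) [Field k] : CohB1.IsAmple (Twist.twistProjSpace n k 1) := by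
  haveI := ProjMor.isProper_toSpec n k
  haveI : CompactSpace (CohB1.ProjSpace n k) :=
    QuasiCompact.compactSpace_of_compactSpace (CohB1.ProjSpace.toSpec n k)
  haveI : CompactSpace (Proj (CohB1.polyGrading n k)) := ‹_›
  exact GrT.isAmple_twist_of_cover (𝒜 := CohB1.polyGrading n k) (m := 1) one_pos
    fun x => ProjMor.exists_notMem (ProjMor.genDegOne_projSpace n k) x

theorem isAmple_hyperplane {k : Type u} [Field k] {X : Scheme.{u}} (n : ℕ) (ι : X ⟶ CohB1.ProjSpace n k)
    [IsClosedImmersion ι] : CohB1.IsAmple ((Scheme.Modules.pullback ι).obj (Twist.twistProjSpace n k 1)) :=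
  haveI : CompactSpace (CohB1.ProjSpace n k) := (isAmple_twistProj_one n k).2.1
  haveI : CompactSpace X := ι.isClosedEmbedding.compactSpace
  TMul.isAmple_pullback ι ι.isClosedEmbedding.isInducing (isAmple_twistProj_one n k)

end Groth.Agent.Intersect
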