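import Groth.Agent.Intersect.Asymp
import Groth.Agent.Intersect.Hyper
import Groth.Agent.GrT.TwistTensor
import Groth.Agent.CohFinite.Serre
import Groth.Agent.PlaneForms.Basic
import Groth.Agent.ProjCech.Main
import Groth.Agent.S10829

/-!
The top self-intersection of `O(d)` on projective space.
-/

set_option autoImplicit false
set_option backward.isDefEq.respectTransparency false
set_option linter.style.haveILetI false

universe u

open CategoryTheory CategoryTheory.Limits AlgebraicGeometry TopologicalSpace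
open scoped Nat

noncomputable section

namespace Groth.Agent.Intersect

theorem sum_choose (m : ℕ) : ∀ n : ℕ, (m + n).choose n = ∑ i ∈ Finset.range (n + 1), (m + i - 1).choose i
  | 0 => by simp
  | n + 1 => by
    rw [Finset.sum_range_succ, ← sum_choose m n, ← add_assoc, Nat.choose_succ_succ, add_tsub_cancel_right]

theorem choose_sub_pow (n : ℕ) : ∃ C : ℚ, 0 ≤ C ∧ ∀ m : ℕ,
    |((m + n).choose n : ℚ) - (m : ℚ) ^ n / (n ! : ℚ)| ≤ C * ((m : ℚ) + 1) ^ (n - 1) := by
  obtain ⟨Cn, hCn, hn⟩ := asc_sub_pow n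
  have hf : (0 : ℚ) < n ! := by exact_mod_cast Nat.factorial_pos n
  refine ⟨n * ((n : ℚ) + 1) ^ n + Cn / (n ! : ℚ), by positivity, fun m => ?_⟩
  have e : ((m + n - 1).choose n : ℚ) = (m.ascFactorial n : ℚ) / (n ! : ℚ) := by
    rw [Nat.ascFactorial_eq_factorial_mul_choose', Nat.cast_mul, mul_div_cancel_left₀ _ hf.ne']
  have e2 : ((m + n).choose n : ℚ) - (m : ℚ) ^ n / (n ! : ℚ) =
      (∑ i ∈ Finset.range n, ((m + i - 1).choose i : ℚ)) + ((m.ascFactorial n : ℚ) - (m : ℚ) ^ n) / (n ! : ℚ) := by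
    rw [sum_choose, Nat.cast_sum, Finset.sum_range_succ, e]; ring
  have h1 : (∑ i ∈ Finset.range n, ((m + i - 1).choose i : ℚ)) ≤ n * ((n : ℚ) + 1) ^ n * ((m : ℚ) + 1) ^ (n - 1) := by
    refine (Finset.sum_le_sum fun i hi => (choose_bound i m n (by have := Finset.mem_range.mp hi; omega)).trans
      (mul_le_mul_of_nonneg_left (pow_le_pow_right₀ (le_add_of_nonneg_left (Nat.cast_nonneg m))
        (show i ≤ n - 1 by have := Finset.mem_range.mp hi; omega)) (by positivity))).trans_eq ?_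
    rw [Finset.sum_const, Finset.card_range, nsmul_eq_mul]; ring
  rw [e2, add_mul, div_mul_eq_mul_div]
  refine (abs_add_le _ _).trans (add_le_add ((abs_of_nonneg (Finset.sum_nonneg fun _ _ => by positivity)).le.trans h1) ?_)
  rw [abs_div, abs_of_pos hf]
  exact div_le_div_of_nonneg_right (hn m) hf.le

variable (k : Type u) [Field k] (n : ℕ)

local instance : (CohB1.ProjSpace n k).Over (Spec (CommRingCat.of k)) := ⟨CohB1.ProjSpace.toSpec n k⟩

theorem nonempty_twist_pow (d : ℕ) :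
    Nonempty (Twist.twistProjSpace n k (d : ℤ) ≅ CohB1.tensorPow (Twist.twistProjSpace n k 1) d) :=
  GrT.nonempty_iso_tensorPow (𝒜 := CohB1.polyGrading n k)
    (ProjMor.exists_notMem (ProjMor.genDegOne_projSpace n k)) d

theorem nonempty_twist_inverse (d : ℕ) :
    Nonempty (CohB1.tensorMod (Twist.twistProjSpace n k (d : ℤ)) (Twist.twistProjSpace n k (-(d : ℤ))) ≅
      Coh.structureModule (CohB1.ProjSpace n k)) := by
  obtain ⟨i⟩ := GrT.nonempty_tensor_iso (a := (d : ℤ)) (b := -(d : ℤ)) (c := (0 : ℤ)) (CohB1.polyGrading n k)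
    (ProjMor.exists_notMem (ProjMor.genDegOne_projSpace n k)) (by ring)
  obtain ⟨j⟩ := GrT.nonempty_twist_zero_iso (𝒜 := CohB1.polyGrading n k)
  exact ⟨i ≪≫ j⟩

theorem h0_pow (m : ℕ) :
    Module.finrank k (Coh.HH (CohB1.ProjSpace n k) (CohB1.tensorPow (Twist.twistProjSpace n k 1) m) 0) = (m + n).choose n := by
  classical
  haveI := ProjMor.isProper_toSpec n k
  haveI : IsProper (CohB1.ProjSpace n k ↘ Spec (CommRingCat.of k)) := ‹_›
  obtain ⟨e⟩ := nonempty_twist_pow k n m
  rw [show Module.finrank k (Coh.HH (CohB1.ProjSpace n k) (CohB1.tensorPow (Twist.twistProjSpace n k 1) m) 0) =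
    Module.finrank k (Coh.HH (CohB1.ProjSpace n k) (Twist.twistProjSpace n k (m : ℤ)) 0) from
    (CurveRR.h_eq_of_iso e 0).symm]
  obtain ⟨z⟩ := Groth.Agent.ProjCech.zero_equiv (R := k) n m
  rw [z.finrank_eq, (Groth.Agent.PlaneForms.finite_homogeneous_and_finrank (σ := Fin (n + 1)) m).2, Fintype.card_fin,
    show n + 1 + m - 1 = m + n by omega, Nat.choose_symm_add]

theorem alt_twist_one [IsProper (CohB1.ProjSpace n k ↘ Spec (CommRingCat.of k))] :
    (-1 : ℚ) ^ n * alt (χt k (Coh.structureModule (CohB1.ProjSpace n k)) fun _ : Fin n => Twist.twistProjSpace n k 1) = 1 := by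
  haveI := CurveRR.isNoetherian_of_proper k (CohB1.ProjSpace n k)
  have hd : topologicalKrullDim (CohB1.ProjSpace n k) ≤ n := (Groth.Agent.S10829.result k n).le
  obtain ⟨C, hC⟩ := exists_h0_bound k (isAmple_twistProj_one n k) n
    (F := Coh.structureModule (CohB1.ProjSpace n k)) RefStalk.isCoh_structureModule (dim_support_structure.trans_le hd)
  set c := (-1 : ℚ) ^ n * alt (χt k (Coh.structureModule (CohB1.ProjSpace n k)) fun _ : Fin n => Twist.twistProjSpace n k 1)
  obtain ⟨C', hC', h'⟩ := choose_sub_pow n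
  have hf : (0 : ℚ) < n ! := by exact_mod_cast Nat.factorial_pos n
  have key : ∀ m : ℕ, |1 - c| / (n ! : ℚ) * (m : ℚ) ^ n ≤ (C + C') * ((m : ℚ) + 1) ^ (n - 1) := fun m => by
    have h := hC m
    rw [show Module.finrank k (Coh.HH (CohB1.ProjSpace n k) (CohB1.tensorMod
        (CohB1.tensorPow (Twist.twistProjSpace n k 1) m) (Coh.structureModule _)) 0) =
      (m + n).choose n from (CurveRR.h_eq_of_iso (TMul.commIso _ _ ≪≫ TMul.leftUnitIso _) 0).trans (h0_pow k n m)] at h
    have e : |1 - c| / (n ! : ℚ) * (m : ℚ) ^ n =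
        |(((m + n).choose n : ℚ) - c / (n ! : ℚ) * (m : ℚ) ^ n) - (((m + n).choose n : ℚ) - (m : ℚ) ^ n / (n ! : ℚ))| := by
      rw [show (((m + n).choose n : ℚ) - c / (n ! : ℚ) * (m : ℚ) ^ n) - (((m + n).choose n : ℚ) - (m : ℚ) ^ n / (n ! : ℚ)) =
        (1 - c) / (n ! : ℚ) * (m : ℚ) ^ n by ring, abs_mul, abs_div, abs_of_pos hf,
        abs_of_nonneg (by positivity : (0 : ℚ) ≤ (m : ℚ) ^ n)]
    rw [e, add_mul]
    exact (abs_sub _ _).trans (add_le_add h (h' m))
  by_contra hne
  rcases Nat.eq_zero_or_pos n with hn | hn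
  · subst hn
    have h := hC 0
    have h2 := h0_pow k 0 0
    apply hne
    have e : alt (χt k (Coh.structureModule (CohB1.ProjSpace 0 k)) fun _ : Fin 0 => Twist.twistProjSpace 0 k 1) = 1 := by
      rw [alt_zero, CurveRR.euler_eq_h0 fun i hi => SuppZero.subsingleton_hh_of_supported isClosed_univ
        ((topologicalKrullDim_subspace_le _ _).trans hd) _ (fun x hx => (hx trivial).elim) i hi]
      exact_mod_cast (CurveRR.h_eq_of_iso (TMul.leftUnitIso _).symm 0).trans
        ((CurveRR.h_eq_of_iso (TMul.leftUnitIso _) 0).trans h2)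
    show c = 1
    simp only [c, e, pow_zero, mul_one]
  have ha : 0 < |1 - c| / (n ! : ℚ) := div_pos (abs_pos.2 (sub_ne_zero.2 fun h => hne h.symm)) hf
  obtain ⟨m, hm⟩ := exists_nat_gt (|C + C'| * 2 ^ n / (|1 - c| / (n ! : ℚ)) + 1)
  have hm1 : (1 : ℚ) ≤ m := le_trans (le_add_of_nonneg_left (by positivity)) hm.le
  have h3 : |C + C'| * 2 ^ n < |1 - c| / (n ! : ℚ) * m := by
    rw [mul_comm _ (m : ℚ), ← div_lt_iff₀ ha]; linarith
  have h4 : (C + C') * ((m : ℚ) + 1) ^ (n - 1) ≤ |C + C'| * 2 ^ n * (m : ℚ) ^ (n - 1) := by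
    calc (C + C') * ((m : ℚ) + 1) ^ (n - 1) ≤ |C + C'| * ((2 : ℚ) * m) ^ (n - 1) :=
          mul_le_mul (le_abs_self _) (pow_le_pow_left₀ (by positivity) (by linarith) _) (by positivity) (abs_nonneg _)
      _ ≤ |C + C'| * (2 ^ n * (m : ℚ) ^ (n - 1)) := by
          rw [mul_pow]; gcongr; exacts [one_le_two, Nat.sub_le n 1]
      _ = _ := by ring
  have h5 := (key m).trans h4
  rw [show (m : ℚ) ^ n = (m : ℚ) ^ (n - 1) * m by rw [← pow_succ, Nat.sub_add_cancel hn]] at h5
  nlinarith [pow_pos (show (0 : ℚ) < m by linarith) (n - 1)]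

theorem alt_const_pow {X : Scheme.{u}} [X.Over (Spec (CommRingCat.of k))] [IsProper (X ↘ Spec (CommRingCat.of k))]
    {L : X.Modules} (hL : PicF.IsInvertible L) (d : ℕ) : ∀ (r : ℕ) (F : X.Modules), Coh.IsCoh F →
      topologicalKrullDim (CohB1.support F) ≤ r →
      alt (χt k F fun _ : Fin r => CohB1.tensorPow L d) = (d : ℚ) ^ r * alt (χt k F fun _ : Fin r => L)
  | 0, F, _, _ => by rw [alt_zero, alt_zero, pow_zero, one_mul]
  | r + 1, F, hF, hd => by
    have hc : ∀ A : X.Modules, (fun _ : Fin (r + 1) => A) = Fin.cons A (fun _ : Fin r => A) := fun A =>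
      funext fun i => by induction i using Fin.cases <;> rfl
    have hP := TMul.isInvertible_tensorPow hL d
    rw [hc (CohB1.tensorPow L d), hc L, alt_cons_pow k hF hL (fun _ => hP) hd d,
      alt_cons_congr k hL (fun _ => hP) (fun _ => hL) ((d : ℚ) ^ r) (fun G hG hGd => alt_const_pow hL d r G hG hGd) hF hd]
    ring

theorem intNum_twist (d : ℕ) :
    FGA.intNum k (CohB1.ProjSpace n k) n (fun _ : Fin n => Twist.twistProjSpace n k (-(d : ℤ)))
      (Coh.structureModule (CohB1.ProjSpace n k)) = (d : ℤ) ^ n := by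
  haveI := ProjMor.isProper_toSpec n k
  haveI : IsProper (CohB1.ProjSpace n k ↘ Spec (CommRingCat.of k)) := ‹_›
  haveI := CurveRR.isNoetherian_of_proper k (CohB1.ProjSpace n k)
  have hd : topologicalKrullDim (CohB1.ProjSpace n k) ≤ n := (Groth.Agent.S10829.result k n).le
  have hO : Coh.IsCoh (Coh.structureModule (CohB1.ProjSpace n k)) := RefStalk.isCoh_structureModule
  have hdO := dim_support_structure.trans_le hd
  obtain ⟨e⟩ := nonempty_twist_pow k n d
  obtain ⟨f⟩ := nonempty_twist_inverse k n d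
  have h : (FGA.intNum k (CohB1.ProjSpace n k) n (fun _ : Fin n => Twist.twistProjSpace n k (-(d : ℤ)))
      (Coh.structureModule (CohB1.ProjSpace n k)) : ℚ) = (d : ℚ) ^ n := by
    rw [intNum_eq_alt k n hd, alt_inverse k n (fun _ => CohB1.tensorPow (Twist.twistProjSpace n k 1) d) _
      (fun _ => TMul.isInvertible_tensorPow (CohFinite.isInvertible_twist n k 1) d)
      (fun _ => CohFinite.isInvertible_twist n k _)
      (fun _ => ⟨PicGrp.tensorModIso e.symm (Iso.refl _) ≪≫ f⟩) _ hO hdO,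
      alt_const_pow k (CohFinite.isInvertible_twist n k 1) d n _ hO hdO, mul_left_comm, alt_twist_one k n, mul_one]
  exact_mod_cast h

end Groth.Agent.Intersect
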