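import Groth.Agent.Intersect.Pos
import Groth.Agent.ParaFLib.Ext

/-!
Small facts about inverses used with intersection numbers.
-/

set_option autoImplicit false
set_option backward.isDefEq.respectTransparency false

universe u

open CategoryTheory CategoryTheory.Limits AlgebraicGeometry

namespace Groth.Agent.Intersect

theorem isInvertible_inverse {X : Scheme.{u}} {L M : X.Modules} (hL : PicF.IsInvertible L)
    (h : Nonempty (CohB1.tensorMod L M ≅ Coh.structureModule X)) : PicF.IsInvertible M := by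
  obtain ⟨e⟩ := h
  obtain ⟨L', hL', ⟨e'⟩⟩ := Groth.Agent.W7Hull.exists_tensor_inverse hL
  exact Groth.Agent.ParaFLib.isInvertible_of_iso ((TMul.leftUnitIso _).symm ≪≫ PicGrp.tensorModIso
    (TMul.commIso _ _ ≪≫ e').symm (Iso.refl _) ≪≫ TMul.assocIso _ _ _ ≪≫
    PicGrp.tensorModIso (Iso.refl _) e ≪≫ TMul.commIso _ _ ≪≫ TMul.leftUnitIso _).symm hL'

theorem alt_vec₂ {X : Scheme.{u}} (k : Type u) [Field k] [X.Over (Spec (CommRingCat.of k))]
    [IsProper (X ↘ Spec (CommRingCat.of k))] (F A B : X.Modules) :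
    alt (χt k F ![A, B]) = (Curv2.euler k X F : ℚ) - Curv2.euler k X (CohB1.tensorMod F B) -
      (Curv2.euler k X (CohB1.tensorMod F A) - Curv2.euler k X (CohB1.tensorMod (CohB1.tensorMod F A) B)) := by
  rw [show (![A, B] : Fin 2 → X.Modules) = Fin.cons A (Fin.cons B ![]) from rfl, alt_cons, alt_cons, alt_cons]
  simp only [alt_zero]

theorem isInvertible_vec₂ {X : Scheme.{u}} {A B : X.Modules} (hA : PicF.IsInvertible A) (hB : PicF.IsInvertible B) :
    ∀ i, PicF.IsInvertible ((![A, B] : Fin 2 → X.Modules) i) :=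
  fun i => by fin_cases i <;> assumption

end Groth.Agent.Intersect
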