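import Mathlib

/-!
Numerical polynomial functions of bounded degree in several natural variables.
-/

set_option autoImplicit false

noncomputable section

namespace Groth.Agent.Intersect

variable {r : ℕ}

/-- A monomial function. -/
def mon (e : Fin r → ℕ) : (Fin r → ℕ) → ℚ := fun n => ∏ i, (n i : ℚ) ^ e i

/-- Polynomial functions of total degree `< D`. -/
def PS (r D : ℕ) : Submodule ℚ ((Fin r → ℕ) → ℚ) :=
  Submodule.span ℚ (mon '' {e | ∑ i, e i < D})

theorem mon_mem {D : ℕ} {e : Fin r → ℕ} (h : ∑ i, e i < D) : mon e ∈ PS r D :=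
  Submodule.subset_span ⟨e, h, rfl⟩

theorem PS_mono {D D' : ℕ} (h : D ≤ D') : PS r D ≤ PS r D' :=
  Submodule.span_mono (Set.image_mono fun _ he => lt_of_lt_of_le he h)

theorem eq_zero_of_mem_zero {g : (Fin r → ℕ) → ℚ} (h : g ∈ PS r 0) : g = 0 := by
  simpa [PS] using h

theorem const_mem {D : ℕ} (hD : 0 < D) (c : ℚ) : (fun _ => c) ∈ PS r D := by
  have : (fun _ : Fin r → ℕ => c) = c • mon (0 : Fin r → ℕ) := by funext n; simp [mon]
  rw [this]
  exact Submodule.smul_mem _ _ (mon_mem (by simpa using hD))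

/-- Sum over the last variable. -/
def sumLast (g : (Fin (r + 1) → ℕ) → ℚ) : (Fin (r + 1) → ℕ) → ℚ :=
  fun n => ∑ j ∈ Finset.range (n (Fin.last r)), g (Fin.snoc (fun i => n i.castSucc) j)

theorem sumLast_mem {D : ℕ} {g : (Fin (r + 1) → ℕ) → ℚ} (h : g ∈ PS (r + 1) D) : sumLast g ∈ PS (r + 1) (D + 1) := by
  let Φ : ((Fin (r + 1) → ℕ) → ℚ) →ₗ[ℚ] ((Fin (r + 1) → ℕ) → ℚ) :=
    { toFun := sumLast
      map_add' := fun a b => by funext n; simp [sumLast, Finset.sum_add_distrib]
      map_smul' := fun c a => by funext n; simp [sumLast, Finset.mul_sum] }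
  refine Submodule.span_induction (p := fun x _ => Φ x ∈ PS (r + 1) (D + 1)) ?_ (by rw [map_zero]; exact zero_mem _)
    (fun a b _ _ ha hb => by rw [map_add]; exact add_mem ha hb)
    (fun c a _ ha => by rw [map_smul]; exact Submodule.smul_mem _ _ ha) h
  rintro _ ⟨e, he, rfl⟩
  set p := e (Fin.last r)
  have hrw : Φ (mon e) = ∑ i ∈ Finset.range (p + 1), ((bernoulli i : ℚ) * ((p + 1).choose i) / (p + 1)) •
      mon (Fin.snoc (fun l => e l.castSucc) (p + 1 - i)) := by
    funext n
    show ∑ j ∈ Finset.range (n (Fin.last r)), mon e (Fin.snoc (fun i => n i.castSucc) j) = _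
    simp only [mon, Fin.prod_univ_castSucc, Fin.snoc_castSucc, Fin.snoc_last, ← Finset.mul_sum,
      Finset.sum_apply, Pi.smul_apply, smul_eq_mul]
    rw [show e (Fin.last r) = p from rfl, sum_range_pow, Finset.mul_sum]
    exact Finset.sum_congr rfl fun i _ => by ring
  rw [hrw]
  refine Submodule.sum_mem _ fun i _ => Submodule.smul_mem _ _ (mon_mem ?_)
  have he : ∑ l, e l < D := he
  rw [Fin.sum_univ_castSucc] at he ⊢
  simp only [Fin.snoc_castSucc, Fin.snoc_last]
  omega

/-- Restriction to last variable zero, as a function of all variables. -/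
theorem extend_mem {D : ℕ} {g : (Fin r → ℕ) → ℚ} (h : g ∈ PS r D) :
    (fun n : Fin (r + 1) → ℕ => g fun i => n i.castSucc) ∈ PS (r + 1) D := by
  let Φ : ((Fin r → ℕ) → ℚ) →ₗ[ℚ] ((Fin (r + 1) → ℕ) → ℚ) := LinearMap.funLeft ℚ ℚ fun n i => n i.castSucc
  refine Submodule.span_induction (p := fun x _ => Φ x ∈ PS (r + 1) D) ?_ (by rw [map_zero]; exact zero_mem _)
    (fun a b _ _ ha hb => by rw [map_add]; exact add_mem ha hb)
    (fun c a _ ha => by rw [map_smul]; exact Submodule.smul_mem _ _ ha) h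
  rintro _ ⟨e, he, rfl⟩
  have : Φ (mon e) = mon (Fin.snoc e 0) := by
    funext n
    simp [Φ, LinearMap.funLeft, mon, Fin.prod_univ_castSucc]
  rw [this]
  refine mon_mem ?_
  simpa [Fin.sum_univ_castSucc] using he

theorem restrict_mem {D : ℕ} {g : (Fin (r + 1) → ℕ) → ℚ} (h : g ∈ PS (r + 1) D) :
    (fun n : Fin r → ℕ => g (Fin.snoc n 0)) ∈ PS r D := by
  let Φ : ((Fin (r + 1) → ℕ) → ℚ) →ₗ[ℚ] ((Fin r → ℕ) → ℚ) := LinearMap.funLeft ℚ ℚ fun n => Fin.snoc n 0
  refine Submodule.span_induction (p := fun x _ => Φ x ∈ PS r D) ?_ (by rw [map_zero]; exact zero_mem _)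
    (fun a b _ _ ha hb => by rw [map_add]; exact add_mem ha hb)
    (fun c a _ ha => by rw [map_smul]; exact Submodule.smul_mem _ _ ha) h
  rintro _ ⟨e, he, rfl⟩
  have : Φ (mon e) = (0 : ℚ) ^ e (Fin.last r) • mon (fun i => e i.castSucc) := by
    funext n
    simp [Φ, LinearMap.funLeft, mon, Fin.prod_univ_castSucc, mul_comm]
  rw [this]
  refine Submodule.smul_mem _ _ (mon_mem ?_)
  have he : ∑ l, e l < D := he
  rw [Fin.sum_univ_castSucc] at he
  omega

/-- Discrete integration: differences of degree `< D` give degree `< D + 1`. -/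
theorem mem_of_shift {D : ℕ} : ∀ {r : ℕ} {g : (Fin r → ℕ) → ℚ},
    (∀ i, (fun n => g (n + Pi.single i 1) - g n) ∈ PS r D) → g ∈ PS r (D + 1) := by
  intro r
  induction r with
  | zero =>
    intro g _
    rw [show g = fun _ => g 0 from funext fun n => by rw [Subsingleton.elim n 0]]
    exact const_mem (Nat.succ_pos D) _
  | succ r ih =>
    intro g hg
    have h0 : (fun n : Fin r → ℕ => g (Fin.snoc n 0)) ∈ PS r (D + 1) := ih fun i => by
      convert restrict_mem (hg i.castSucc) using 1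
      funext n
      congr 2
      funext j
      refine Fin.lastCases ?_ (fun l => ?_) j
      · simp [Fin.snoc_last, Pi.single_eq_of_ne (Fin.castSucc_lt_last i).ne']
      · simp [Fin.snoc_castSucc, Pi.single_apply]
    have h1 := sumLast_mem (hg (Fin.last r))
    convert add_mem (extend_mem h0) h1 using 1
    funext n
    have key : ∀ j : ℕ, (Fin.snoc (fun i => n i.castSucc) j : Fin (r + 1) → ℕ) + Pi.single (Fin.last r) 1 =
        Fin.snoc (fun i => n i.castSucc) (j + 1) := fun j => by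
      funext l
      refine Fin.lastCases ?_ (fun l => ?_) l
      · simp [Fin.snoc_last]
      · simp [Fin.snoc_castSucc, Pi.single_eq_of_ne (Fin.castSucc_lt_last l).ne]
    simp only [Pi.add_apply, sumLast, key]
    rw [Finset.sum_range_sub (fun j => g (Fin.snoc (fun i => n i.castSucc) j)), add_sub_cancel]
    congr 1
    funext l
    refine Fin.lastCases ?_ (fun l => ?_) l <;> simp [Fin.snoc_last, Fin.snoc_castSucc]

theorem exists_mvPolynomial {D : ℕ} {g : (Fin r → ℕ) → ℚ} (h : g ∈ PS r D) :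
    ∃ P : MvPolynomial (Fin r) ℚ, (∀ m ∈ P.support, (m.sum fun _ e => e) < D) ∧
      ∀ n : Fin r → ℕ, g n = MvPolynomial.eval (fun i => (n i : ℚ)) P := by
  classical
  refine Submodule.span_induction (p := fun x _ => ∃ P : MvPolynomial (Fin r) ℚ,
      (∀ m ∈ P.support, (m.sum fun _ e => e) < D) ∧ ∀ n : Fin r → ℕ, x n = MvPolynomial.eval (fun i => (n i : ℚ)) P)
    ?_ ⟨0, by simp, by simp⟩ (fun a b _ _ ⟨P, hP, hP'⟩ ⟨Q, hQ, hQ'⟩ => ⟨P + Q, fun m hm => ?_, fun n => by simp [hP', hQ']⟩)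
    (fun c a _ ⟨P, hP, hP'⟩ => ⟨c • P, fun m hm => hP m (MvPolynomial.support_smul hm),
      fun n => by simp [hP', MvPolynomial.smul_eval]⟩) h
  · rintro _ ⟨e, he, rfl⟩
    refine ⟨MvPolynomial.monomial (Finsupp.equivFunOnFinite.symm e) 1, fun m hm => ?_, fun n => ?_⟩
    · rw [Finset.mem_singleton.mp (MvPolynomial.support_monomial_subset hm), Finsupp.sum_fintype _ _ (fun _ => rfl)]
      simpa using he
    · rw [MvPolynomial.eval_monomial, Finsupp.prod_fintype _ _ (fun _ => pow_zero _)]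
      simp [mon]
  · rcases Finset.mem_union.mp (MvPolynomial.support_add hm) with h' | h'
    · exact hP m h'
    · exact hQ m h'

end Groth.Agent.Intersect
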