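import Groth.Agent.CurveRR.Multi
import Groth.Agent.Intersect.PolyFun
import Groth.Agent.W7Cech.Snap
import Groth.Agent.FreeJ.Grothendieck

/-!
Snapper polynomials: `χ(F ⊗ L^n)` is a polynomial of degree at most `dim supp F`.
-/

set_option autoImplicit false
set_option backward.isDefEq.respectTransparency false
set_option linter.style.haveILetI false
set_option linter.unusedSectionVars false

universe u

open CategoryTheory CategoryTheory.Limits AlgebraicGeometry TopologicalSpace Opposite
open Groth.Agent.CohFinite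
open Groth.Agent.WeakAssLib (mgerm stalkHom)

noncomputable section

namespace Groth.Agent.Intersect

attribute [local instance] Abelian.hasFiniteBiproducts

variable {X : Scheme.{u}} {r : ℕ}

/-- The twisting modules. -/
abbrev N (L : Fin r → X.Modules) (n : Fin r → ℕ) : X.Modules :=
  Curv2.tensorPows (Coh.structureModule X) r L n

theorem isInvertible_N {L : Fin r → X.Modules} (hL : ∀ i, PicF.IsInvertible (L i)) (n : Fin r → ℕ) :
    PicF.IsInvertible (N L n) :=
  W7Cech.tensorPows_induction (P := PicF.IsInvertible) TMul.isInvertible_structureModule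
    (fun _ _ h h' => TMul.isInvertible_tensorMod h h') r L hL n

theorem nonempty_tensorPows_iso (F : X.Modules) : ∀ {r : ℕ} (L : Fin r → X.Modules) (n : Fin r → ℕ),
    Nonempty (Curv2.tensorPows F r L n ≅ CohB1.tensorMod F (N L n))
  | 0, _, _ => ⟨(TMul.leftUnitIso F).symm ≪≫ TMul.commIso _ _⟩
  | r + 1, L, n => by
    obtain ⟨a⟩ := nonempty_tensorPows_iso F (fun i => L i.castSucc) (fun i => n i.castSucc)
    exact ⟨PicGrp.tensorModIso a (Iso.refl _) ≪≫ TMul.assocIso _ _ _⟩

theorem nonempty_N_add : ∀ {r : ℕ} (L : Fin r → X.Modules) (n : Fin r → ℕ) (i : Fin r),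
    Nonempty (N L (n + Pi.single i 1) ≅ CohB1.tensorMod (L i) (N L n))
  | 0, _, _, i => i.elim0
  | r + 1, L, n, i => by
    let L' := fun i : Fin r => L i.castSucc
    let P := CohB1.tensorPow (L (Fin.last r)) (n (Fin.last r))
    change Nonempty (CohB1.tensorMod (N L' fun j => (n + Pi.single i 1 : Fin (r + 1) → ℕ) j.castSucc)
      (CohB1.tensorPow (L (Fin.last r)) ((n + Pi.single i 1 : Fin (r + 1) → ℕ) (Fin.last r))) ≅
      CohB1.tensorMod (L i) (CohB1.tensorMod (N L' fun j => n j.castSucc) P))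
    induction i using Fin.lastCases with
    | last =>
      rw [show (fun j : Fin r => (n + Pi.single (Fin.last r) 1 : Fin (r + 1) → ℕ) j.castSucc) = fun j => n j.castSucc
          from funext fun j => by simp [Pi.single_eq_of_ne (Fin.castSucc_lt_last j).ne],
        show (n + Pi.single (Fin.last r) 1 : Fin (r + 1) → ℕ) (Fin.last r) = n (Fin.last r) + 1 by simp]
      exact ⟨(TMul.assocIso (N L' fun j => n j.castSucc) P (L (Fin.last r))).symm ≪≫ TMul.commIso _ _⟩
    | cast i =>
      rw [show (fun j : Fin r => (n + Pi.single i.castSucc 1 : Fin (r + 1) → ℕ) j.castSucc) =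
          (fun j => n j.castSucc) + Pi.single i 1 from funext fun j => by simp [Pi.single_apply],
        show (n + Pi.single i.castSucc 1 : Fin (r + 1) → ℕ) (Fin.last r) = n (Fin.last r) by
          simp [Pi.single_eq_of_ne (Fin.castSucc_lt_last i).ne']]
      obtain ⟨e⟩ := nonempty_N_add L' (fun j => n j.castSucc) i
      exact ⟨PicGrp.tensorModIso e (Iso.refl _) ≪≫ TMul.assocIso _ _ _⟩

theorem support_tensor_subset {F : X.Modules} {S : Set X} (hS : IsClosed S) (hF : CohB1.support F ⊆ S)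
    (E : X.Modules) : CohB1.support (CohB1.tensorMod F E) ⊆ S := by
  intro x hx
  by_contra hxS
  refine ((Groth.Agent.QC.notMem_support_iff x).mpr fun U hxU s =>
    ⟨U ⊓ ⟨Sᶜ, hS.isOpen_compl⟩, inf_le_left, ⟨hxU, hxS⟩, ?_⟩) hx
  exact CurveRR.suppIn_tensor (CurveRR.suppIn_of_subset hF) E _ _ fun y hy => hy.2

section Simple

variable [IsNoetherian X] (ξ : X)

/-- The twisted piece. -/
abbrev H (M : X.Modules) : X.Modules :=
  (Scheme.Modules.pushforward (Devissage.Zi ξ)).obj ((Scheme.Modules.pullback (Devissage.Zi ξ)).obj M)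

theorem nonempty_H_iso (M : X.Modules) : Nonempty (H ξ M ≅ CohB1.tensorMod (Devissage.A ξ) M) := by
  let i := Devissage.Zi ξ
  let e : CohB1.tensorMod (Devissage.A ξ) M ≅ (Scheme.Modules.pushforward i).obj
      (CohB1.tensorMod (Coh.structureModule _) ((Scheme.Modules.pullback i).obj M)) :=
    KFlat.projFormulaIso i _ M
  exact ⟨(e ≪≫ (Scheme.Modules.pushforward i).mapIso (TMul.leftUnitIso _)).symm⟩

theorem simpleAt_H {M : X.Modules} (hM : PicF.IsInvertible M) :
    Devissage.SimpleAt ξ (H ξ M) ∧ ξ ∈ CohB1.support (H ξ M) := by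
  let i := Devissage.Zi ξ
  haveI := Devissage.Zi_isIntegral ξ
  let G := (Scheme.Modules.pullback i).obj M
  have hG : PicF.IsInvertible G := fun x =>
    let ⟨U, hx, ⟨e⟩⟩ := CurveRR.Multi.isFinLocFreeOfRank_pullback i (CurveRR.isFinLocFreeOfRank_one hM) x
    ⟨U, hx, ⟨e ≪≫ coproductUniqueIso (fun _ : Fin 1 => Coh.structureModule (U : Scheme.{u}))⟩⟩
  suffices ∀ y : X, y = ξ → Devissage.SimpleAt y (H ξ M) ∧ y ∈ CohB1.support (H ξ M) from this ξ rfl
  rintro y rfl
  obtain ⟨z, hz⟩ : y ∈ Set.range i := by rw [Devissage.range_Zi]; exact subset_closure rfl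
  suffices Devissage.SimpleAt (i z) (H y M) ∧ i z ∈ CohB1.support (H y M) by rwa [hz] at this
  have hzη : z = genericPoint _ := i.isClosedEmbedding.injective (hz.trans (Devissage.genericPoint_Zi y).symm)
  obtain ⟨D, g, hzD, hg⟩ := TMul.exists_isGen hG z
  have hbij := KFlat.pushStalk_bijective i z G
  have hgen : ∀ v : G.presheaf.stalk z, ∃ c : X.presheaf.stalk (i z), v = (i.stalkMap z).hom c • mgerm G hzD g :=
    fun v => by
    obtain ⟨c, hc⟩ := ZeroSch.exists_smul_germ hg hzD v
    obtain ⟨c', rfl⟩ := i.stalkMap_surjective z c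
    exact ⟨c', hc⟩
  refine ⟨fun m hm m' => ?_, ?_⟩
  · obtain ⟨c, hc⟩ := hgen (KFlat.pushStalk i z G m)
    obtain ⟨c', hc'⟩ := hgen (KFlat.pushStalk i z G m')
    have hu : IsUnit ((i.stalkMap z).hom c) := by
      subst hzη
      letI : Field ((Scheme.IdealSheafData.vanishingIdeal (Devissage.Zc y)).subscheme.presheaf.stalk (genericPoint _)) :=
        inferInstanceAs (Field (Scheme.IdealSheafData.vanishingIdeal (Devissage.Zc y)).subscheme.functionField)
      refine isUnit_iff_ne_zero.mpr fun h => hm (hbij.1 ?_)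
      rw [hc, h, zero_smul, map_zero]
    have hu' : IsUnit c := IsUnit.of_map (i.stalkMap z).hom c hu
    refine ⟨c' * ↑hu'.unit⁻¹, hbij.1 ?_⟩
    show _ = KFlat.pushStalk i z G ((c' * ↑hu'.unit⁻¹) • m)
    rw [KFlat.pushStalk_smul, hc, hc', smul_smul, ← map_mul, mul_assoc, IsUnit.val_inv_mul, mul_one]
  · intro hsub
    haveI : Nontrivial (G.presheaf.stalk z) := CurveRR.nontrivial_stalk_inv hG z
    exact not_subsingleton (G.presheaf.stalk z) (@Function.Surjective.subsingleton _ _ _ hsub hbij.2)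

end Simple

theorem exists_comparison [IsNoetherian X] (ξ : X) {M : X.Modules} (hM : PicF.IsInvertible M)
    (hH : Coh.IsCoh (H ξ M)) :
    ∃ (P' : X.Modules) (a : P' ⟶ H ξ M) (b : P' ⟶ Devissage.A ξ), Mono a ∧ Mono b ∧ Coh.IsCoh P' ∧
      Devissage.IsSmall ξ (cokernel a) ∧ Devissage.IsSmall ξ (cokernel b) := by
  classical
  obtain ⟨hs, hmem⟩ := simpleAt_H ξ hM
  obtain ⟨m, P', a, b, hm, ha, hb, hP', hca, hcb⟩ := Devissage.exists_power (H ξ M) hH
    ((ClSubLib.support_pushforward_subset _ _).trans (Devissage.range_Zi ξ).le) hmem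
    (Devissage.smul_stalk_of_killed (Devissage.killed_push _)) (Devissage.piece_A ξ)
  obtain rfl : m = 1 := by
    by_contra hne
    haveI : Nontrivial ((Devissage.A ξ).presheaf.stalk ξ) := not_subsingleton_iff_nontrivial.1 (Devissage.piece_A ξ).mem
    obtain ⟨v, hv⟩ := exists_ne (0 : (Devissage.A ξ).presheaf.stalk ξ)
    let i₀ : Fin m := ⟨0, by omega⟩
    let i₁ : Fin m := ⟨1, by omega⟩
    let ι : ∀ i, Devissage.A ξ ⟶ ⨁ fun _ : Fin m => Devissage.A ξ := fun i => biproduct.ι (fun _ : Fin m => Devissage.A ξ) i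
    let π : ∀ i, (⨁ fun _ : Fin m => Devissage.A ξ) ⟶ Devissage.A ξ := fun i => biproduct.π (fun _ : Fin m => Devissage.A ξ) i
    let S := DerSch.stalkFunctor X ξ
    have h0 : ∀ i, ι i ≫ π i = 𝟙 _ := fun i => biproduct.ι_π_self _ _
    have h1 : ι i₀ ≫ π i₁ = 0 := biproduct.ι_π_ne _ (by simp [i₀, i₁, Fin.ext_iff])
    obtain ⟨p₀, hp₀⟩ := Devissage.stalk_surjective_of_isSmall b hcb ((S.map (ι i₀)).hom v)
    obtain ⟨p₁, hp₁⟩ := Devissage.stalk_surjective_of_isSmall b hcb ((S.map (ι i₁)).hom v)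
    have hπι : ∀ (i j : Fin m) (x : (Devissage.A ξ).presheaf.stalk ξ),
        (S.map (π j)).hom ((S.map (ι i)).hom x) = (S.map (ι i ≫ π j)).hom x := fun i j x => by rw [S.map_comp]; rfl
    have hp₀' : stalkHom a ξ p₀ ≠ 0 := fun h => by
      have := Groth.Agent.WeakAssLib.stalkHom_injective a ξ (h.trans (map_zero _).symm)
      subst this
      rw [map_zero] at hp₀
      have := congrArg (S.map (π i₀)).hom hp₀
      rw [map_zero, hπι, h0, S.map_id] at this
      exact hv this.symm
    obtain ⟨c, hc⟩ := hs _ hp₀' (stalkHom a ξ p₁)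
    rw [← Groth.Agent.WeakAssLib.stalkHom_smul] at hc
    have hpc := Groth.Agent.WeakAssLib.stalkHom_injective a ξ hc
    rw [hpc, Groth.Agent.WeakAssLib.stalkHom_smul, hp₀] at hp₁
    have := congrArg (S.map (π i₁)).hom hp₁
    rw [map_smul, hπι, hπι, h1, h0, S.map_zero, S.map_id] at this
    exact hv (this.symm.trans (smul_zero c))
  let u : (⨁ fun _ : Fin 1 => Devissage.A ξ) ≅ Devissage.A ξ := biproductUniqueIso _
  refine ⟨P', a, b ≫ u.hom, ha, mono_comp _ _, hP', hca, ?_⟩
  let w := cokernelCompIsIso b u.hom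
  constructor
  · intro x hx
    exact hcb.1 (fun h => hx (((DerSch.stalkFunctor X x).mapIso w).toLinearEquiv.toEquiv.subsingleton_congr.2 h))
  · intro hx
    exact hcb.2 (fun h => hx (((DerSch.stalkFunctor X ξ).mapIso w).toLinearEquiv.toEquiv.subsingleton_congr.2 h))

variable (k : Type u) [Field k] [X.Over (Spec (CommRingCat.of k))] [IsProper (X ↘ Spec (CommRingCat.of k))]

/-- The twisted Euler characteristic. -/
def χt (F : X.Modules) (L : Fin r → X.Modules) (n : Fin r → ℕ) : ℚ :=
  (Curv2.euler k X (CohB1.tensorMod F (N L n)) : ℚ)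

theorem χt_iso {F G : X.Modules} (e : F ≅ G) (L : Fin r → X.Modules) : χt k F L = χt k G L := by
  funext n
  rw [χt, χt, CurveRR.euler_eq_of_iso (PicGrp.tensorModIso e (Iso.refl _))]

theorem χt_add {L : Fin r → X.Modules} (hL : ∀ i, PicF.IsInvertible (L i)) {S : ShortComplex X.Modules}
    (hS : S.ShortExact) (h₁ : Coh.IsCoh S.X₁) (h₂ : Coh.IsCoh S.X₂) (h₃ : Coh.IsCoh S.X₃) :
    χt k S.X₂ L = χt k S.X₁ L + χt k S.X₃ L := by
  haveI := CurveRR.isNoetherian_of_proper k X
  funext n
  have hc := CurveRR.isCoh_of_inv (isInvertible_N hL n)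
  have h := CurveRR.euler_add (k := k) (shortExact_tmap (isInvertible_N hL n) hS) (CurveRR.isCoh_tensor' h₁ hc)
    (CurveRR.isCoh_tensor' h₂ hc) (CurveRR.isCoh_tensor' h₃ hc)
  change Curv2.euler k X (CohB1.tensorMod S.X₂ (N L n)) =
    Curv2.euler k X (CohB1.tensorMod S.X₁ (N L n)) + Curv2.euler k X (CohB1.tensorMod S.X₃ (N L n)) at h
  simp only [χt, Pi.add_apply, h, Int.cast_add]

theorem χt_empty {L : Fin r → X.Modules} (hL : ∀ i, PicF.IsInvertible (L i)) {F : X.Modules} (hF : Coh.IsCoh F)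
    (h : CohB1.support F ⊆ ∅) : χt k F L = 0 := by
  haveI := CurveRR.isNoetherian_of_proper k X
  funext n
  have hd : topologicalKrullDim (∅ : Set X) ≤ 0 := by
    simp only [topologicalKrullDim, Order.krullDim, iSup_le_iff]
    exact fun p => by obtain ⟨⟨x, hx⟩, -⟩ := p.head.isIrreducible.nonempty; exact hx.elim
  have hv : ∀ i, 1 ≤ i → Subsingleton (Coh.HH X F i) := fun i hi =>
    SuppZero.subsingleton_hh_of_supported isClosed_empty hd F (fun x _ hx' => h hx') i hi
  have h0 : Curv2.euler k X F = 0 := by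
    rw [CurveRR.euler_eq_h0 hv, ← CurveRR.finrank_sec]
    haveI : Subsingleton Γ(F, ⊤) := ⟨fun a b => sub_eq_zero.mp
      (CurveRR.suppIn_of_subset h ⊤ _ fun y _ hy => hy)⟩
    simp [Module.finrank_zero_of_subsingleton]
  rw [χt, CurveRR.euler_eq_of_iso (TMul.commIso F _),
    CurveRR.euler_tensor_zeroDim hF isClosed_empty hd h (CurveRR.isFinLocFreeOfRank_one (isInvertible_N hL n)), h0]
  simp

/-- Snapper. -/
theorem χt_mem {L : Fin r → X.Modules} (hL : ∀ i, PicF.IsInvertible (L i)) : ∀ (D : ℕ) (F : X.Modules),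
    Coh.IsCoh F → topologicalKrullDim (CohB1.support F) < (D : WithBot ℕ∞) → χt k F L ∈ PS r D := by
  haveI := CurveRR.isNoetherian_of_proper k X
  intro D
  induction D with
  | zero =>
    intro F hF hd
    rw [χt_empty k hL hF]
    · exact zero_mem _
    intro x hx
    haveI : Nonempty (CohB1.support F) := ⟨⟨x, hx⟩⟩
    haveI : Nonempty (IrreducibleCloseds (CohB1.support F)) :=
      ⟨⟨_, (isIrreducible_singleton (x := (⟨x, hx⟩ : CohB1.support F))).closure, isClosed_closure⟩⟩
    exact absurd hd (not_lt.2 Order.krullDim_nonneg)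
  | succ D ih =>
    intro F hF hd
    let B : Closeds X := ⟨CohB1.support F, Groth.Agent.QC.isClosed_support hF.2⟩
    refine Devissage.twothree (fun F => χt k F L ∈ PS r (D + 1)) (fun M hM => ?_) B (fun S hS h₁ h₂ h₃ _ => ?_)
      (fun ξ hξ => Or.inr ⟨Devissage.A ξ, Devissage.isCoh_A ξ, Devissage.support_A_subset ξ,
        (Devissage.piece_A ξ).mem, (CurveRR.Multi.simpleAt_A ξ).1, ?_⟩) F hF le_rfl
    · rw [χt_empty k hL (CohFinite.isCoh_of_iso ((isZero_cokernel_of_epi (𝟙 (Coh.structureModule X))).iso hM)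
        (Groth.Agent.QC.isCoh_cokernel RefStalk.isCoh_structureModule.1 RefStalk.isCoh_structureModule _))]
      · exact zero_mem _
      exact fun x hx => hx (ModuleCat.subsingleton_of_isZero ((DerSch.stalkFunctor X x).map_isZero hM))
    · have h := χt_add k hL hS h₁ h₂ h₃
      exact ⟨fun a b => by have := sub_mem b a; rwa [h, add_sub_cancel_left] at this,
        fun a b => h ▸ add_mem a b, fun a b => by have := sub_mem a b; rwa [h, add_sub_cancel_right] at this⟩
    refine mem_of_shift fun i => ?_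
    have hcl : IsClosed (closure {ξ} : Set X) := isClosed_closure
    have hsubB : closure ({ξ} : Set X) ⊆ CohB1.support F :=
      closure_minimal (Set.singleton_subset_iff.mpr hξ) B.isClosed
    have hdim : topologicalKrullDim (closure {ξ} : Set X) < ((D + 1 : ℕ) : WithBot ℕ∞) :=
      lt_of_le_of_lt (Topology.IsEmbedding.inclusion hsubB).isInducing.topologicalKrullDim_le hd
    obtain ⟨e⟩ := nonempty_H_iso ξ (L i)
    have hH : Coh.IsCoh (H ξ (L i)) :=
      CohFinite.isCoh_of_iso e.symm (CurveRR.isCoh_tensor' (Devissage.isCoh_A ξ) (CurveRR.isCoh_of_inv (hL i)))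
    obtain ⟨P', a, b, ha, hb, hP', hca, hcb⟩ := exists_comparison ξ (hL i) hH
    have hsmall : ∀ Q : X.Modules, Coh.IsCoh Q → Devissage.IsSmall ξ Q → χt k Q L ∈ PS r D := fun Q hQ hs => by
      refine ih Q hQ ?_
      haveI : IrreducibleSpace (closure {ξ} : Set X) :=
        isIrreducible_iff_irreducibleSpace.mp isIrreducible_singleton.closure
      have h2 := FreeJ.dim_lt_of_proper hdim {y : (closure {ξ} : Set X) | y.1 ∈ CohB1.support Q}
        ((Groth.Agent.QC.isClosed_support hQ.2).preimage continuous_subtype_val)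
        (fun h => hs.2 (h.ge (Set.mem_univ ⟨ξ, subset_closure rfl⟩)))
      refine lt_of_le_of_lt ?_ h2
      exact Topology.IsInducing.topologicalKrullDim_le
        (f := fun y : CohB1.support Q => (⟨⟨y.1, hs.1 y.2⟩, y.2⟩ : {y : (closure {ξ} : Set X) | y.1 ∈ CohB1.support Q}))
        (Topology.IsInducing.subtypeVal.of_comp_iff.mp (Topology.IsInducing.subtypeVal.of_comp_iff.mp Topology.IsInducing.subtypeVal))
    have hA := Devissage.isCoh_A ξ
    have hcA := Groth.Agent.QC.isCoh_cokernel hP'.1 hA b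
    have hcH := Groth.Agent.QC.isCoh_cokernel hP'.1 hH a
    have h1 := χt_add k hL (Devissage.cokSeq_shortExact a) hP' hH hcH
    have h2 := χt_add k hL (Devissage.cokSeq_shortExact b) hP' hA hcA
    change χt k (H ξ (L i)) L = χt k P' L + χt k (cokernel a) L at h1
    change χt k (Devissage.A ξ) L = χt k P' L + χt k (cokernel b) L at h2
    have key : (fun n => χt k (Devissage.A ξ) L (n + Pi.single i 1) - χt k (Devissage.A ξ) L n) =
        χt k (cokernel a) L - χt k (cokernel b) L := by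
      funext n
      obtain ⟨w⟩ := nonempty_N_add L n i
      have : χt k (Devissage.A ξ) L (n + Pi.single i 1) = χt k (H ξ (L i)) L n := by
        rw [χt, χt, CurveRR.euler_eq_of_iso (PicGrp.tensorModIso (Iso.refl _) w ≪≫ (TMul.assocIso _ _ _).symm ≪≫
          PicGrp.tensorModIso e.symm (Iso.refl _))]
      rw [this, congrFun h1 n, congrFun h2 n]
      simp only [Pi.add_apply, Pi.sub_apply]
      ring
    rw [key]
    exact sub_mem (hsmall _ hcH hca) (hsmall _ hcA hcb)

theorem exists_polynomial {F : X.Modules} (hF : Coh.IsCoh F) {D : ℕ}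
    (hd : topologicalKrullDim (CohB1.support F) < (D : WithBot ℕ∞)) {L : Fin r → X.Modules}
    (hL : ∀ i, PicF.IsInvertible (L i)) :
    ∃ P : MvPolynomial (Fin r) ℚ, (∀ m ∈ P.support, (m.sum fun _ e => e) < D) ∧
      ∀ n : Fin r → ℕ, (Curv2.euler k X (Curv2.tensorPows F r L n) : ℚ) = MvPolynomial.eval (fun i => (n i : ℚ)) P := by
  obtain ⟨P, hP, h⟩ := exists_mvPolynomial (χt_mem k hL D F hF hd)
  refine ⟨P, hP, fun n => ?_⟩
  obtain ⟨e⟩ := nonempty_tensorPows_iso F L n
  rw [CurveRR.euler_eq_of_iso e]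
  exact h n

end Groth.Agent.Intersect
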