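import Groth.Agent.Intersect.Misc
import Groth.Agent.CurveRR.Deg
import Groth.Agent.CurveRR.Curve
import Groth.Agent.S1617
import Groth.Agent.S1618
import Groth.Agent.S5093

/-!
Zero loci of sections of invertible modules: support and dimension.
-/

set_option autoImplicit false
set_option backward.isDefEq.respectTransparency false
set_option linter.style.haveILetI false
set_option linter.unusedSectionVars false

universe u

open CategoryTheory CategoryTheory.Limits AlgebraicGeometry TopologicalSpace
open Groth.Agent.WeakAssLib (mgerm stalkHom)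

noncomputable section

namespace Groth.Agent.Intersect

variable {X : Scheme.{u}}

theorem support_coker_section {L : X.Modules} (hL : PicF.IsInvertible L) (s : Coh.structureModule X ⟶ L) [Mono s] :
    CohB1.support (cokernel s) = (CohB1.genLocus L s : Set X)ᶜ := by
  refine Set.ext fun x => ⟨fun hx hg => ?_, fun hx hsub => ?_⟩
  · haveI := isIso_stalk_of_mem_genLocus s hg
    exact CurveRR.notMem_support_coker s x
      (ConcreteCategory.bijective_of_isIso ((DerSch.stalkFunctor X x).map s)).2 hx
  · haveI : Subsingleton ((cokernel s).presheaf.stalk x) := hsub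
    obtain ⟨v, hv⟩ := exists_coeff_mem hL s hx
    obtain ⟨q, hq⟩ := Groth.Agent.WeakAssLib.stalk_exact _ (Devissage.cokSeq_shortExact s) x (v.symm 1)
      (Subsingleton.elim _ _)
    have h1 := hv q
    have e : ((DerSch.stalkFunctor X x).map s).hom q = v.symm 1 := hq
    rw [e, LinearEquiv.apply_symm_apply] at h1
    exact (IsLocalRing.maximalIdeal.isMaximal _).ne_top ((Ideal.eq_top_iff_one _).2 h1)

/-- A section of an invertible module vanishes along a proper generisation of each zero where the local
ring has dimension at least two. -/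
theorem exists_generization_zero [IsLocallyNoetherian X] {L : X.Modules} (hL : PicF.IsInvertible L)
    (s : Coh.structureModule X ⟶ L) {P : X} (hP : P ∉ CohB1.genLocus L s)
    (hd : ((2 : ℕ) : WithBot ℕ∞) ≤ ringKrullDim (X.presheaf.stalk P)) :
    ∃ y : X, y ⤳ P ∧ y ≠ P ∧ y ∉ CohB1.genLocus L s := by
  obtain ⟨U, e, hPU, he⟩ := TMul.exists_isGen hL P
  obtain ⟨c, hc⟩ := (he U le_rfl).2 (TMul.val s U)
  simp only [Groth.Agent.QC.res_self] at hc
  let f := (X.presheaf.germ U P hPU).hom c
  have hf : ¬ IsUnit f := fun h => hP ((TMul.mem_genLocus_iff_isUnit s he hc.symm hPU).2 h)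
  obtain ⟨p, hp⟩ := Ideal.nonempty_minimalPrimes (I := Ideal.span {f})
    (by rwa [ne_eq, Ideal.span_singleton_eq_top])
  haveI := hp.1.1
  haveI : (Ideal.span {f}).IsPrincipal := ⟨⟨f, rfl⟩⟩
  have h1 : p.height ≤ 1 := Ideal.height_le_one_of_isPrincipal_of_mem_minimalPrimes _ p hp
  have hne : p ≠ IsLocalRing.maximalIdeal (X.presheaf.stalk P) := fun h => by
    rw [h] at h1
    rw [← IsLocalRing.maximalIdeal_height_eq_ringKrullDim] at hd
    have h2 : ((2 : ℕ) : ℕ∞) ≤ (IsLocalRing.maximalIdeal (X.presheaf.stalk P)).height := WithBot.coe_le_coe.mp hd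
    have : ((2 : ℕ) : ℕ∞) ≤ 1 := h2.trans h1
    norm_num at this
  let q : PrimeSpectrum (X.presheaf.stalk P) := ⟨p, inferInstance⟩
  let y := X.fromSpecStalk P q
  have hy : y ⤳ P := by
    have : y ∈ Set.range (X.fromSpecStalk P) := ⟨q, rfl⟩
    rwa [Scheme.range_fromSpecStalk] at this
  refine ⟨y, hy, fun h => hne ?_, fun h => ?_⟩
  · have h2 : q = IsLocalRing.closedPoint (X.presheaf.stalk P) :=
      (X.fromSpecStalk P).isEmbedding.injective (h.trans Scheme.fromSpecStalk_closedPoint.symm)
    exact congrArg PrimeSpectrum.asIdeal h2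
  · have hyU : y ∈ U := hy.mem_open U.isOpen hPU
    have hb : y ∈ X.basicOpen c := (X.mem_basicOpen c y hyU).2 ((TMul.mem_genLocus_iff_isUnit s he hc.symm hyU).1 h)
    exact (Groth.Agent.S5093.fromSpecStalk_mem_basicOpen_iff P U hPU c q).1 hb
      (hp.1.2 (Ideal.mem_span_singleton_self f))

variable (k : Type u) [Field k] [X.Over (Spec (CommRingCat.of k))] [IsProper (X ↘ Spec (CommRingCat.of k))]

include k in
theorem dim_stalk_closed [IsIntegral X] {P : X} (hP : IsClosed ({P} : Set X)) :
    ringKrullDim (X.presheaf.stalk P) = topologicalKrullDim X := by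
  rw [← Groth.Agent.S1617.result k X P hP, FlatMor.localDim]
  haveI : Nonempty {U : TopologicalSpace.Opens X // P ∈ U} := ⟨⟨⊤, trivial⟩⟩
  exact le_antisymm ((iInf_le (fun U : {U : TopologicalSpace.Opens X // P ∈ U} => topologicalKrullDim (U.1 : Set X)) ⟨⊤, trivial⟩).trans_eq (Groth.Agent.S1618.result k X ⊤ ⟨P, trivial⟩))
    (le_iInf fun U => (Groth.Agent.S1618.result k X U.1 ⟨P, U.2⟩).ge)

include k in
/-- The zero locus of a nonzero section on an integral surface is empty or a curve. -/
theorem coker_section_cases [IsIntegral X] (hdim : topologicalKrullDim X = 2) {L : X.Modules}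
    (hL : PicF.IsInvertible L) (s : Coh.structureModule X ⟶ L) [Mono s] :
    IsIso s ∨ topologicalKrullDim (CohB1.support (cokernel s)) = ((1 : ℕ) : WithBot ℕ∞) := by
  haveI := CurveRR.isNoetherian_of_proper k X
  rw [support_coker_section hL s]
  by_cases h : (CohB1.genLocus L s : Set X)ᶜ.Nonempty
  · right
    have hcl : IsClosed (CohB1.genLocus L s : Set X)ᶜ := (CohB1.genLocus L s).isOpen.isClosed_compl
    obtain ⟨P, hP, hPc⟩ := hcl.exists_closed_singleton h
    have hgen : genericPoint X ∉ (CohB1.genLocus L s : Set X)ᶜ := fun hg => by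
      haveI := Preadditive.mono_iff_cancel_zero s
      obtain ⟨U, e, hηU, he⟩ := TMul.exists_isGen hL (genericPoint X)
      obtain ⟨c, hc⟩ := (he U le_rfl).2 (TMul.val s U)
      simp only [Groth.Agent.QC.res_self] at hc
      have hnu := fun hu => hg ((TMul.mem_genLocus_iff_isUnit s he hc.symm hηU).2 hu)
      have hz : (X.presheaf.germ U (genericPoint X) hηU).hom c = 0 := by
        by_contra hne
        exact hnu (isUnit_iff_ne_zero (G₀ := X.functionField).2 hne)
      haveI : Nonempty U := ⟨⟨_, hηU⟩⟩
      have hc0 : c = 0 := germ_injective_of_isIntegral X (genericPoint X) hηU (hz.trans (map_zero _).symm)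
      have h0 : s.app U (1 : Γ(X, U)) = 0 := by
        rw [TMul.app_eq_smul, ← hc, hc0]
        simp
      have := Groth.Agent.QC.app_injective_of_mono s U (h0.trans (map_zero _).symm)
      exact one_ne_zero (α := Γ(X, U)) this
    refine le_antisymm (le_of_lt_succ' ?_) ?_
    · refine dim_proper_lt (X := X) (ξ := genericPoint X) (n := 2) ?_ hcl (fun x _ => ?_) hgen
      · rw [genericPoint_closure]
        exact lt_succ_of_le' ((topologicalKrullDim_subspace_le X _).trans hdim.le)
      · rw [genericPoint_closure]
        trivial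
    · obtain ⟨y, hy, hne, hyg⟩ := exists_generization_zero hL s hP (by rw [dim_stalk_closed k hPc, hdim]; rfl)
      refine le_dim_closed_of_chain hcl ![P, y] (fun i => by fin_cases i <;> assumption) fun i j hij => ?_
      fin_cases i <;> fin_cases j <;> first | exact absurd hij (by decide) | exact ⟨hy, hne.symm⟩
  · left
    rw [Set.not_nonempty_iff_eq_empty, Set.compl_empty_iff] at h
    have hQ : IsZero (cokernel s) := Devissage.isZero_of_support
      (by rw [support_coker_section hL s, h, Set.compl_univ])
    haveI : Epi s := Preadditive.epi_of_isZero_cokernel s hQ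
    exact isIso_of_mono_of_epi s

theorem alt_coker_section {L : X.Modules} (hL : PicF.IsInvertible L) (s : Coh.structureModule X ⟶ L) [Mono s]
    {r : ℕ} {M : Fin r → X.Modules} (hM : ∀ i, PicF.IsInvertible (M i)) :
    alt (χt k (Coh.structureModule X) (Fin.cons L M)) = -alt (χt k (cokernel s) M) := by
  haveI := CurveRR.isNoetherian_of_proper k X
  have hO : Coh.IsCoh (Coh.structureModule X) := RefStalk.isCoh_structureModule
  have hLc := CurveRR.isCoh_of_inv hL
  have hQ := Groth.Agent.QC.isCoh_cokernel hO.1 hLc s
  have h := congrArg alt (χt_add k hM (Devissage.cokSeq_shortExact s) hO hLc hQ)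
  rw [alt_add] at h
  change alt (χt k L M) = alt (χt k (Coh.structureModule X) M) + alt (χt k (cokernel s) M) at h
  rw [alt_cons, χt_iso k (TMul.leftUnitIso L) M, h]
  ring

end Groth.Agent.Intersect
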