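import Groth.Agent.Intersect.Num

/-!
The leading part of the Snapper polynomial is the sum over top dimensional components.
-/

set_option autoImplicit false
set_option backward.isDefEq.respectTransparency false
set_option linter.style.haveILetI false
set_option linter.unusedSectionVars false

universe u

open CategoryTheory CategoryTheory.Limits AlgebraicGeometry TopologicalSpace Opposite
open Groth.Agent.CohFinite
open Groth.Agent.WeakAssLib (mgerm stalkHom)
open Groth.Agent.CurveRR.Multi (lenAt)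

noncomputable section

namespace Groth.Agent.Intersect

variable {X : Scheme.{u}} {r : ℕ}

theorem eq_of_dim {ξ y : X} {d : ℕ} (h : y ⤳ ξ) (hy : topologicalKrullDim (closure {y} : Set X) ≤ d)
    (hξ : topologicalKrullDim (closure {ξ} : Set X) = (d : WithBot ℕ∞)) : y = ξ := by
  by_contra hne
  haveI : IrreducibleSpace (closure {y} : Set X) := isIrreducible_iff_irreducibleSpace.mp isIrreducible_singleton.closure
  have hsub : closure ({ξ} : Set X) ⊆ closure {y} :=
    closure_minimal (Set.singleton_subset_iff.mpr h.mem_closure) isClosed_closure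
  have hlt : topologicalKrullDim (closure {y} : Set X) < ((d + 1 : ℕ) : WithBot ℕ∞) := lt_of_le_of_lt hy (by
    rw [show ((d + 1 : ℕ) : WithBot ℕ∞) = (((d + 1 : ℕ) : ℕ∞) : WithBot ℕ∞) from rfl,
      show ((d : ℕ) : WithBot ℕ∞) = ((d : ℕ∞) : WithBot ℕ∞) from rfl, WithBot.coe_lt_coe]
    exact_mod_cast Nat.lt_succ_self d)
  have h2 := FreeJ.dim_lt_of_proper hlt {z : (closure {y} : Set X) | z.1 ∈ closure ({ξ} : Set X)}
    (isClosed_closure.preimage continuous_subtype_val) (fun he => hne (by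
      have hm : y ∈ closure ({ξ} : Set X) := he.ge (Set.mem_univ ⟨y, subset_closure rfl⟩)
      exact (specializes_iff_mem_closure.mpr hm).antisymm h |>.eq.symm))
  refine absurd (lt_of_le_of_lt ?_ h2) (not_lt.mpr hξ.ge)
  exact Topology.IsInducing.topologicalKrullDim_le
    (f := fun z : (closure {ξ} : Set X) => (⟨⟨z.1, hsub z.2⟩, z.2⟩ : {z : (closure {y} : Set X) | z.1 ∈ closure ({ξ} : Set X)}))
    (Topology.IsInducing.subtypeVal.of_comp_iff.mp (Topology.IsInducing.subtypeVal.of_comp_iff.mp Topology.IsInducing.subtypeVal))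

theorem dim_closure_le {B : Set X} (hB : IsClosed B) {y : X} (hy : y ∈ B) :
    topologicalKrullDim (closure {y} : Set X) ≤ topologicalKrullDim B :=
  (Topology.IsEmbedding.inclusion (closure_minimal (Set.singleton_subset_iff.mpr hy) hB)).isInducing.topologicalKrullDim_le

/-- The points with closure of dimension `d`. -/
def top (B : Set X) (d : ℕ) : Set X := {ξ | ξ ∈ B ∧ topologicalKrullDim (closure ({ξ} : Set X)) = (d : WithBot ℕ∞)}

theorem eq_of_mem_top {B : Set X} (hB : IsClosed B) {d : ℕ} (hd : topologicalKrullDim B ≤ d) {ξ y : X}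
    (hξ : ξ ∈ top B d) (hy : y ∈ B) (h : y ⤳ ξ) : y = ξ :=
  eq_of_dim h ((dim_closure_le hB hy).trans hd) hξ.2

theorem finite_top [IsNoetherian X] {B : Set X} (hB : IsClosed B) {d : ℕ} (hd : topologicalKrullDim B ≤ d) :
    (top B d).Finite := by
  obtain ⟨S, hSf, hSc, hSi, hS⟩ := NoetherianSpace.exists_finite_set_isClosed_irreducible (α := X) hB
  haveI := hSf.to_subtype
  refine (Set.finite_range fun t : S => (hSi t.1 t.2).genericPoint).subset fun ξ hξ => ?_
  obtain ⟨t, ht, hξt⟩ : ξ ∈ ⋃₀ S := hS ▸ hξ.1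
  have hg := (hSi t ht).isGenericPoint_genericPoint (hSc t ht)
  refine ⟨⟨t, ht⟩, eq_of_mem_top hB hd hξ ?_ (hg.specializes hξt)⟩
  rw [hS]
  exact ⟨t, ht, hg.mem⟩

theorem isFiniteLength_stalk [IsNoetherian X] {F : X.Modules} (hF : Coh.IsCoh F) {B : Set X} (hFB : CohB1.support F ⊆ B)
    {ξ : X} (hmin : ∀ y ∈ B, y ⤳ ξ → y = ξ) :
    IsFiniteLength (X.presheaf.stalk ξ) (F.presheaf.stalk ξ) := by
  by_cases h : Nontrivial (F.presheaf.stalk ξ)
  · exact ((Groth.Agent.S4637.result F hF ξ).1 ⟨h, fun y hy hys => hmin y (hFB (fun hsub =>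
      not_subsingleton (F.presheaf.stalk y) hsub)) hys⟩).2
  · haveI := not_nontrivial_iff_subsingleton.1 h
    exact IsFiniteLength.of_subsingleton

theorem lenAt_add' [IsNoetherian X] {S : ShortComplex X.Modules} (hS : S.ShortExact) {ξ : X}
    (hfin : IsFiniteLength (X.presheaf.stalk ξ) (S.X₂.presheaf.stalk ξ)) :
    lenAt S.X₂ ξ = lenAt S.X₁ ξ + lenAt S.X₃ ξ := by
  have hT := hS.map_of_exact (DerSch.stalkFunctor X ξ)
  let f : S.X₁.presheaf.stalk ξ →ₗ[X.presheaf.stalk ξ] S.X₂.presheaf.stalk ξ :=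
    ((DerSch.stalkFunctor X ξ).map S.f).hom
  let g : S.X₂.presheaf.stalk ξ →ₗ[X.presheaf.stalk ξ] S.X₃.presheaf.stalk ξ :=
    ((DerSch.stalkFunctor X ξ).map S.g).hom
  have hexact : Function.Exact f g := LinearMap.exact_iff.mpr hT.exact.moduleCat_range_eq_ker.symm
  have hinj : Function.Injective f := (ModuleCat.mono_iff_injective _).1 hT.mono_f
  have hsurj : Function.Surjective g := (ModuleCat.epi_iff_surjective _).1 hT.epi_g
  have h := Module.length_eq_add_of_exact f g hinj hsurj hexact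
  have hne : Module.length (X.presheaf.stalk ξ) (S.X₂.presheaf.stalk ξ) ≠ ⊤ := Module.length_ne_top_iff.mpr hfin
  rw [h] at hne
  rw [lenAt, lenAt, lenAt, h, ENat.toNat_add (fun e => hne (by rw [e, top_add])) (fun e => hne (by rw [e, add_top]))]
  push_cast
  rfl

variable (k : Type u) [Field k] [X.Over (Spec (CommRingCat.of k))] [IsProper (X ↘ Spec (CommRingCat.of k))]

theorem comp_formula {L : Fin r → X.Modules} (hL : ∀ i, PicF.IsInvertible (L i)) {B : Set X} (hB : IsClosed B)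
    {d : ℕ} (hd : topologicalKrullDim B ≤ d) {F : X.Modules} (hF : Coh.IsCoh F) (hFB : CohB1.support F ⊆ B)
    (T : Finset X) (hT : ∀ ξ, ξ ∈ T ↔ ξ ∈ top B d) :
    χt k F L - ∑ ξ ∈ T, (lenAt F ξ : ℚ) • χt k (Devissage.A ξ) L ∈ PS r d := by
  haveI := CurveRR.isNoetherian_of_proper k X
  classical
  let Φ : X.Modules → ((Fin r → ℕ) → ℚ) := fun G =>
    χt k G L - ∑ ξ ∈ T, (lenAt G ξ : ℚ) • χt k (Devissage.A ξ) L
  refine Devissage.twothree (fun G => Φ G ∈ PS r d) (fun M hM => ?_) ⟨B, hB⟩ (fun S hS h₁ h₂ h₃ hSB => ?_)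
    (fun ξ hξ => Or.inr ⟨Devissage.A ξ, Devissage.isCoh_A ξ, Devissage.support_A_subset ξ,
      (Devissage.piece_A ξ).mem, (CurveRR.Multi.simpleAt_A ξ).1, ?_⟩) F hF hFB
  · have hsupp : CohB1.support M ⊆ ∅ := fun x hx =>
      hx (ModuleCat.subsingleton_of_isZero ((DerSch.stalkFunctor X x).map_isZero hM))
    have hMc := CohFinite.isCoh_of_iso ((isZero_cokernel_of_epi (𝟙 (Coh.structureModule X))).iso hM)
      (Groth.Agent.QC.isCoh_cokernel RefStalk.isCoh_structureModule.1 RefStalk.isCoh_structureModule _)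
    show Φ M ∈ _
    simp only [Φ, χt_empty k hL hMc hsupp, zero_sub]
    refine neg_mem (sum_mem fun ξ _ => ?_)
    rw [CurveRR.Multi.lenAt_eq_zero fun h => hsupp h]
    simp
  · have h : Φ S.X₂ = Φ S.X₁ + Φ S.X₃ := by
      simp only [Φ, χt_add k hL hS h₁ h₂ h₃]
      rw [Finset.sum_congr rfl fun ξ hξ => by
        rw [lenAt_add' hS (isFiniteLength_stalk h₂ hSB fun y hy hys => eq_of_mem_top hB hd ((hT ξ).1 hξ) hy hys),
          Int.cast_add, add_smul], Finset.sum_add_distrib]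
      abel
    exact ⟨fun a b => by have := sub_mem b a; rwa [h, add_sub_cancel_left] at this,
      fun a b => h ▸ add_mem a b, fun a b => by have := sub_mem a b; rwa [h, add_sub_cancel_right] at this⟩
  · show Φ (Devissage.A ξ) ∈ _
    have hz : ∀ ζ ∈ T, ζ ≠ ξ → lenAt (Devissage.A ξ) ζ = 0 := fun ζ hζ hne =>
      CurveRR.Multi.lenAt_eq_zero fun hm => hne (eq_of_mem_top hB hd ((hT ζ).1 hζ) hξ
        (specializes_iff_mem_closure.mpr (Devissage.support_A_subset ξ hm))).symm
    by_cases hξT : ξ ∈ T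
    · simp only [Φ]
      rw [Finset.sum_eq_single_of_mem ξ hξT fun ζ hζ hne => by rw [hz ζ hζ hne]; simp,
        (CurveRR.Multi.simpleAt_A ξ).2]
      simp
    · simp only [Φ]
      rw [Finset.sum_eq_zero fun ζ hζ => by rw [hz ζ hζ fun h => hξT (h ▸ hζ)]; simp, sub_zero]
      refine χt_mem k hL d _ (Devissage.isCoh_A ξ) ?_
      refine lt_of_le_of_lt (Topology.IsEmbedding.inclusion (Devissage.support_A_subset ξ)).isInducing.topologicalKrullDim_le ?_
      exact lt_of_le_of_ne ((dim_closure_le hB hξ).trans hd) fun h => hξT ((hT ξ).2 ⟨hξ, h⟩)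

theorem alt_comp (F : X.Modules) (hF : Coh.IsCoh F) (hd : topologicalKrullDim (CohB1.support F) ≤ r)
    {L : Fin r → X.Modules} (hL : ∀ i, PicF.IsInvertible (L i)) (T : Finset X)
    (hT : ∀ ξ, ξ ∈ T ↔ ξ ∈ top (CohB1.support F) r) :
    alt (χt k F L) = ∑ ξ ∈ T, (lenAt F ξ : ℚ) * alt (χt k (Devissage.A ξ) L) := by
  haveI := CurveRR.isNoetherian_of_proper k X
  have h := alt_eq_zero le_rfl (comp_formula k hL (Groth.Agent.QC.isClosed_support hF.2) hd hF le_rfl T hT)
  rw [← altL_apply, map_sub, map_sum, sub_eq_zero] at h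
  simpa [map_smul] using h

theorem euler_closure (ξ : X) {L : Fin r → X.Modules} (hL : ∀ i, PicF.IsInvertible (L i)) (n : Fin r → ℕ) :
    letI : ((Scheme.IdealSheafData.vanishingIdeal (Devissage.Zc ξ)).subscheme).Over (Spec (CommRingCat.of k)) :=
      ⟨Devissage.Zi ξ ≫ (X ↘ Spec (CommRingCat.of k))⟩
    (Curv2.euler k (Scheme.IdealSheafData.vanishingIdeal (Devissage.Zc ξ)).subscheme
      (Curv2.tensorPows (Coh.structureModule _) r (fun i => (Scheme.Modules.pullback (Devissage.Zi ξ)).obj (L i)) n) : ℚ) =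
      χt k (Devissage.A ξ) L n := by
  haveI := CurveRR.isNoetherian_of_proper k X
  haveI : IsLocallyNoetherian (Scheme.IdealSheafData.vanishingIdeal (Devissage.Zc ξ)).subscheme :=
    LocallyOfFiniteType.isLocallyNoetherian (Devissage.Zi ξ)
  obtain ⟨e⟩ := nonempty_H_iso ξ (N L n)
  obtain ⟨p⟩ := W7Cech.pullback_tensorPows (Devissage.Zi ξ) (Coh.structureModule X) L n
  obtain ⟨q⟩ := W7Cech.tensorPows_iso (F := (Scheme.Modules.pullback (Devissage.Zi ξ)).obj (Coh.structureModule X))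
    (F' := Coh.structureModule _) ⟨DerPerf.pullUnitIso _⟩
    (L := fun i => (Scheme.Modules.pullback (Devissage.Zi ξ)).obj (L i))
    (L' := fun i => (Scheme.Modules.pullback (Devissage.Zi ξ)).obj (L i)) (fun i => ⟨Iso.refl _⟩) n
  rw [χt, CurveRR.euler_eq_of_iso e.symm]
  refine congrArg (fun z : ℤ => (z : ℚ)) ?_
  rw [CurveRR.Multi.euler_push k (Devissage.Zi ξ) _ (CurveRR.isCoh_of_inv (fun x => ?_)).1]
  · letI : ((Scheme.IdealSheafData.vanishingIdeal (Devissage.Zc ξ)).subscheme).Over (Spec (CommRingCat.of k)) :=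
      ⟨Devissage.Zi ξ ≫ (X ↘ Spec (CommRingCat.of k))⟩
    exact (CurveRR.euler_eq_of_iso (p ≪≫ q)).symm
  · obtain ⟨U, hx, ⟨w⟩⟩ := CurveRR.Multi.isFinLocFreeOfRank_pullback (Devissage.Zi ξ)
      (CurveRR.isFinLocFreeOfRank_one (isInvertible_N hL n)) x
    exact ⟨U, hx, ⟨w ≪≫ coproductUniqueIso (fun _ : Fin 1 => Coh.structureModule (U : Scheme.{u}))⟩⟩

end Groth.Agent.Intersect
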