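import Groth.Agent.Intersect.PolyFun

/-!
The alternating sum over the cube reads off the coefficient of the product of all variables.
-/

set_option autoImplicit false

noncomputable section

namespace Groth.Agent.Intersect

variable {r : ℕ}

/-- The alternating sum over the vertices of the unit cube. -/
def alt (g : (Fin r → ℕ) → ℚ) : ℚ :=
  ∑ b : Fin r → Fin 2, (-1 : ℚ) ^ (∑ i, (b i : ℕ)) * g (fun i => (b i : ℕ))

theorem alt_add (f g : (Fin r → ℕ) → ℚ) : alt (f + g) = alt f + alt g := by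
  simp [alt, mul_add, Finset.sum_add_distrib]

theorem alt_sub (f g : (Fin r → ℕ) → ℚ) : alt (f - g) = alt f - alt g := by
  simp [alt, mul_sub, Finset.sum_sub_distrib]

theorem alt_smul (c : ℚ) (g : (Fin r → ℕ) → ℚ) : alt (c • g) = c * alt g := by
  simp [alt, Finset.mul_sum, mul_left_comm]

/-- `alt` as a linear map. -/
def altL (r : ℕ) : ((Fin r → ℕ) → ℚ) →ₗ[ℚ] ℚ where
  toFun := alt
  map_add' := alt_add
  map_smul' c g := alt_smul c g

@[simp] theorem altL_apply (g : (Fin r → ℕ) → ℚ) : altL r g = alt g := rfl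

theorem alt_succ (g : (Fin (r + 1) → ℕ) → ℚ) :
    alt g = alt (fun n => g (Fin.cons 0 n)) - alt (fun n => g (Fin.cons 1 n)) := by
  simp only [alt]
  rw [← (Fin.consEquiv fun _ : Fin (r + 1) => Fin 2).sum_comp, Fintype.sum_prod_type, Fin.sum_univ_two,
    sub_eq_add_neg, ← Finset.sum_neg_distrib]
  have hc : ∀ (a : Fin 2) (b : Fin r → Fin 2),
      (fun i : Fin (r + 1) => (((Fin.consEquiv fun _ : Fin (r + 1) => Fin 2) (a, b)) i : ℕ)) =
        Fin.cons (a : ℕ) (fun i => (b i : ℕ)) := fun a b => by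
    funext i
    refine Fin.cases ?_ (fun j => ?_) i <;> simp [Fin.consEquiv]
  congr 1 <;> refine Finset.sum_congr rfl fun b _ => ?_
  · rw [hc]; simp [Fin.sum_univ_succ, Fin.consEquiv]
  · rw [hc]; simp [Fin.sum_univ_succ, Fin.consEquiv, pow_add]

theorem alt_mon (e : Fin r → ℕ) : alt (mon e) = ∏ i, ((0 : ℚ) ^ e i - 1) := by
  have h : ∀ i, ((0 : ℚ) ^ e i - 1) = ∑ j : Fin 2, (-1 : ℚ) ^ (j : ℕ) * ((j : ℕ) : ℚ) ^ e i := fun i => by
    simp [Fin.sum_univ_two, sub_eq_add_neg]
  simp only [h, Fintype.prod_sum, alt, mon, Finset.prod_mul_distrib, Finset.prod_pow_eq_pow_sum]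

theorem alt_mon_of_le {e : Fin r → ℕ} (he : ∑ i, e i ≤ r) :
    alt (mon e) = if e = (fun _ => 1) then (-1 : ℚ) ^ r else 0 := by
  rw [alt_mon]
  split_ifs with h
  · simp [h]
  · obtain ⟨i, hi⟩ : ∃ i, e i = 0 := by
      by_contra! hne
      refine h (funext fun i => ?_)
      have h1 : ∀ j ∈ Finset.univ, (fun _ : Fin r => 1) j ≤ e j := fun j _ => Nat.one_le_iff_ne_zero.mpr (hne j)
      have := (Finset.sum_eq_sum_iff_of_le h1).1 (le_antisymm (Finset.sum_le_sum h1) (by simpa using he)) i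
        (Finset.mem_univ i)
      exact this.symm
    exact Finset.prod_eq_zero (Finset.mem_univ i) (by simp [hi])

theorem alt_eq_zero {D : ℕ} (hD : D ≤ r) {g : (Fin r → ℕ) → ℚ} (h : g ∈ PS r D) : alt g = 0 := by
  suffices h' : altL r g = 0 from h'
  refine Submodule.span_induction (p := fun x _ => altL r x = 0) ?_ (map_zero _)
    (fun a b _ _ ha hb => by rw [map_add, ha, hb, add_zero]) (fun c a _ ha => by rw [map_smul, ha, smul_zero]) h
  rintro _ ⟨e, he, rfl⟩
  have he : ∑ i, e i < D := he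
  rw [altL_apply, alt_mon_of_le (by omega), if_neg fun h => ?_]
  subst h
  simp at he
  omega

theorem coeff_eq_alt {g : (Fin r → ℕ) → ℚ} (h : g ∈ PS r (r + 1)) (P : MvPolynomial (Fin r) ℚ)
    (hP : ∀ n : Fin r → ℕ, g n = MvPolynomial.eval (fun i => (n i : ℚ)) P) :
    MvPolynomial.coeff (Finsupp.equivFunOnFinite.symm fun _ : Fin r => 1) P = (-1 : ℚ) ^ r * alt g := by
  classical
  obtain ⟨Q, hQ, hQg⟩ := exists_mvPolynomial h
  obtain rfl : P = Q := MvPolynomial.funext_set (fun _ : Fin r => Set.range ((↑) : ℕ → ℚ))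
    (fun _ => Set.infinite_range_of_injective Nat.cast_injective) fun x hx => by
      choose n hn using fun i => hx i (Set.mem_univ i)
      rw [show x = fun i => (n i : ℚ) from funext fun i => (hn i).symm, ← hP, ← hQg]
  set one : Fin r →₀ ℕ := Finsupp.equivFunOnFinite.symm fun _ : Fin r => 1 with hone
  have hg : g = ∑ m ∈ P.support, P.coeff m • mon ⇑m := by
    funext n
    rw [hP, MvPolynomial.eval_eq', Finset.sum_apply]
    exact Finset.sum_congr rfl fun m _ => by simp [mon]
  rw [← altL_apply, hg, map_sum]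
  simp only [map_smul, altL_apply, smul_eq_mul]
  have hle : ∀ m ∈ P.support, alt (mon ⇑m) = if m = one then (-1 : ℚ) ^ r else 0 := fun m hm => by
    have := hQ m hm
    rw [Finsupp.sum_fintype _ _ (fun _ => rfl)] at this
    rw [alt_mon_of_le (by omega)]
    exact if_congr ⟨fun h => Finsupp.ext fun i => by simp [hone, h], fun h => by funext i; simp [h, hone]⟩ rfl rfl
  rw [Finset.sum_congr rfl fun m hm => by rw [hle m hm]]
  simp only [mul_ite, mul_zero, Finset.sum_ite_eq']
  split_ifs with hm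
  · rw [mul_comm (P.coeff one), ← mul_assoc, ← pow_add, Even.neg_one_pow ⟨r, rfl⟩, one_mul]
  · exact MvPolynomial.notMem_support_iff.mp hm

end Groth.Agent.Intersect
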