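import Groth.Agent.Intersect.Snapper
import Groth.Agent.Intersect.Alt
import Groth.Agent.S4637
import Groth.Prelude.Def_FGA

/-!
Intersection numbers as alternating sums of Euler characteristics.
-/

set_option autoImplicit false
set_option backward.isDefEq.respectTransparency false
set_option linter.style.haveILetI false
set_option linter.unusedSectionVars false

universe u

open CategoryTheory CategoryTheory.Limits AlgebraicGeometry TopologicalSpace Opposite
open Groth.Agent.CohFinite

noncomputable section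

namespace Groth.Agent.Intersect

variable {X : Scheme.{u}} {r : ℕ}

theorem nonempty_N_zero : ∀ {r : ℕ} (L : Fin r → X.Modules), Nonempty (N L 0 ≅ Coh.structureModule X)
  | 0, _ => ⟨Iso.refl _⟩
  | r + 1, L => by
    obtain ⟨a⟩ := nonempty_N_zero (fun i : Fin r => L i.castSucc)
    exact ⟨PicGrp.tensorModIso a (Iso.refl _) ≪≫ TMul.leftUnitIso _⟩

/-- The exponent vector of a list of indices. -/
def expo : List (Fin r) → Fin r → ℕ
  | [] => 0
  | i :: l => expo l + Pi.single i 1

theorem expo_apply (l : List (Fin r)) (i : Fin r) : expo l i = l.count i := by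
  induction l with
  | nil => simp [expo]
  | cons a l ih =>
    rw [List.count_cons, expo, Pi.add_apply, ih, Pi.single_apply]
    by_cases h : a = i
    · simp [h]
    · simp [h, Ne.symm h]

theorem nonempty_tensorList_iso (M : Fin r → X.Modules) :
    ∀ l : List (Fin r), Nonempty (FGA.tensorList (l.map M) ≅ N M (expo l))
  | [] => let ⟨a⟩ := nonempty_N_zero M; ⟨a.symm⟩
  | i :: l => by
    obtain ⟨a⟩ := nonempty_tensorList_iso M l
    obtain ⟨b⟩ := nonempty_N_add M (expo l) i
    exact ⟨PicGrp.tensorModIso (Iso.refl _) a ≪≫ b.symm⟩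

/-- The subset of a vertex of the cube. -/
def cubeEquiv (r : ℕ) : (Fin r → Fin 2) ≃ Finset (Fin r) where
  toFun b := Finset.univ.filter fun i => b i = 1
  invFun I i := if i ∈ I then 1 else 0
  left_inv b := by
    funext i
    have : ∀ x : Fin 2, (if x = 1 then (1 : Fin 2) else 0) = x := by decide
    simpa using this (b i)
  right_inv I := by
    ext i
    by_cases h : i ∈ I <;> simp [h]

variable (k : Type u) [Field k] [X.Over (Spec (CommRingCat.of k))] [IsProper (X ↘ Spec (CommRingCat.of k))]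

theorem eulerCharLE_eq (d : ℕ) (hd : topologicalKrullDim X ≤ d) (F : X.Modules) :
    FGA.eulerCharLE k X F d = Curv2.euler k X F := by
  haveI := CurveRR.isNoetherian_of_proper k X
  exact (CurveRR.euler_eq_sum F (d + 1) fun i hi =>
    Groth.Agent.S0458.result (X := X.toPresheafedSpace.carrier) d hd (Coh.toAb F) i (by omega)).symm

theorem intNum_eq_alt (d : ℕ) (hd : topologicalKrullDim X ≤ d) (M : Fin r → X.Modules) (F : X.Modules) :
    (FGA.intNum k X d M F : ℚ) = alt (χt k F M) := by
  rw [FGA.intNum, Int.cast_sum, alt, ← (cubeEquiv r).sum_comp]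
  refine Finset.sum_congr rfl fun b _ => ?_
  obtain ⟨e⟩ := nonempty_tensorList_iso M ((cubeEquiv r b).sort (· ≤ ·))
  have hv : ∀ x : Fin 2, (x : ℕ) = if x = 1 then 1 else 0 := by decide
  have hn : expo ((cubeEquiv r b).sort (· ≤ ·)) = fun i => (b i : ℕ) := by
    funext i
    rw [expo_apply, List.Nodup.count (Finset.sort_nodup _ _), hv (b i)]
    simp [cubeEquiv]
  have hc : (cubeEquiv r b).card = ∑ i, (b i : ℕ) := by
    rw [Finset.sum_congr rfl fun i _ => hv (b i), Finset.sum_boole]
    simp [cubeEquiv]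
  rw [eulerCharLE_eq k d hd, CurveRR.euler_eq_of_iso (PicGrp.tensorModIso e (Iso.refl F) ≪≫ TMul.commIso _ _),
    hn, hc]
  simp [χt]

theorem PS_of_le {F : X.Modules} (hF : Coh.IsCoh F) {L : Fin r → X.Modules} (hL : ∀ i, PicF.IsInvertible (L i))
    {D : ℕ} (hr : topologicalKrullDim (CohB1.support F) ≤ D) : χt k F L ∈ PS r (D + 1) :=
  χt_mem k hL (D + 1) F hF (lt_of_le_of_lt hr (by
    rw [show ((D + 1 : ℕ) : WithBot ℕ∞) = (((D + 1 : ℕ) : ℕ∞) : WithBot ℕ∞) from rfl,
      show ((D : ℕ) : WithBot ℕ∞) = ((D : ℕ∞) : WithBot ℕ∞) from rfl, WithBot.coe_lt_coe]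
    exact_mod_cast Nat.lt_succ_self D))

theorem intNum_eq_zero (d : ℕ) (hd : topologicalKrullDim X ≤ d) {M : Fin r → X.Modules}
    (hM : ∀ i, PicF.IsInvertible (M i)) {F : X.Modules} (hF : Coh.IsCoh F)
    (hr : topologicalKrullDim (CohB1.support F) < r) : FGA.intNum k X d M F = 0 := by
  have h : (FGA.intNum k X d M F : ℚ) = 0 := by
    rw [intNum_eq_alt k d hd]
    exact alt_eq_zero le_rfl (χt_mem k hM r F hF hr)
  exact_mod_cast h

theorem exists_coeff_eq (F : X.Modules) (hF : Coh.IsCoh F) {L : Fin r → X.Modules}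
    (hL : ∀ i, PicF.IsInvertible (L i)) (hr : topologicalKrullDim (CohB1.support F) ≤ r)
    (P : MvPolynomial (Fin r) ℚ)
    (hP : ∀ n : Fin r → ℕ, (Curv2.euler k X (Curv2.tensorPows F r L n) : ℚ) = MvPolynomial.eval (fun i => (n i : ℚ)) P) :
    MvPolynomial.coeff (Finsupp.equivFunOnFinite.symm fun _ : Fin r => 1) P = (-1 : ℚ) ^ r * alt (χt k F L) :=
  coeff_eq_alt (PS_of_le k hF hL hr) P fun n => by
    obtain ⟨e⟩ := nonempty_tensorPows_iso F L n
    rw [← hP, CurveRR.euler_eq_of_iso e]
    rfl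

theorem alt_int (F : X.Modules) (L : Fin r → X.Modules) : ∃ z : ℤ, alt (χt k F L) = (z : ℚ) :=
  ⟨∑ b : Fin r → Fin 2, (-1 : ℤ) ^ (∑ i, (b i : ℕ)) *
    Curv2.euler k X (CohB1.tensorMod F (N L fun i => (b i : ℕ))), by simp [alt, χt]⟩

end Groth.Agent.Intersect
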