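import Groth.Agent.Intersect.ProperInt
import Groth.Agent.Intersect.Surface
import Groth.Agent.CMFlat.Quotient
import Groth.Agent.RegDual.Scheme

/-!
Finite intersections: `h⁰` and the dimension of local rings at closed points.
-/

set_option autoImplicit false
set_option backward.isDefEq.respectTransparency false
set_option linter.style.haveILetI false
set_option linter.unusedSectionVars false

universe u

open CategoryTheory CategoryTheory.Limits AlgebraicGeometry TopologicalSpace

noncomputable section

namespace Groth.Agent.Intersect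

variable {X : Scheme.{u}}

theorem dim_le_zero_of_closedPoints {B : Set X} (hB : IsClosed B) (h : ∀ y ∈ B, IsClosed ({y} : Set X)) :
    topologicalKrullDim B ≤ 0 := by
  refine le_of_lt_succ' (n := 0) (not_le.1 fun h1 => ?_)
  obtain ⟨c, hm, hc⟩ := exists_chain_closed hB h1
  exact (hc 0 1 (by decide)).2 ((hc 0 1 (by decide)).1.mem_closed (h _ (hm 1)) rfl)

theorem depth_self (R : Type u) [CommRing R] [LocCoh.IsCohenMacaulayLocalRing R] :
    ((LocCoh.depth R R : ℕ∞) : WithBot ℕ∞) = ringKrullDim R := by
  rw [← LocCoh.IsCohenMacaulayLocalRing.supportDim_eq_depth, Module.supportDim_self_eq_ringKrullDim]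

theorem depth_structure (x : X) [LocCoh.IsCohenMacaulayLocalRing (X.presheaf.stalk x)] {n : ℕ}
    (h : ringKrullDim (X.presheaf.stalk x) = (n : WithBot ℕ∞)) :
    LocCoh.depth (X.presheaf.stalk x) ((Coh.structureModule X).presheaf.stalk x) = (n : ℕ∞) := by
  obtain ⟨E, -⟩ := RefStalk.exists_structStalk (X := X) x
  have h1 := depth_self (X.presheaf.stalk x)
  rw [h] at h1
  rw [LocCoh.depth, ← Groth.Agent.LocH.idealDepth_congr E]
  exact (WithBot.coe_inj.mp (show ((LocCoh.idealDepth _ _ : ℕ∞) : WithBot ℕ∞) = ((n : ℕ∞) : WithBot ℕ∞) from h1))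

variable (k : Type u) [Field k] [X.Over (Spec (CommRingCat.of k))] [IsProper (X ↘ Spec (CommRingCat.of k))]

theorem intNum_eq_finrank_h0 (d : ℕ) (hd : topologicalKrullDim X ≤ d) {r : ℕ} (I : Fin r → X.IdealSheafData)
    (hI : ∀ j, BlowUp.IsEffCartierIdeal (I j)) {F : X.Modules} (hF : Coh.IsCoh F)
    (hfin : ((⨆ j, I j).support ∩ CohB1.support F : Set X).Finite)
    (hdep : ∀ x ∈ ((⨆ j, I j).support ∩ CohB1.support F : Set X),
      (r : ℕ∞) ≤ LocCoh.depth (X.presheaf.stalk x) (F.presheaf.stalk x)) :
    FGA.intNum k X d (fun j => ClSub.idealMod (I j)) F =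
      Module.finrank k (Coh.HH X (CohB1.tensorMod F (ClSub.quotMod (⨆ j, I j))) 0) := by
  haveI := CurveRR.isNoetherian_of_proper k X
  haveI : JacobsonSpace X := LocallyOfFiniteType.jacobsonSpace (X ↘ Spec (CommRingCat.of k))
  have hclosed : IsClosed ((⨆ j, I j).support ∩ CohB1.support F : Set X) :=
    (⨆ j, I j).support.isClosed.inter (Groth.Agent.QC.isClosed_support hF.2)
  let G := CohB1.tensorMod F (ClSub.quotMod (⨆ j, I j))
  have hsub : CohB1.support G ⊆ ((⨆ j, I j).support ∩ CohB1.support F : Set X) := fun x hx => by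
    refine ⟨?_, support_tensor_subset (Groth.Agent.QC.isClosed_support hF.2) le_rfl _ hx⟩
    refine support_tensor_subset (⨆ j, I j).support.isClosed (CurveRR.support_quotMod _) F ?_
    intro hs
    exact hx (((DerSch.stalkFunctor X x).mapIso
      (TMul.commIso F (ClSub.quotMod (⨆ j, I j)))).toLinearEquiv.toEquiv.subsingleton_congr.2 hs)
  have hv : ∀ i, 1 ≤ i → Subsingleton (Coh.HH X G i) := fun i hi =>
    SuppZero.subsingleton_hh_of_supported hclosed
      (dim_le_zero_of_closedPoints hclosed fun y hy => isClosed_singleton_of_finite hclosed hfin hy) G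
      (fun x hx hx' => hx (hsub hx')) i hi
  have h := alt_inter k r I hI F hF hfin hdep
  rw [← intNum_eq_alt k d hd] at h
  rw [CurveRR.euler_eq_h0 hv] at h
  exact_mod_cast h

/-- Two effective Cartier divisors meeting in finitely many points of local rings of depth two. -/
theorem intNum_pair_eq_finrank (d : ℕ) (hd : topologicalKrullDim X ≤ d) (IC ID : X.IdealSheafData)
    (hC : BlowUp.IsEffCartierIdeal IC) (hD : BlowUp.IsEffCartierIdeal ID)
    (hfin : ((IC ⊔ ID).support : Set X).Finite)
    (hdep : ∀ x ∈ ((IC ⊔ ID).support : Set X), IsClosed ({x} : Set X) →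
      ((2 : ℕ) : ℕ∞) ≤ LocCoh.depth (X.presheaf.stalk x) ((Coh.structureModule X).presheaf.stalk x)) :
    FGA.intNum k X d ![ClSub.idealMod IC, ClSub.idealMod ID] (Coh.structureModule X) =
      (Module.finrank k (Coh.HH X (ClSub.quotMod (IC ⊔ ID)) 0) : ℤ) := by
  haveI := CurveRR.isNoetherian_of_proper k X
  haveI : JacobsonSpace X := LocallyOfFiniteType.jacobsonSpace (X ↘ Spec (CommRingCat.of k))
  let I : Fin 2 → X.IdealSheafData := ![IC, ID]
  have hT : (⨆ j, I j) = IC ⊔ ID := le_antisymm (iSup_le fun j => by fin_cases j <;> simp [I])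
    (sup_le (le_iSup I 0) (le_iSup I 1))
  have h := intNum_eq_finrank_h0 k d hd I (fun j => by fin_cases j <;> assumption)
    (F := Coh.structureModule X) RefStalk.isCoh_structureModule (hT ▸ hfin.inter_of_left _) fun x hx => by
      rw [hT] at hx
      exact hdep x hx.1 (isClosed_singleton_of_finite (IC ⊔ ID).support.isClosed hfin hx.1)
  rw [hT, show (fun j => ClSub.idealMod (I j)) = ![ClSub.idealMod IC, ClSub.idealMod ID] from
    funext fun j => by fin_cases j <;> rfl] at h
  rw [h, Nat.cast_inj]
  exact CurveRR.h_eq_of_iso (TMul.leftUnitIso _) 0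

include k in
theorem dim_stalk_closed_of_components {d : ℕ}
    (hdim : ∀ Z ∈ irreducibleComponents (X : Type u), topologicalKrullDim Z = (d : WithBot ℕ∞))
    {P : X} (hP : IsClosed ({P} : Set X)) :
    topologicalKrullDim X ≤ d ∧ ringKrullDim (X.presheaf.stalk P) = (d : WithBot ℕ∞) := by
  haveI := CurveRR.isNoetherian_of_proper k X
  have hle : topologicalKrullDim X ≤ d := by
    refine le_of_lt_succ' (not_le.1 fun h => ?_)
    obtain ⟨c, hc⟩ := exists_chain (T := X) h
    let Z := irreducibleComponent (c (Fin.last (d + 1)))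
    have hm : ∀ i, c i ∈ Z := fun i => by
      rcases (Fin.le_last i).lt_or_eq with h | h
      · exact (hc _ _ h).1.mem_closed isClosed_irreducibleComponent mem_irreducibleComponent
      · exact h ▸ mem_irreducibleComponent
    have h' := le_dim_closed_of_chain isClosed_irreducibleComponent c hm hc
    rw [hdim Z (irreducibleComponent_mem_irreducibleComponents _)] at h'
    exact absurd (CartierDim.natCast_le_withBot.1 h') (by omega)
  refine ⟨hle, le_antisymm ((RegDual.ringKrullDim_stalk_le_topologicalKrullDim P).trans hle) ?_⟩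
  have hZc : IsClosed (irreducibleComponent P) := isClosed_irreducibleComponent
  have hZi : IsIrreducible (irreducibleComponent P) := isIrreducible_irreducibleComponent
  obtain ⟨η, hη⟩ : ∃ η : X, IsGenericPoint η (irreducibleComponent P) := ⟨_, hZi.isGenericPoint_genericPoint hZc⟩
  let Z := (Scheme.IdealSheafData.vanishingIdeal (Devissage.Zc η)).subscheme
  let i : Z ⟶ X := Devissage.Zi η
  letI : Z.Over (Spec (CommRingCat.of k)) := ⟨i ≫ (X ↘ Spec (CommRingCat.of k))⟩
  haveI : IsProper (Z ↘ Spec (CommRingCat.of k)) := inferInstanceAs (IsProper (i ≫ _))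
  have hr : Set.range i = irreducibleComponent P := (Devissage.range_Zi η).trans hη
  haveI : IsIntegral Z := Devissage.Zi_isIntegral η
  obtain ⟨z, hz⟩ : P ∈ Set.range i := hr ▸ mem_irreducibleComponent
  have hzc : IsClosed ({z} : Set Z) := by
    rw [show ({z} : Set Z) = i ⁻¹' {P} from Set.ext fun w => ⟨fun h => by
      rw [Set.mem_singleton_iff.1 h]; exact hz, fun h => i.isClosedEmbedding.injective (h.trans hz.symm)⟩]
    exact hP.preimage i.continuous
  have hdZ : topologicalKrullDim Z = (d : WithBot ℕ∞) := by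
    rw [i.isClosedEmbedding.isEmbedding.toHomeomorph.isHomeomorph.topologicalKrullDim_eq, hr,
      hdim _ (irreducibleComponent_mem_irreducibleComponents P)]
  rw [← hdZ, ← dim_stalk_closed k hzc, ← hz]
  exact ringKrullDim_le_of_surjective (i.stalkMap z).hom (i.stalkMap_surjective z)

end Groth.Agent.Intersect
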