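import Groth.Agent.Intersect.ProjSpace
import Groth.Agent.Intersect.Misc
import Groth.Agent.TMul.Pullback

/-!
The two top coefficients of Hilbert polynomials.
-/

set_option autoImplicit false
set_option backward.isDefEq.respectTransparency false
set_option linter.style.haveILetI false

universe u

open CategoryTheory CategoryTheory.Limits AlgebraicGeometry TopologicalSpace

noncomputable section

namespace Groth.Agent.Intersect

theorem binom_coeff_unique : ∀ (D N : ℕ) (β : ℕ → ℚ),
    (∀ m, N ≤ m → ∑ i ∈ Finset.range (D + 1), ((m + i - 1).choose i : ℚ) * β i = 0) → ∀ i ≤ D, β i = 0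
  | 0, N, β, h, i, hi => by
    obtain rfl := Nat.le_zero.mp hi
    simpa using h N le_rfl
  | D + 1, N, β, h, i, hi => by
    have hd : ∀ j ≤ D, β (j + 1) = 0 := by
      refine binom_coeff_unique D (N + 1) (fun j => β (j + 1)) fun m hm => ?_
      obtain ⟨p, rfl⟩ : ∃ p, m = p + 1 := ⟨m - 1, by omega⟩
      have h1 := h (p + 1) (by omega)
      have h2 := h p (by omega)
      rw [Finset.sum_range_succ'] at h1 h2
      simp only [Nat.choose_zero_right, Nat.cast_one, one_mul] at h1 h2
      have e : ∀ j, ((p + 1 + (j + 1) - 1).choose (j + 1) : ℚ) * β (j + 1) =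
          ((p + 1 + j - 1).choose j : ℚ) * β (j + 1) + ((p + (j + 1) - 1).choose (j + 1) : ℚ) * β (j + 1) := fun j => by
        rw [show p + 1 + (j + 1) - 1 = (p + j) + 1 by omega, Nat.choose_succ_succ, show p + 1 + j - 1 = p + j by omega,
          show p + (j + 1) - 1 = p + j by omega]
        push_cast; ring
      rw [Finset.sum_congr rfl fun j _ => e j, Finset.sum_add_distrib] at h1
      linarith
    rcases i with _ | j
    · have h1 := h N le_rfl
      rw [Finset.sum_range_succ', Finset.sum_eq_zero fun j hj => by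
        rw [hd j (Nat.lt_succ_iff.mp (Finset.mem_range.mp hj)), mul_zero]] at h1
      simpa using h1
    · exact hd j (by omega)

/-- Top coefficients in the basis `C(m + j, j)` from those in the basis `C(m + i - 1, i)`. -/
theorem coeff_top (s : ℕ) (α : ℕ → ℚ) (a : Fin (s + 2) → ℤ)
    (h : ∀ m : ℕ, ∑ i ∈ Finset.range (s + 1 + 1), ((m + i - 1).choose i : ℚ) * α i =
      ∑ j : Fin (s + 2), (a j : ℚ) * ((m + j).choose j : ℚ)) :
    (a (Fin.last (s + 1)) : ℚ) = α (s + 1) ∧
      (a (Fin.castSucc (Fin.last s)) : ℚ) = α s - α (s + 1) := by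
  let b : ℕ → ℚ := fun j => if hj : j < s + 2 then (a ⟨j, hj⟩ : ℚ) else 0
  have hb : ∀ m : ℕ, ∑ j : Fin (s + 2), (a j : ℚ) * ((m + j).choose j : ℚ) =
      ∑ i ∈ Finset.range (s + 1 + 1), ((m + i - 1).choose i : ℚ) * ∑ j ∈ Finset.Ico i (s + 1 + 1), b j := fun m => by
    calc ∑ j : Fin (s + 2), (a j : ℚ) * ((m + j).choose j : ℚ)
        = ∑ j ∈ Finset.range (s + 1 + 1), b j * ((m + j).choose j : ℚ) := by
          rw [Finset.sum_range]
          exact Finset.sum_congr rfl fun j _ => by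
            simp only [b, dif_pos (show (j : ℕ) < s + 2 from j.2)]
      _ = ∑ j ∈ Finset.range (s + 1 + 1), ∑ i ∈ Finset.range (j + 1), b j * ((m + i - 1).choose i : ℚ) :=
          Finset.sum_congr rfl fun j _ => by rw [sum_choose, Nat.cast_sum, Finset.mul_sum]
      _ = ∑ i ∈ Finset.range (s + 1 + 1), ∑ j ∈ Finset.Ico i (s + 1 + 1), b j * ((m + i - 1).choose i : ℚ) :=
          Finset.sum_comm' fun j i => by simp only [Finset.mem_range, Finset.mem_Ico]; omega
      _ = _ := Finset.sum_congr rfl fun i _ => by rw [Finset.mul_sum]; exact Finset.sum_congr rfl fun j _ => mul_comm _ _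
  have hu := binom_coeff_unique (s + 1) 0 (fun i => α i - ∑ j ∈ Finset.Ico i (s + 1 + 1), b j) fun m _ => by
    simp only [mul_sub, Finset.sum_sub_distrib]
    rw [h m, hb m, sub_self]
  have h1 := sub_eq_zero.1 (hu (s + 1) le_rfl)
  have h2 := sub_eq_zero.1 (hu s (Nat.le_succ s))
  rw [Finset.sum_Ico_eq_sum_range, show s + 1 + 1 - (s + 1) = 1 by omega, Finset.sum_range_one] at h1
  rw [Finset.sum_Ico_eq_sum_range, show s + 1 + 1 - s = 2 by omega, Finset.sum_range_succ, Finset.sum_range_one] at h2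
  have hb1 : b (s + 1) = (a (Fin.last (s + 1)) : ℚ) := dif_pos (by omega)
  have hb0 : b s = (a (Fin.castSucc (Fin.last s)) : ℚ) := dif_pos (by omega)
  simp only [add_zero, hb1, hb0] at h1 h2
  exact ⟨h1.symm, by linarith⟩

theorem dim_le_of_le {X : Scheme.{u}} {F : X.Modules} {d : ℕ} (h : topologicalKrullDim X ≤ d) :
    topologicalKrullDim (CohB1.support F) ≤ d :=
  (topologicalKrullDim_subspace_le X _).trans h

theorem hilbert_top {k : Type u} [Field k] {X : Scheme.{u}} [X.Over (Spec (CommRingCat.of k))]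
    [IsProper (X ↘ Spec (CommRingCat.of k))] (s : ℕ) (hdim : topologicalKrullDim X ≤ ((s + 1 : ℕ) : WithBot ℕ∞))
    {L L' : X.Modules} (hL : PicF.IsInvertible L) (hLL' : Nonempty (CohB1.tensorMod L L' ≅ Coh.structureModule X))
    {H : ℕ → X.Modules} {H₁ H' : X.Modules} (hH : PicF.IsInvertible H₁) (hH' : PicF.IsInvertible H')
    (eH : CohB1.tensorMod H₁ H' ≅ Coh.structureModule X) (hpow : ∀ m, Nonempty (H m ≅ CohB1.tensorPow H₁ m))
    (a e : Fin (s + 2) → ℤ)
    (ha : ∀ m : ℕ, FGA.eulerCharLE k X (CohB1.tensorMod L (H m)) (s + 1) = ∑ j : Fin (s + 2), a j * ((m + j).choose j : ℤ))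
    (he : ∀ m : ℕ, FGA.eulerCharLE k X (CohB1.tensorMod (Coh.structureModule X) (H m)) (s + 1) =
      ∑ j : Fin (s + 2), e j * ((m + j).choose j : ℤ)) :
    a (Fin.last (s + 1)) = e (Fin.last (s + 1)) ∧
      a (Fin.last (s + 1)) = FGA.intNum k X (s + 1) (fun _ : Fin (s + 1) => H') (Coh.structureModule X) ∧
      a (Fin.castSucc (Fin.last s)) - e (Fin.castSucc (Fin.last s)) =
        FGA.intNum k X (s + 1) (Matrix.vecCons L' (fun _ : Fin s => H')) (Coh.structureModule X) := by
  haveI := CurveRR.isNoetherian_of_proper k X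
  have hO : Coh.IsCoh (Coh.structureModule X) := RefStalk.isCoh_structureModule
  have hLc := CurveRR.isCoh_of_inv hL
  have hL' := isInvertible_inverse hL hLL'
  have conv : ∀ (F : X.Modules), Coh.IsCoh F → ∀ c : Fin (s + 2) → ℤ,
      (∀ m : ℕ, FGA.eulerCharLE k X (CohB1.tensorMod F (H m)) (s + 1) = ∑ j : Fin (s + 2), c j * ((m + j).choose j : ℤ)) →
      (c (Fin.last (s + 1)) : ℚ) = alt (χt k F fun _ : Fin (s + 1) => H') ∧
        (c (Fin.castSucc (Fin.last s)) : ℚ) = alt (χt k F fun _ : Fin s => H') - alt (χt k F fun _ : Fin (s + 1) => H') := by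
    intro F hF c hc
    refine coeff_top s (fun i => alt (χt k F fun _ : Fin i => H')) c fun m => ?_
    obtain ⟨p⟩ := hpow m
    have h1 := euler_pow_eq_binSum k hH hH' eH (s + 1) m F hF (lt_succ_of_le' (dim_le_of_le hdim))
    rw [CurveRR.euler_eq_of_iso (TMul.commIso _ _ ≪≫ PicGrp.tensorModIso (Iso.refl F) p.symm),
      ← eulerCharLE_eq k (s + 1) hdim, hc m, binSum] at h1
    rw [← h1]
    push_cast
    rfl
  obtain ⟨a1, a0⟩ := conv L hLc a ha
  obtain ⟨e1, e0⟩ := conv _ hO e he
  have hdiff : ∀ (r : ℕ) (M : Fin r → X.Modules), (∀ i, PicF.IsInvertible (M i)) →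
      alt (χt k L M) = alt (χt k (Coh.structureModule X) M) - alt (χt k (Coh.structureModule X) (Fin.cons L M)) := by
    intro r M _
    rw [alt_cons, χt_iso k (TMul.leftUnitIso L) M]
    ring
  have hMi : ∀ r, ∀ i : Fin r, PicF.IsInvertible ((fun _ : Fin r => H') i) := fun r _ => hH'
  have htop : alt (χt k (Coh.structureModule X) (Fin.cons L (fun _ : Fin (s + 1) => H'))) = 0 :=
    alt_eq_zero_of_dim k hO (isInvertible_cons hL (hMi _)) (lt_succ_of_le' (dim_le_of_le hdim))
  have e01 : (a (Fin.last (s + 1)) : ℚ) = e (Fin.last (s + 1)) := by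
    rw [a1, e1, hdiff _ _ (hMi _), htop, sub_zero]
  refine ⟨by exact_mod_cast e01, ?_, ?_⟩
  · have h : (a (Fin.last (s + 1)) : ℚ) = (FGA.intNum k X (s + 1) (fun _ : Fin (s + 1) => H') (Coh.structureModule X) : ℚ) := by
      rw [e01, e1, intNum_eq_alt k (s + 1) hdim]
    exact_mod_cast h
  · obtain ⟨f⟩ := hLL'
    have hadd := alt_additive k hO hL hL' (hMi s) (lt_of_lt_of_le (lt_succ_of_le' (dim_le_of_le hdim)) le_rfl)
    rw [alt_cons_iso k _ f, alt_cons_unit] at hadd
    have h : ((a (Fin.castSucc (Fin.last s)) - e (Fin.castSucc (Fin.last s)) : ℤ) : ℚ) =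
        (FGA.intNum k X (s + 1) (Matrix.vecCons L' (fun _ : Fin s => H')) (Coh.structureModule X) : ℚ) := by
      rw [Int.cast_sub, a0, e0, ← a1, ← e1, e01, intNum_eq_alt k (s + 1) hdim, hdiff _ _ (hMi _)]
      show _ = alt (χt k _ (Fin.cons L' (fun _ : Fin s => H')))
      linarith
    exact_mod_cast h

end Groth.Agent.Intersect
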